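import Cfsg.Agent.Quad.Reflect
import Mathlib.Algebra.Group.Subgroup.Basic

/-!
Bridges between the matrix definitions and linear maps; determinants; pairs of reflections.
-/

set_option autoImplicit false
set_option linter.style.haveILetI false

namespace CfsgLib.Quad

open QuadraticMap CfsgLib.Forms Matrix

variable {F : Type*} [Field F] {ι : Type} [Fintype ι] [DecidableEq ι]

theorem polarVec_dot (Q : QuadraticForm F (ι → F)) (v x : ι → F) :
    Cfsg.polarVec ⇑Q v ⬝ᵥ x = polar Q v x := by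
  have h : x = ∑ j, x j • (Pi.single j (1 : F) : ι → F) := by
    funext i; simp [Finset.sum_apply, Pi.single_apply]
  conv_rhs => rw [h, ← polarBilin_apply_apply, map_sum]
  simp [dotProduct, Cfsg.polarVec, mul_comm]

theorem reflectionMatrix_mulVec (Q : QuadraticForm F (ι → F)) (v x : ι → F) :
    Cfsg.reflectionMatrix ⇑Q v *ᵥ x = (refl Q v).1 x := by
  rw [Cfsg.reflectionMatrix, Matrix.sub_mulVec, Matrix.one_mulVec, Matrix.smul_mulVec,
    Matrix.vecMulVec_mulVec, op_smul_eq_smul, polarVec_dot, refl_apply, polar_comm (⇑Q) x v]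
  module

theorem reflectionMatrix_eq (Q : QuadraticForm F (ι → F)) (v : ι → F) :
    Cfsg.reflectionMatrix ⇑Q v = LinearMap.toMatrix' (reflMap Q v) := by
  refine Matrix.ext_iff_smul.mpr fun x => ?_
  rw [Matrix.smul_eq_mulVec, Matrix.smul_eq_mulVec, reflectionMatrix_mulVec,
    LinearMap.toMatrix'_mulVec]
  rfl

theorem siegelMatrix_mulVec (Q : QuadraticForm F (ι → F)) (u v : ι → F) (c : F) (x : ι → F) :
    Cfsg.siegelMatrix ⇑Q u v c *ᵥ x = x + c • (polar Q x u • v - polar Q x v • u) := by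
  rw [Cfsg.siegelMatrix, Matrix.add_mulVec, Matrix.one_mulVec, Matrix.smul_mulVec,
    Matrix.sub_mulVec, Matrix.vecMulVec_mulVec, Matrix.vecMulVec_mulVec, op_smul_eq_smul,
    op_smul_eq_smul, polarVec_dot, polarVec_dot, polar_comm (⇑Q) u x, polar_comm (⇑Q) v x]

theorem isoGroupEquiv_apply (Q : QuadraticForm F (ι → F)) (g : Cfsg.isometryGroup F ⇑Q)
    (x : ι → F) : (isoGroupEquiv Q g).1 x = (g.1 : Matrix ι ι F) *ᵥ x := rfl

theorem isoGroupEquiv_eq_iff (Q : QuadraticForm F (ι → F)) (g : Cfsg.isometryGroup F ⇑Q)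
    (h : oGroup Q) : isoGroupEquiv Q g = h ↔ ∀ x, (g.1 : Matrix ι ι F) *ᵥ x = h.1 x :=
  ⟨fun e x => by rw [← isoGroupEquiv_apply, e],
    fun e => Subtype.ext (LinearEquiv.ext fun x => (isoGroupEquiv_apply Q g x).trans (e x))⟩

theorem isoGroupEquiv_eq_refl_iff (Q : QuadraticForm F (ι → F)) (g : Cfsg.isometryGroup F ⇑Q)
    (v : ι → F) :
    isoGroupEquiv Q g = refl Q v ↔ (g.1 : Matrix ι ι F) = Cfsg.reflectionMatrix ⇑Q v := by
  rw [isoGroupEquiv_eq_iff]
  constructor
  · intro h
    refine Matrix.ext_iff_smul.mpr fun x => ?_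
    rw [Matrix.smul_eq_mulVec, Matrix.smul_eq_mulVec, h, reflectionMatrix_mulVec]
  · intro h x; rw [h, reflectionMatrix_mulVec]

/-- The determinant of an isometry. -/
noncomputable def detO {V : Type*} [AddCommGroup V] [Module F V] (Q : QuadraticForm F V) :
    oGroup Q →* Fˣ :=
  LinearEquiv.det.comp (oGroup Q).subtype

theorem detO_val {V : Type*} [AddCommGroup V] [Module F V] (Q : QuadraticForm F V) (g : oGroup Q) :
    (detO Q g : F) = LinearMap.det g.1.toLinearMap := LinearEquiv.coe_det g.1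

theorem det_isoGroupEquiv (Q : QuadraticForm F (ι → F)) (g : Cfsg.isometryGroup F ⇑Q) :
    (detO Q (isoGroupEquiv Q g) : F) = (g.1 : Matrix ι ι F).det := by
  rw [detO_val, ← LinearMap.det_toLin']
  rfl

variable {V : Type*} [AddCommGroup V] [Module F V] [FiniteDimensional F V] {Q : QuadraticForm F V}

theorem detO_refl {d : V} (hd : Q d ≠ 0) : (detO Q (refl Q d) : F) = -1 := by
  rw [detO_val, det_refl hd]

theorem refl_eq_one {d : V} (hd : Q d = 0) : refl Q d = 1 := by
  refine Subtype.ext (LinearEquiv.ext fun x => ?_)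
  rw [refl_apply, hd]; simp

/-- The subgroup generated by products of two reflections. -/
def pairGroup (Q : QuadraticForm F V) : Subgroup (oGroup Q) :=
  Subgroup.closure {g | ∃ u v, Q u ≠ 0 ∧ Q v ≠ 0 ∧ g = refl Q u * refl Q v}

theorem mem_pairs_or {g : oGroup Q} (hg : g ∈ reflGroup Q) :
    g ∈ pairGroup Q ∨ ∃ v, Q v ≠ 0 ∧ refl Q v * g ∈ pairGroup Q := by
  have step : ∀ d (g : oGroup Q), (g ∈ pairGroup Q ∨ ∃ v, Q v ≠ 0 ∧ refl Q v * g ∈ pairGroup Q) →
      (refl Q d * g ∈ pairGroup Q ∨ ∃ v, Q v ≠ 0 ∧ refl Q v * (refl Q d * g) ∈ pairGroup Q) := by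
    intro d g hg
    by_cases hd : Q d = 0
    · rwa [refl_eq_one hd, one_mul]
    rcases hg with h | ⟨v, hv, h⟩
    · exact Or.inr ⟨d, hd, by rwa [← mul_assoc, refl_mul_self, one_mul]⟩
    · left
      have : refl Q d * g = refl Q d * refl Q v * (refl Q v * g) := by
        rw [mul_assoc, ← mul_assoc (refl Q v), refl_mul_self, one_mul]
      rw [this]
      exact mul_mem (Subgroup.subset_closure ⟨d, v, hd, hv, rfl⟩) h
  refine Subgroup.closure_induction_left (Or.inl (one_mem _)) ?_ ?_ hg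
  · rintro _ ⟨d, rfl⟩ y _ hy; exact step d y hy
  · rintro _ ⟨d, rfl⟩ y _ hy; rw [refl_inv]; exact step d y hy

theorem detO_pairGroup {g : oGroup Q} (hg : g ∈ pairGroup Q) : detO Q g = 1 := by
  have hle : pairGroup Q ≤ (detO Q).ker := by
    refine (Subgroup.closure_le _).mpr ?_
    rintro _ ⟨u, v, hu, hv, rfl⟩
    refine Units.ext ?_
    rw [map_mul, Units.val_mul, detO_refl hu, detO_refl hv]; simp
  exact hle hg

variable (hQ : (polarBilin Q).Nondegenerate)

include hQ in
theorem ker_detO_eq_pairGroup (h2 : (2 : F) ≠ 0) : (detO Q).ker = pairGroup Q := by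
  refine le_antisymm (fun g hg => ?_) fun g hg => detO_pairGroup hg
  have hne : (1 : F) ≠ -1 := fun h => h2 (by linear_combination h)
  have hgen : (∃ t : F, t ≠ 0 ∧ t ≠ 1) ∨ Module.finrank F V ≠ 4 :=
    Or.inl ⟨-1, neg_ne_zero.mpr one_ne_zero, Ne.symm hne⟩
  have hg' : g ∈ reflGroup Q := by rw [reflGroup_eq_top hQ hgen]; trivial
  rcases mem_pairs_or hg' with h | ⟨v, hv, h⟩
  · exact h
  · exfalso
    have h1 := congrArg Units.val (detO_pairGroup h)
    rw [map_mul, Units.val_mul, MonoidHom.mem_ker.mp hg, Units.val_one, mul_one, detO_refl hv] at h1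
    exact hne h1.symm

include hQ in
theorem detO_eq_or (g : oGroup Q) : (detO Q g : F) = 1 ∨ (detO Q g : F) = -1 := by
  by_cases ht : ∃ t : F, t ≠ 0 ∧ t ≠ 1
  · have hg : g ∈ reflGroup Q := by rw [reflGroup_eq_top hQ (Or.inl ht)]; trivial
    rcases mem_pairs_or hg with h | ⟨v, hv, h⟩
    · left; rw [detO_pairGroup h]; rfl
    · right
      have h1 := congrArg Units.val (detO_pairGroup h)
      rw [map_mul, Units.val_mul, detO_refl hv, Units.val_one] at h1
      linear_combination -h1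
  · push Not at ht
    exact Or.inl (ht _ (detO Q g).ne_zero)

end CfsgLib.Quad
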