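import Cfsg.Agent.Quad.Hyp
import Cfsg.Agent.Forms.Classify
import Mathlib.FieldTheory.Finite.Basic

/-!
The three standard quadratic forms as bundled forms; splitting off hyperbolic planes; zero counts.
-/

set_option autoImplicit false
set_option linter.style.haveILetI false

namespace CfsgLib.Quad

open QuadraticMap CfsgLib.Forms

variable {F : Type*} [Field F]

/-- The product of two coordinates as a quadratic form. -/
def coordMul {ι : Type} (i j : ι) : QuadraticForm F (ι → F) :=
  LinearMap.BilinMap.toQuadraticMap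
    ((LinearMap.mul F F).compl₁₂ (LinearMap.proj i) (LinearMap.proj j))

theorem coordMul_apply {ι : Type} (i j : ι) (v : ι → F) : coordMul i j v = v i * v j := rfl

/-- `quadFormPlus` bundled. -/
def plusQ (m : ℕ) : QuadraticForm F (Fin m ⊕ Fin m → F) :=
  ∑ i : Fin m, coordMul (Sum.inl i) (Sum.inr i)

theorem plusQ_coe (m : ℕ) : ⇑(plusQ (F := F) m) = Cfsg.quadFormPlus m F := by
  funext v
  simp [plusQ, Cfsg.quadFormPlus, coordMul_apply]

/-- `quadFormOdd` bundled. -/
def oddQ (m : ℕ) : QuadraticForm F (Unit ⊕ (Fin m ⊕ Fin m) → F) :=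
  coordMul (Sum.inl ()) (Sum.inl ()) + ∑ i : Fin m, coordMul (Sum.inr (Sum.inl i)) (Sum.inr (Sum.inr i))

theorem oddQ_coe (m : ℕ) : ⇑(oddQ (F := F) m) = Cfsg.quadFormOdd m F := by
  funext v
  simp [oddQ, Cfsg.quadFormOdd, coordMul_apply, pow_two]

/-- `quadFormMinus` bundled. -/
def minusQ (m : ℕ) (a b : F) : QuadraticForm F ((Fin m ⊕ Fin m) ⊕ Fin 2 → F) :=
  (∑ i : Fin m, coordMul (Sum.inl (Sum.inl i)) (Sum.inl (Sum.inr i))) +
    (coordMul (Sum.inr 0) (Sum.inr 0) + a • coordMul (Sum.inr 0) (Sum.inr 1) +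
      b • coordMul (Sum.inr 1) (Sum.inr 1))

theorem minusQ_coe (m : ℕ) (a b : F) : ⇑(minusQ (F := F) m a b) = Cfsg.quadFormMinus m F a b := by
  funext v
  simp [minusQ, Cfsg.quadFormMinus, coordMul_apply, pow_two, mul_assoc]

/-- Splitting off the first hyperbolic plane of `plusQ`. -/
def plusSplit (m : ℕ) :
    (Fin (m + 1) ⊕ Fin (m + 1) → F) ≃ₗ[F] (F × F) × (Fin m ⊕ Fin m → F) where
  toFun v := ((v (Sum.inl 0), v (Sum.inr 0)), Sum.elim (fun i => v (Sum.inl i.succ)) (fun i => v (Sum.inr i.succ)))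
  map_add' u v := by
    refine Prod.ext rfl (funext fun i => ?_); rcases i with i | i <;> rfl
  map_smul' c v := by
    refine Prod.ext rfl (funext fun i => ?_); rcases i with i | i <;> rfl
  invFun p := Sum.elim (Fin.cons p.1.1 fun i => p.2 (Sum.inl i)) (Fin.cons p.1.2 fun i => p.2 (Sum.inr i))
  left_inv v := by
    funext i; rcases i with i | i <;> induction i using Fin.cases <;> simp
  right_inv p := by
    refine Prod.ext rfl (funext fun i => ?_); rcases i with i | i <;> simp

theorem plusSplit_apply (m : ℕ) (v : Fin (m + 1) ⊕ Fin (m + 1) → F) :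
    hypSum (plusQ m) (plusSplit m v) = plusQ (m + 1) v := by
  rw [hypSum_apply, plusQ_coe, plusQ_coe]
  simp [Cfsg.quadFormPlus, Fin.sum_univ_succ, plusSplit]

/-- Splitting off the first hyperbolic plane of `oddQ`. -/
def oddSplit (m : ℕ) :
    (Unit ⊕ (Fin (m + 1) ⊕ Fin (m + 1)) → F) ≃ₗ[F] (F × F) × (Unit ⊕ (Fin m ⊕ Fin m) → F) where
  toFun v := ((v (Sum.inr (Sum.inl 0)), v (Sum.inr (Sum.inr 0))), Sum.elim (fun u => v (Sum.inl u))
    (Sum.elim (fun i => v (Sum.inr (Sum.inl i.succ))) (fun i => v (Sum.inr (Sum.inr i.succ)))))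
  map_add' u v := by
    refine Prod.ext rfl (funext fun i => ?_); rcases i with i | i | i <;> rfl
  map_smul' c v := by
    refine Prod.ext rfl (funext fun i => ?_); rcases i with i | i | i <;> rfl
  invFun p := Sum.elim (fun u => p.2 (Sum.inl u))
    (Sum.elim (Fin.cons p.1.1 fun i => p.2 (Sum.inr (Sum.inl i)))
      (Fin.cons p.1.2 fun i => p.2 (Sum.inr (Sum.inr i))))
  left_inv v := by
    funext i
    rcases i with i | i | i
    · rfl
    · induction i using Fin.cases <;> simp
    · induction i using Fin.cases <;> simp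
  right_inv p := by
    refine Prod.ext rfl (funext fun i => ?_); rcases i with i | i | i <;> simp

theorem oddSplit_apply (m : ℕ) (v : Unit ⊕ (Fin (m + 1) ⊕ Fin (m + 1)) → F) :
    hypSum (oddQ m) (oddSplit m v) = oddQ (m + 1) v := by
  rw [hypSum_apply, oddQ_coe, oddQ_coe]
  simp [Cfsg.quadFormOdd, Fin.sum_univ_succ, oddSplit]
  ring

/-- Splitting off the first hyperbolic plane of `minusQ`. -/
def minusSplit (m : ℕ) :
    ((Fin (m + 1) ⊕ Fin (m + 1)) ⊕ Fin 2 → F) ≃ₗ[F] (F × F) × ((Fin m ⊕ Fin m) ⊕ Fin 2 → F) where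
  toFun v := ((v (Sum.inl (Sum.inl 0)), v (Sum.inl (Sum.inr 0))), Sum.elim
    (Sum.elim (fun i => v (Sum.inl (Sum.inl i.succ))) (fun i => v (Sum.inl (Sum.inr i.succ))))
    (fun u => v (Sum.inr u)))
  map_add' u v := by
    refine Prod.ext rfl (funext fun i => ?_); rcases i with (i | i) | i <;> rfl
  map_smul' c v := by
    refine Prod.ext rfl (funext fun i => ?_); rcases i with (i | i) | i <;> rfl
  invFun p := Sum.elim (Sum.elim (Fin.cons p.1.1 fun i => p.2 (Sum.inl (Sum.inl i)))
      (Fin.cons p.1.2 fun i => p.2 (Sum.inl (Sum.inr i)))) (fun u => p.2 (Sum.inr u))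
  left_inv v := by
    funext i
    rcases i with (i | i) | i
    · induction i using Fin.cases <;> simp
    · induction i using Fin.cases <;> simp
    · rfl
  right_inv p := by
    refine Prod.ext rfl (funext fun i => ?_); rcases i with (i | i) | i <;> simp

theorem minusSplit_apply (m : ℕ) (a b : F) (v : (Fin (m + 1) ⊕ Fin (m + 1)) ⊕ Fin 2 → F) :
    hypSum (minusQ m a b) (minusSplit m v) = minusQ (m + 1) a b v := by
  rw [hypSum_apply, minusQ_coe, minusQ_coe]
  simp [Cfsg.quadFormMinus, Fin.sum_univ_succ, minusSplit]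
  ring

/-- Non-degeneracy along an isometry. -/
theorem nondeg_of_equiv {V W : Type*} [AddCommGroup V] [Module F V] [AddCommGroup W] [Module F W]
    {Q : QuadraticForm F V} {Q' : QuadraticForm F W} (e : V ≃ₗ[F] W) (he : ∀ v, Q' (e v) = Q v)
    (h : (polarBilin Q').Nondegenerate) : (polarBilin Q).Nondegenerate := by
  have hp : ∀ u v, polar Q' (e u) (e v) = polar Q u v := fun u v => by
    simp only [polar, ← map_add, he]
  refine ⟨fun x hx => e.injective ?_, fun y hy => e.injective ?_⟩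
  · rw [map_zero]
    refine h.1 _ fun w => ?_
    rw [polarBilin_apply_apply, ← e.apply_symm_apply w, hp]
    exact hx _
  · rw [map_zero]
    refine h.2 _ fun w => ?_
    rw [polarBilin_apply_apply, ← e.apply_symm_apply w, hp]
    exact hy _

theorem plusQ_nondeg : ∀ m : ℕ, (polarBilin (plusQ (F := F) m)).Nondegenerate
  | 0 => ⟨fun x _ => Subsingleton.elim _ _, fun x _ => Subsingleton.elim _ _⟩
  | m + 1 => nondeg_of_equiv (plusSplit m) (plusSplit_apply m) (hypSum_nondeg (plusQ_nondeg m))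

theorem oddQ_nondeg (h2 : (2 : F) ≠ 0) : ∀ m : ℕ, (polarBilin (oddQ (F := F) m)).Nondegenerate
  | 0 => by
    have h1 : ∀ x : Unit ⊕ (Fin 0 ⊕ Fin 0) → F, (∀ y, polar (oddQ 0) x y = 0) → x = 0 := by
      intro x hx
      funext i
      rcases i with u | i
      · have := hx x
        rw [polar_self, oddQ_coe] at this
        simp [Cfsg.quadFormOdd, h2] at this
        exact this
      · rcases i with i | i <;> exact i.elim0
    exact ⟨fun x hx => h1 x hx, fun y hy => h1 y fun z => by rw [polar_comm]; exact hy z⟩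
  | m + 1 => nondeg_of_equiv (oddSplit m) (oddSplit_apply m) (hypSum_nondeg (oddQ_nondeg h2 m))

theorem disc_ne_zero [Finite F] {a b : F}
    (hab : ∀ z₁ z₂ : F, z₁ ^ 2 + a * z₁ * z₂ + b * z₂ ^ 2 = 0 → z₁ = 0 ∧ z₂ = 0) :
    4 * b - a ^ 2 ≠ 0 := by
  intro h
  obtain ⟨ha, h2⟩ := hab (-a) 2 (by linear_combination h)
  obtain ⟨r, hr⟩ : IsSquare (-b) := by
    haveI : CharP F 2 := CharTwo.of_one_ne_zero_of_two_eq_zero one_ne_zero h2
    exact FiniteField.isSquare_of_char_two (ringChar.eq F 2) _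
  have := (hab r 1 (by rw [neg_eq_zero.mp ha]; linear_combination -hr)).2
  exact one_ne_zero this

theorem minusQ_nondeg [Finite F] {a b : F}
    (hab : ∀ z₁ z₂ : F, z₁ ^ 2 + a * z₁ * z₂ + b * z₂ ^ 2 = 0 → z₁ = 0 ∧ z₂ = 0) :
    ∀ m : ℕ, (polarBilin (minusQ m a b)).Nondegenerate
  | 0 => by
    have hd := disc_ne_zero hab
    have hP : ∀ x y : (Fin 0 ⊕ Fin 0) ⊕ Fin 2 → F, polar (minusQ 0 a b) x y =
        2 * x (.inr 0) * y (.inr 0) + a * (x (.inr 0) * y (.inr 1) + x (.inr 1) * y (.inr 0)) +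
          2 * b * x (.inr 1) * y (.inr 1) := fun x y => by
      rw [polar, minusQ_coe]
      simp [Cfsg.quadFormMinus]
      ring
    have h1 : ∀ x, (∀ y, polar (minusQ 0 a b) x y = 0) → x = 0 := by
      intro x hx
      have e0 := hx (Pi.single (.inr 0) 1)
      have e1 := hx (Pi.single (.inr 1) 1)
      rw [hP] at e0 e1
      simp at e0 e1
      have x1 : x (.inr 1) = 0 := (mul_eq_zero.mp
        (by linear_combination 2 * e1 - a * e0 : (4 * b - a ^ 2) * x (.inr 1) = 0)).resolve_left hd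
      have x0 : x (.inr 0) = 0 := (mul_eq_zero.mp
        (by linear_combination 2 * b * e0 - a * e1 : (4 * b - a ^ 2) * x (.inr 0) = 0)).resolve_left hd
      funext i
      rcases i with (i | i) | i
      · exact i.elim0
      · exact i.elim0
      · fin_cases i <;> assumption
    exact ⟨fun x hx => h1 x hx, fun y hy => h1 y fun z => by rw [polar_comm]; exact hy z⟩
  | m + 1 => nondeg_of_equiv (minusSplit m) (minusSplit_apply m a b)
      (hypSum_nondeg (minusQ_nondeg hab m))

/-! Zero counts -/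

theorem zeros_step [Finite F] {V W : Type*} [AddCommGroup V] [Module F V] [AddCommGroup W]
    [Module F W] [Finite W] (Q : QuadraticForm F V) (Q' : QuadraticForm F W)
    (e : V ≃ₗ[F] (F × F) × W) (he : ∀ v, hypSum Q' (e v) = Q v) {q : ℕ} (hq : Nat.card F = q) :
    (Nat.card {v : V // Q v = 0} : ℤ) =
      (q - 1) * Nat.card W + q * Nat.card {w : W // Q' w = 0} := by
  rw [← card_zero_hypSum Q' hq, Nat.card_congr (Equiv.subtypeEquiv (p := fun v => Q v = 0) (q := fun p => hypSum Q' p = 0) e.toEquiv fun v => by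
    change Q v = 0 ↔ hypSum Q' (e v) = 0
    rw [he])]

variable [Finite F] {q : ℕ} (hq : Nat.card F = q)

include hq in
theorem zeros_plus (m : ℕ) : (q : ℤ) * Nat.card {v // plusQ (F := F) m v = 0} =
    (q : ℤ) ^ (2 * m) + (q : ℤ) ^ (m + 1) - (q : ℤ) ^ m := by
  induction m with
  | zero =>
    have : Nat.card {v : Fin 0 ⊕ Fin 0 → F // plusQ 0 v = 0} = 1 :=
      Nat.card_eq_one_iff_exists.mpr ⟨⟨0, QuadraticMap.map_zero _⟩, fun y => Subtype.ext (Subsingleton.elim _ _)⟩
    rw [this]; simp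
  | succ m ih =>
    rw [zeros_step (plusQ (F := F) (m + 1)) (plusQ (F := F) m) (plusSplit (F := F) m) (plusSplit_apply (F := F) m) hq, mul_add, ih,
      Nat.card_fun, hq, Nat.card_sum, Nat.card_fin]
    push_cast
    ring

include hq in
theorem zeros_odd (m : ℕ) :
    Nat.card {v // oddQ (F := F) m v = 0} = q ^ (2 * m) := by
  induction m with
  | zero =>
    refine (Nat.card_eq_one_iff_exists.mpr ⟨⟨0, QuadraticMap.map_zero _⟩, fun y => Subtype.ext ?_⟩).trans (by simp)
    obtain ⟨y, h⟩ := y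
    rw [oddQ_coe] at h
    simp [Cfsg.quadFormOdd] at h
    funext i
    rcases i with u | i
    · exact h
    · rcases i with i | i <;> exact i.elim0
  | succ m ih =>
    zify
    rw [zeros_step (oddQ (F := F) (m + 1)) (oddQ (F := F) m) (oddSplit (F := F) m) (oddSplit_apply (F := F) m) hq, ih, Nat.card_fun, hq,
      Nat.card_sum, Nat.card_sum, Nat.card_fin, Nat.card_unique]
    push_cast
    ring

include hq in
theorem zeros_minus {a b : F}
    (hab : ∀ z₁ z₂ : F, z₁ ^ 2 + a * z₁ * z₂ + b * z₂ ^ 2 = 0 → z₁ = 0 ∧ z₂ = 0) (m : ℕ) :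
    (q : ℤ) * Nat.card {v // minusQ m a b v = 0} =
      (q : ℤ) ^ (2 * m + 2) + (q : ℤ) ^ (m + 1) - (q : ℤ) ^ (m + 2) := by
  induction m with
  | zero =>
    have : Nat.card {v : (Fin 0 ⊕ Fin 0) ⊕ Fin 2 → F // minusQ 0 a b v = 0} = 1 := by
      refine Nat.card_eq_one_iff_exists.mpr ⟨⟨0, QuadraticMap.map_zero _⟩, fun y => Subtype.ext ?_⟩
      obtain ⟨y, h⟩ := y
      rw [minusQ_coe] at h
      simp [Cfsg.quadFormMinus] at h
      obtain ⟨h0, h1⟩ := hab _ _ h
      funext i
      rcases i with (i | i) | i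
      · exact i.elim0
      · exact i.elim0
      · fin_cases i <;> assumption
    rw [this]; push_cast; ring
  | succ m ih =>
    rw [zeros_step (minusQ (F := F) (m + 1) a b) (minusQ (F := F) m a b) (minusSplit (F := F) m) (minusSplit_apply (F := F) m a b) hq,
      mul_add, ih, Nat.card_fun, hq, Nat.card_sum, Nat.card_sum, Nat.card_fin, Nat.card_fin]
    push_cast
    ring

end CfsgLib.Quad
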