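import Cfsg.Agent.Quad.IndexTwo
import Cfsg.Agent.Quad.Concrete

/-!
When `-1` has trivial determinant and spinor norm.
-/

set_option autoImplicit false
set_option linter.style.haveILetI false

namespace CfsgLib.Quad

open QuadraticMap CfsgLib.Forms

variable {F V : Type*} [Field F] [AddCommGroup V] [Module F V]

/-- The isometry `-1`. -/
def negIso (Q : QuadraticForm F V) : oGroup Q :=
  ⟨LinearEquiv.neg F, fun v => by rw [LinearEquiv.neg_apply, QuadraticMap.map_neg]⟩

theorem negIso_apply (Q : QuadraticForm F V) (v : V) : (negIso Q).1 v = -v := rfl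

theorem isoGroupEquiv_eq_negIso_iff {ι : Type} [Fintype ι] [DecidableEq ι]
    (Q : QuadraticForm F (ι → F)) (g : Cfsg.isometryGroup F ⇑Q) :
    isoGroupEquiv Q g = negIso Q ↔ (g.1 : Matrix ι ι F) = -1 := by
  rw [isoGroupEquiv_eq_iff]
  constructor
  · intro h
    refine Matrix.ext_iff_smul.mpr fun x => ?_
    rw [Matrix.smul_eq_mulVec, Matrix.smul_eq_mulVec, h, negIso_apply, Matrix.neg_mulVec,
      Matrix.one_mulVec]
  · intro h x
    rw [h, negIso_apply, Matrix.neg_mulVec, Matrix.one_mulVec]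

variable [FiniteDimensional F V] [Finite F] {Q : QuadraticForm F V}
  (hQ : (polarBilin Q).Nondegenerate)

include hQ

theorem negIso_mem_commutator_iff (h2 : (2 : F) ≠ 0) {ι : Type*} [Fintype ι] (b : ι → V)
    (hcard : Fintype.card ι = Module.finrank F V) (hn : 2 ≤ Fintype.card ι)
    (heven : Even (Fintype.card ι))
    (hb : ∀ i, Q (b i) ≠ 0) (horth : ∀ i j, i ≠ j → polar Q (b i) (b j) = 0) :
    negIso Q ∈ commutator (oGroup Q) ↔ IsSquare (∏ i, Q (b i)) := by
  classical
  obtain ⟨θ, hθ⟩ := exists_spinor hQ h2 (hcard ▸ hn)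
  have hunits : ∀ x y : ℤˣ, x * y = 1 ↔ (x = 1 ↔ y = 1) := by decide
  have key : ∀ s : Finset ι, ∃ g : oGroup Q, (∀ j, g.1 (b j) = if j ∈ s then -b j else b j) ∧
      (detO Q g : F) = (-1) ^ s.card ∧ (θ g = 1 ↔ IsSquare (∏ i ∈ s, Q (b i))) := by
    intro s
    induction s using Finset.induction_on with
    | empty => exact ⟨1, fun j => by simp, by simp, by simp⟩
    | insert a s ha ih =>
      obtain ⟨g, hg, hd, ht⟩ := ih
      refine ⟨refl Q (b a) * g, fun j => ?_, ?_, ?_⟩
      · change (refl Q (b a)).1 (g.1 (b j)) = _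
        rw [hg]
        by_cases hja : j = a
        · subst hja; rw [if_neg ha, if_pos (Finset.mem_insert_self _ _), refl_self (hb j)]
        · have hfix : (refl Q (b a)).1 (b j) = b j := refl_fix (horth _ _ hja)
          simp only [Finset.mem_insert, hja, false_or]
          split_ifs with h
          · rw [map_neg, hfix]
          · exact hfix
      · rw [map_mul, Units.val_mul, detO_refl (hb a), hd, Finset.card_insert_of_notMem ha, pow_succ']
      · have hp : ∏ i ∈ s, Q (b i) ≠ 0 := Finset.prod_ne_zero_iff.mpr fun i _ => hb i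
        rw [map_mul, hunits, hθ _ (hb a), ht, Finset.prod_insert ha,
          isSquare_mul_iff h2 (hb a) hp]
  obtain ⟨g, hg, hd, ht⟩ := key Finset.univ
  have hli : LinearIndependent F b := by
    rw [Fintype.linearIndependent_iff]
    intro c hc i
    have h := congrArg (fun x => polarFun Q (b i) x) hc
    simp only [map_sum, map_smul, smul_eq_mul, map_zero] at h
    rw [Finset.sum_eq_single i (fun j _ hj => by rw [polarFun_apply, horth j i hj, mul_zero])
      (fun hi => absurd (Finset.mem_univ i) hi), polarFun_apply, polar_self, nsmul_eq_mul,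
      Nat.cast_ofNat] at h
    exact (mul_eq_zero.mp h).resolve_right (mul_ne_zero h2 (hb i))
  haveI : Nonempty ι := Fintype.card_pos_iff.mp (by omega)
  have hspan := hli.span_eq_top_of_card_eq_finrank hcard
  have hgn : g = negIso Q := by
    refine Subtype.ext (LinearEquiv.toLinearMap_injective (LinearMap.ext_on hspan ?_))
    rintro _ ⟨j, rfl⟩
    change g.1 (b j) = -b j
    rw [hg, if_pos (Finset.mem_univ j)]
  rw [← hgn, mem_commutator_iff hQ h2 (hcard ▸ hn) hθ, ← ht]
  exact and_iff_right (Units.ext (by rw [hd, Finset.card_univ, heven.neg_one_pow, Units.val_one]))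

omit hQ in
theorem isSquare_neg_one_pow_iff {q : ℕ} (hF : Nat.card F = q) (hodd : Odd q) (m : ℕ) :
    IsSquare ((-1 : F) ^ m) ↔ q ^ m % 4 = 1 := by
  haveI := Fintype.ofFinite F
  rw [Nat.card_eq_fintype_card] at hF
  rcases Nat.even_or_odd m with hm | hm
  · rw [hm.neg_one_pow]
    obtain ⟨k, rfl⟩ := hm
    simp only [IsSquare.one, true_iff]
    obtain ⟨r, hr⟩ := hodd.pow (n := k)
    rw [pow_add, hr, show (2 * r + 1) * (2 * r + 1) = 4 * (r * r + r) + 1 by ring]
    omega
  · rw [hm.neg_one_pow, FiniteField.isSquare_neg_one_iff, hF]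
    obtain ⟨k, rfl⟩ := hm
    have h1 : q % 4 = 1 ∨ q % 4 = 3 := by obtain ⟨r, rfl⟩ := hodd; omega
    rw [pow_succ, Nat.mul_mod, pow_mul, Nat.pow_mod, Nat.pow_mod q 2]
    rcases h1 with h | h <;> rw [h] <;> norm_num

omit [Finite F] hQ in
theorem polar_plusQ (m : ℕ) (u v : Fin m ⊕ Fin m → F) :
    polar (plusQ m) u v = ∑ i, (u (Sum.inl i) * v (Sum.inr i) + v (Sum.inl i) * u (Sum.inr i)) := by
  simp only [polar, plusQ_coe, Cfsg.quadFormPlus, Pi.add_apply, ← Finset.sum_sub_distrib]
  exact Finset.sum_congr rfl fun i _ => by ring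

omit [Finite F] hQ in
theorem polar_minusQ (m : ℕ) (a b : F) (u v : (Fin m ⊕ Fin m) ⊕ Fin 2 → F) :
    polar (minusQ m a b) u v = polar (plusQ m) (u ∘ Sum.inl) (v ∘ Sum.inl) +
      (2 * (u (Sum.inr 0) * v (Sum.inr 0)) + a * (u (Sum.inr 0) * v (Sum.inr 1) +
        v (Sum.inr 0) * u (Sum.inr 1)) + 2 * b * (u (Sum.inr 1) * v (Sum.inr 1))) := by
  rw [polar_plusQ]
  simp only [polar, minusQ_coe, Cfsg.quadFormMinus, Pi.add_apply, Function.comp_apply]
  have : ∀ f g h : Fin m → F, (∑ i, f i) - (∑ i, g i) - (∑ i, h i) = ∑ i, (f i - g i - h i) :=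
    fun f g h => by rw [Finset.sum_sub_distrib, Finset.sum_sub_distrib]
  have e := this (fun i => (u (.inl (.inl i)) + v (.inl (.inl i))) * (u (.inl (.inr i)) + v (.inl (.inr i))))
    (fun i => u (.inl (.inl i)) * u (.inl (.inr i))) (fun i => v (.inl (.inl i)) * v (.inl (.inr i)))
  rw [show (∑ i : Fin m, (u (.inl (.inl i)) * v (.inl (.inr i)) + v (.inl (.inl i)) * u (.inl (.inr i)))) =
    ∑ i : Fin m, ((u (.inl (.inl i)) + v (.inl (.inl i))) * (u (.inl (.inr i)) + v (.inl (.inr i))) -
      u (.inl (.inl i)) * u (.inl (.inr i)) - v (.inl (.inl i)) * v (.inl (.inr i))) from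
    Finset.sum_congr rfl fun i _ => by ring, ← e]
  ring

/-- The orthogonal family in the plus space. -/
def plusFam (F : Type*) [Field F] (m : ℕ) : Fin m ⊕ Fin m → (Fin m ⊕ Fin m → F) :=
  Sum.elim (fun i => Sum.elim (Pi.single i 1) (Pi.single i 1))
    (fun i => Sum.elim (Pi.single i 1) (Pi.single i (-1)))

omit [Finite F] hQ in
theorem plusFam_spec (m : ℕ) :
    (∀ i : Fin m, plusQ m (plusFam F m (Sum.inl i)) = 1) ∧
    (∀ i : Fin m, plusQ m (plusFam F m (Sum.inr i)) = -1) ∧
    (∀ i j, i ≠ j → polar (plusQ m) (plusFam F m i) (plusFam F m j) = 0) ∧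
    (∏ i, plusQ m (plusFam F m i)) = (-1) ^ m := by
  have h1 : ∀ i : Fin m, plusQ m (plusFam F m (Sum.inl i)) = 1 := fun i => by
    simp [plusQ_coe, Cfsg.quadFormPlus, plusFam, Pi.single_apply]
  have h3 : ∀ i : Fin m, plusQ m (plusFam F m (Sum.inr i)) = -1 := fun i => by
    simp [plusQ_coe, Cfsg.quadFormPlus, plusFam, Pi.single_apply]
  refine ⟨h1, h3, fun i j hij => ?_, ?_⟩
  · rw [polar_plusQ]
    rcases i with i | i <;> rcases j with j | j <;>
      simp [plusFam, Pi.single_apply, Finset.sum_add_distrib] <;>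
      first
        | rfl
        | (by_cases e : i = j
           · subst e; first | exact absurd rfl hij | simp
           · simp [e, Ne.symm e])
  · simp [Fintype.prod_sum_type, h1, h3]

end CfsgLib.Quad
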