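import Cfsg.Agent.Quad.Plane

/-!
Orders of the orthogonal groups of the standard forms.
-/

set_option autoImplicit false
set_option linter.style.haveILetI false

namespace CfsgLib.Quad

open QuadraticMap CfsgLib.Forms

variable {F : Type*} [Field F] [Finite F] {q : ℕ} (hq : Nat.card F = q)

theorem card_oGroup_split {V W : Type*} [AddCommGroup V] [Module F V] [AddCommGroup W]
    [Module F W] [FiniteDimensional F W] {Q : QuadraticForm F V} {Q' : QuadraticForm F W}
    (e : V ≃ₗ[F] (F × F) × W) (he : ∀ v, hypSum Q' (e v) = Q v)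
    (hQ' : (polarBilin Q').Nondegenerate) {n : ℕ} (hn : Module.finrank F W = n)
    (hq : Nat.card F = q) :
    Nat.card (oGroup Q) =
      (Nat.card {v : V // Q v = 0} - 1) * q ^ n * Nat.card (oGroup Q') := by
  rw [Nat.card_congr (oGroupCongr e he).toEquiv, card_oGroup_hypSum hQ' hq hn]
  congr 3
  exact (Nat.card_congr (Equiv.subtypeEquiv (p := fun v => Q v = 0)
    (q := fun p => hypSum Q' p = 0) e.toEquiv fun v => by
      change Q v = 0 ↔ hypSum Q' (e v) = 0; rw [he])).symm

include hq in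
theorem card_oGroup_plus (k : ℕ) :
    (Nat.card (oGroup (plusQ (F := F) (k + 1))) : ℤ) = 2 * (q : ℤ) ^ ((k + 1) * k) *
      ((q : ℤ) ^ (k + 1) - 1) * ∏ i ∈ Finset.range k, ((q : ℤ) ^ (2 * (i + 1)) - 1) := by
  have hq2 : 2 ≤ q := hq ▸ Finite.one_lt_card
  have step : ∀ m : ℕ, (Nat.card (oGroup (plusQ (F := F) (m + 1))) : ℤ) =
      (((q : ℤ) ^ (m + 1) - 1) * ((q : ℤ) ^ m + 1)) * (q : ℤ) ^ (2 * m) *
        Nat.card (oGroup (plusQ (F := F) m)) := by
    intro m
    rw [card_oGroup_split (plusSplit (F := F) m) (plusSplit_apply (F := F) m) (plusQ_nondeg m)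
      (n := 2 * m) (by simp [two_mul]) hq]
    have h := zeros_plus (F := F) hq (m + 1)
    have hpos : 1 ≤ Nat.card {v // plusQ (F := F) (m + 1) v = 0} := by
      haveI : Nonempty {v // plusQ (F := F) (m + 1) v = 0} := ⟨⟨0, QuadraticMap.map_zero _⟩⟩
      exact Nat.card_pos
    push_cast [hpos]
    congr 2
    refine mul_left_cancel₀ (show (q : ℤ) ≠ 0 by omega) ?_
    linear_combination h
  induction k with
  | zero =>
    haveI : Subsingleton (oGroup (plusQ (F := F) 0)) :=
      ⟨fun g h => Subtype.ext (LinearEquiv.ext fun v => Subsingleton.elim _ _)⟩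
    rw [step, Nat.card_of_subsingleton (1 : oGroup (plusQ (F := F) 0))]
    norm_num
    ring
  | succ k ih =>
    rw [step, ih, Finset.prod_range_succ]
    ring

include hq in
theorem card_oGroup_odd (h2 : (2 : F) ≠ 0) (m : ℕ) :
    (Nat.card (oGroup (oddQ (F := F) m)) : ℤ) = 2 * (q : ℤ) ^ (m ^ 2) *
      ∏ i ∈ Finset.range m, ((q : ℤ) ^ (2 * (i + 1)) - 1) := by
  have hq2 : 2 ≤ q := hq ▸ Finite.one_lt_card
  induction m with
  | zero =>
    have h0 : ∀ v : Unit ⊕ (Fin 0 ⊕ Fin 0) → F, v = v (Sum.inl ()) • (fun _ => 1) := fun v => by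
      funext i
      rcases i with u | i
      · simp
      · rcases i with i | i <;> exact i.elim0
    let f : oGroup (oddQ (F := F) 0) → {x : F // x = 1 ∨ x = -1} := fun g =>
      ⟨g.1 (fun _ => 1) (Sum.inl ()), by
        have h := g.2 (fun _ => 1)
        rw [oddQ_coe] at h
        simp [Cfsg.quadFormOdd] at h
        exact h⟩
    have hf : Function.Bijective f := by
      refine ⟨fun g h e => Subtype.ext (LinearEquiv.ext fun v => ?_), ?_⟩
      · rw [h0 v, map_smul, map_smul, h0 (g.1 _), h0 (h.1 _), show g.1 (fun _ => 1) (Sum.inl ()) =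
          h.1 (fun _ => 1) (Sum.inl ()) from congrArg Subtype.val e]
      · rintro ⟨x, hx⟩
        have hx2 : x * x = 1 := by rcases hx with rfl | rfl <;> ring
        have hx0 : x ≠ 0 := fun e => by rw [e, mul_zero] at hx2; exact zero_ne_one hx2
        refine ⟨⟨LinearEquiv.smulOfUnit (Units.mk0 x hx0), fun v => ?_⟩, Subtype.ext ?_⟩
        · change oddQ 0 (x • v) = oddQ 0 v
          rw [QuadraticMap.map_smul, smul_eq_mul, hx2, one_mul]
        · change x • (1 : F) = x
          simp
    rw [Nat.card_congr (Equiv.ofBijective f hf)]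
    have hne : (1 : F) ≠ -1 := fun h => h2 (by linear_combination h)
    have hc : Nat.card {x : F // x = 1 ∨ x = -1} = 2 := by
      haveI := Fintype.ofFinite F
      classical
      rw [Nat.card_eq_fintype_card, Fintype.card_subtype,
        show (Finset.univ.filter fun x : F => x = 1 ∨ x = -1) = {1, -1} by ext x; simp,
        Finset.card_pair hne]
    rw [hc]; norm_num
  | succ m ih =>
    rw [card_oGroup_split (oddSplit (F := F) m) (oddSplit_apply (F := F) m) (oddQ_nondeg h2 m)
      (n := 2 * m + 1) (by simp; omega) hq, zeros_odd hq]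
    have hpos : 1 ≤ q ^ (2 * (m + 1)) := Nat.one_le_pow _ _ (by omega)
    push_cast [hpos]
    rw [ih, Finset.prod_range_succ]
    ring

include hq in
theorem card_oGroup_minus {a b : F}
    (hab : ∀ z₁ z₂ : F, z₁ ^ 2 + a * z₁ * z₂ + b * z₂ ^ 2 = 0 → z₁ = 0 ∧ z₂ = 0) (k : ℕ) :
    (Nat.card (oGroup (minusQ k a b)) : ℤ) = 2 * (q : ℤ) ^ ((k + 1) * k) *
      ((q : ℤ) ^ (k + 1) + 1) * ∏ i ∈ Finset.range k, ((q : ℤ) ^ (2 * (i + 1)) - 1) := by
  have hq2 : 2 ≤ q := hq ▸ Finite.one_lt_card
  induction k with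
  | zero =>
    let e : ((Fin 0 ⊕ Fin 0) ⊕ Fin 2 → F) ≃ₗ[F] F × F :=
      { toFun := fun v => (v (.inr 0), v (.inr 1))
        map_add' := fun _ _ => rfl
        map_smul' := fun _ _ => rfl
        invFun := fun p => Sum.elim (fun _ => 0) ![p.1, p.2]
        left_inv := fun v => by
          funext i
          rcases i with (i | i) | i
          · exact i.elim0
          · exact i.elim0
          · fin_cases i <;> rfl
        right_inv := fun p => rfl }
    rw [Nat.card_congr (oGroupCongr (Q := minusQ 0 a b) (Q' := planeQ a b) e fun v => by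
      rw [planeQ_apply, minusQ_coe]
      change v (.inr 0) ^ 2 + a * v (.inr 0) * v (.inr 1) + b * v (.inr 1) ^ 2 = _
      simp [Cfsg.quadFormMinus]).toEquiv, (oGroup_plane hab hq).1]
    simp
  | succ m ih =>
    rw [card_oGroup_split (minusSplit (F := F) m) (minusSplit_apply (F := F) m a b)
      (minusQ_nondeg hab m) (n := 2 * m + 2) (by simp; omega) hq]
    have h := zeros_minus (F := F) hq hab (m + 1)
    have hpos : 1 ≤ Nat.card {v // minusQ (m + 1) a b v = 0} := by
      haveI : Nonempty {v // minusQ (m + 1) a b v = 0} := ⟨⟨0, QuadraticMap.map_zero _⟩⟩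
      exact Nat.card_pos
    push_cast [hpos]
    rw [ih, Finset.prod_range_succ]
    have hz : (Nat.card {v // minusQ (m + 1) a b v = 0} : ℤ) - 1 =
        ((q : ℤ) ^ (m + 2) + 1) * ((q : ℤ) ^ (m + 1) - 1) := by
      refine mul_left_cancel₀ (show (q : ℤ) ≠ 0 by omega) ?_
      linear_combination h
    rw [hz]
    ring

/-- The orthogonal group of the hyperbolic line. -/
theorem oGroup_hypPlane (hq : Nat.card F = q) :
    Nonempty (oGroup (plusQ (F := F) 1) ≃* DihedralGroup (q - 1)) := by
  haveI := Fintype.ofFinite F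
  haveI : Finite (oGroup (plusQ (F := F) 1)) := Finite.of_injective
    (fun g => (g.1 : (Fin 1 ⊕ Fin 1 → F) → (Fin 1 ⊕ Fin 1 → F)))
    fun g h e => Subtype.ext (LinearEquiv.ext (congrFun e))
  have hq2 : 2 ≤ q := hq ▸ Finite.one_lt_card
  have hcard : Nat.card (oGroup (plusQ (F := F) 1)) = 2 * (q - 1) := by
    zify [show 1 ≤ q by omega]
    rw [card_oGroup_plus hq 0]
    simp
  have hQ : ∀ v : Fin 1 ⊕ Fin 1 → F, plusQ 1 v = v (.inl 0) * v (.inr 0) := fun v => by
    rw [plusQ_coe]; simp [Cfsg.quadFormPlus]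
  let d : Fˣ →* oGroup (plusQ (F := F) 1) :=
    { toFun := fun t => ⟨LinearEquiv.piCongrRight fun i => LinearEquiv.smulOfUnit
          (Sum.elim (fun _ => t) (fun _ => t⁻¹) i : Fˣ), fun v => by
        rw [hQ, hQ]
        change ((t : F) * v (.inl 0)) * (((t⁻¹ : Fˣ) : F) * v (.inr 0)) = _
        rw [mul_mul_mul_comm, Units.mul_inv, one_mul]⟩
      map_one' := Subtype.ext (LinearEquiv.ext fun v => funext fun i => by
        rcases i with i | i
        · change ((1 : Fˣ) : F) * v (.inl i) = v (.inl i); simp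
        · change (((1 : Fˣ)⁻¹ : Fˣ) : F) * v (.inr i) = v (.inr i); simp)
      map_mul' := fun s t => Subtype.ext (LinearEquiv.ext fun v => funext fun i => by
        rcases i with i | i
        · change ((s * t : Fˣ) : F) * v (.inl i) = (s : F) * ((t : F) * v (.inl i))
          rw [Units.val_mul]; ring
        · change (((s * t)⁻¹ : Fˣ) : F) * v (.inr i) =
            ((s⁻¹ : Fˣ) : F) * (((t⁻¹ : Fˣ) : F) * v (.inr i))
          rw [mul_inv, Units.val_mul]; ring) }
  let s : oGroup (plusQ (F := F) 1) :=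
    ⟨LinearEquiv.funCongrLeft F F (Equiv.sumComm _ _), fun v => by
      rw [hQ, hQ]; change v (.inr 0) * v (.inl 0) = _; ring⟩
  have hdinj : Function.Injective d := fun x y e => Units.ext (by
    have := congrFun (LinearEquiv.congr_fun (congrArg Subtype.val e) (fun _ => (1 : F))) (.inl 0)
    change (x : F) * 1 = (y : F) * 1 at this
    simpa using this)
  obtain ⟨g, hg⟩ := IsCyclic.exists_generator (α := Fˣ)
  refine nonempty_dihedral (r := d g) (s := s) (by omega) ?_ ?_ ?_ ?_ hcard
  · exact Subtype.ext (LinearEquiv.ext fun v => funext fun i => by rcases i with i | i <;> rfl)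
  · rw [← map_inv]
    refine Subtype.ext (LinearEquiv.ext fun v => funext fun i => ?_)
    rcases i with i | i
    · rfl
    · change (g : F) * v (.inr i) = (((g⁻¹)⁻¹ : Fˣ) : F) * v (.inr i)
      rw [inv_inv]
  · rw [orderOf_injective d hdinj, orderOf_eq_card_of_forall_mem_zpowers hg, Nat.card_units, hq]
  · intro h
    obtain ⟨i, hi⟩ := Subgroup.mem_zpowers_iff.mp h
    rw [← map_zpow] at hi
    have := congrFun (LinearEquiv.congr_fun (congrArg Subtype.val hi)
      (Pi.single (.inl 0) (1 : F))) (.inl 0)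
    change ((g ^ i : Fˣ) : F) * (Pi.single (Sum.inl 0) 1 : Fin 1 ⊕ Fin 1 → F) (.inl 0) =
      (Pi.single (Sum.inl 0) 1 : Fin 1 ⊕ Fin 1 → F) (.inr 0) at this
    rw [Pi.single_eq_same, Pi.single_eq_of_ne (by simp), mul_one] at this
    exact (g ^ i).ne_zero this

end CfsgLib.Quad
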