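import Cfsg.Agent.Quad.SimpleOmega
import Cfsg.Agent.Quad.NegOne
import Cfsg.Agent.Quad.Orders
import Cfsg.Agent.Quad.Matrices

/-!
Orders and simplicity of `POmega` for forms of dimension at least five.
-/

set_option autoImplicit false
set_option linter.style.haveILetI false

namespace CfsgLib.Quad

open QuadraticMap CfsgLib.Forms

variable {F : Type*} [Field F]

theorem map_center_equiv {G G' : Type*} [Group G] [Group G'] (e : G ≃* G') :
    (Subgroup.center G).map e.toMonoidHom = Subgroup.center G' := by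
  ext x
  refine ⟨?_, fun hx => ⟨e.symm x, Subgroup.mem_center_iff.mpr fun y => e.injective ?_, e.apply_symm_apply x⟩⟩
  · rintro ⟨g, hg, rfl⟩
    refine Subgroup.mem_center_iff.mpr fun y => ?_
    obtain ⟨z, rfl⟩ := e.surjective y
    rw [MulEquiv.coe_toMonoidHom, ← map_mul, ← map_mul, Subgroup.mem_center_iff.mp hg z]
  · rw [map_mul, map_mul, e.apply_symm_apply]
    exact Subgroup.mem_center_iff.mp hx (e y)

/-- `Omega` in both languages. -/
noncomputable def omegaEquiv {ι : Type} [Fintype ι] [DecidableEq ι] (Q : QuadraticForm F (ι → F)) :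
    ↥(Cfsg.Omega F ⇑Q) ≃* ↥(commutator (oGroup Q)) :=
  ((isoGroupEquiv Q).subgroupMap _).trans
    (MulEquiv.subgroupCongr (commutator_map_equiv (isoGroupEquiv Q)))

/-- `POmega` in both languages. -/
noncomputable def pOmegaEquiv {ι : Type} [Fintype ι] [DecidableEq ι] (Q : QuadraticForm F (ι → F)) :
    Cfsg.POmega F ⇑Q ≃*
      ↥(commutator (oGroup Q)) ⧸ Subgroup.center ↥(commutator (oGroup Q)) :=
  QuotientGroup.congr _ _ (omegaEquiv Q) (map_center_equiv (omegaEquiv Q))

variable {V : Type*} [AddCommGroup V] [Module F V] [FiniteDimensional F V] [Finite F]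
  {Q : QuadraticForm F V} (hQ : (polarBilin Q).Nondegenerate)
  (hn : 5 ≤ Module.finrank F V)

include hQ hn

theorem center_omega_subset (g : commutator (oGroup Q))
    (hg : g ∈ Subgroup.center ↥(commutator (oGroup Q))) :
    g = 1 ∨ (g.1 = negIso Q) := by
  obtain ⟨c, hc, hgc⟩ := (center_iff hQ hn g).mp hg
  rcases mul_self_eq_one_iff.mp hc with rfl | rfl
  · exact Or.inl (Subtype.ext (Subtype.ext (LinearEquiv.ext fun v => (hgc v).trans (one_smul F v))))
  · exact Or.inr (Subtype.ext (LinearEquiv.ext fun v => (hgc v).trans (neg_one_smul F v)))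

theorem card_center_omega_one (h : (2 : F) = 0 ∨ negIso Q ∉ commutator (oGroup Q)) :
    Nat.card (Subgroup.center ↥(commutator (oGroup Q))) = 1 := by
  rw [Subgroup.card_eq_one, Subgroup.eq_bot_iff_forall]
  intro g hg
  rcases center_omega_subset hQ hn g hg with h1 | h1
  · exact h1
  rcases h with h2 | h2
  · refine Subtype.ext (h1.trans (Subtype.ext (LinearEquiv.ext fun v => ?_)))
    change -v = v
    have hm : (-1 : F) = 1 := by linear_combination -h2
    rw [← neg_one_smul F v, hm, one_smul]
  · exact absurd (h1 ▸ g.2) h2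

theorem card_center_omega_two (h2 : (2 : F) ≠ 0) (h : negIso Q ∈ commutator (oGroup Q)) :
    Nat.card (Subgroup.center ↥(commutator (oGroup Q))) = 2 := by
  obtain ⟨v, hv⟩ := exists_aniso hQ (by omega : 1 ≤ Module.finrank F V)
  have hz : (⟨negIso Q, h⟩ : commutator (oGroup Q)) ∈ Subgroup.center _ :=
    (center_iff hQ hn _).mpr ⟨-1, by ring, fun x => (neg_one_smul F x).symm⟩
  have hne : (⟨negIso Q, h⟩ : commutator (oGroup Q)) ≠ 1 := fun e => by
    have e1 : -v = v := congrArg (fun t : commutator (oGroup Q) => t.1.1 v) e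
    have e2 : (2 : F) • v = 0 := by rw [two_smul]; nth_rewrite 1 [← e1]; exact neg_add_cancel v
    exact hv (by rw [(smul_eq_zero.mp e2).resolve_left h2, QuadraticMap.map_zero])
  refine Nat.card_eq_two_iff.mpr ⟨1, ⟨_, hz⟩, fun e => hne (congrArg Subtype.val e).symm, ?_⟩
  refine Set.eq_univ_iff_forall.mpr fun g => ?_
  rcases center_omega_subset hQ hn g.1 g.2 with h1 | h1
  · exact Or.inl (Subtype.ext h1)
  · exact Or.inr (Subtype.ext (Subtype.ext h1))

omit hn in
theorem card_oGroup_eq (k : ℕ) (hk : (commutator (oGroup Q)).index = k) :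
    Nat.card (oGroup Q) = k * (Nat.card (Subgroup.center ↥(commutator (oGroup Q))) *
      Nat.card (↥(commutator (oGroup Q)) ⧸ Subgroup.center ↥(commutator (oGroup Q)))) := by
  rw [← hk, ← Subgroup.index_mul_card (commutator (oGroup Q))]
  congr 1
  rw [Subgroup.card_eq_card_quotient_mul_card_subgroup
    (Subgroup.center ↥(commutator (oGroup Q))), mul_comm]

/-- The order of the central quotient. -/
theorem card_pOmega (N : ℕ) (hN : Nat.card (oGroup Q) = 2 * N) :
    ((2 : F) = 0 → Nat.card (↥(commutator (oGroup Q)) ⧸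
      Subgroup.center ↥(commutator (oGroup Q))) = N) ∧
    ((2 : F) ≠ 0 → negIso Q ∉ commutator (oGroup Q) → 2 * Nat.card (↥(commutator (oGroup Q)) ⧸
      Subgroup.center ↥(commutator (oGroup Q))) = N) ∧
    ((2 : F) ≠ 0 → negIso Q ∈ commutator (oGroup Q) → 4 * Nat.card (↥(commutator (oGroup Q)) ⧸
      Subgroup.center ↥(commutator (oGroup Q))) = N) := by
  refine ⟨fun h2 => ?_, fun h2 h => ?_, fun h2 h => ?_⟩
  · haveI : CharP F 2 := CharTwo.of_one_ne_zero_of_two_eq_zero one_ne_zero h2
    have h1 := card_oGroup_eq hQ 2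
      (index_commutator_char_two hQ (by omega) (Or.inr (by omega)))
    rw [card_center_omega_one hQ hn (Or.inl h2)] at h1
    omega
  · have h1 := card_oGroup_eq hQ 4 (index_commutator_odd hQ h2 (by omega))
    rw [card_center_omega_one hQ hn (Or.inr h)] at h1
    omega
  · have h1 := card_oGroup_eq hQ 4 (index_commutator_odd hQ h2 (by omega))
    rw [card_center_omega_two hQ hn h2 h] at h1
    omega

omit [FiniteDimensional F V] hn hQ in
theorem negIso_notMem_of_odd (h2 : (2 : F) ≠ 0) (hodd : Odd (Module.finrank F V))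
    [FiniteDimensional F V] : negIso Q ∉ commutator (oGroup Q) := by
  intro h
  have h1 : detO Q (negIso Q) = 1 := MonoidHom.mem_ker.mp (Abelianization.commutator_subset_ker _ h)
  have h3 := congrArg Units.val h1
  rw [detO_val, Units.val_one, show (negIso Q).1.toLinearMap = (-1 : F) • LinearMap.id from
    LinearMap.ext fun v => (neg_one_smul F v).symm, LinearMap.det_smul, hodd.neg_one_pow,
    LinearMap.det_id, mul_one] at h3
  exact h2 (by linear_combination -h3)

end CfsgLib.Quad
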