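import Cfsg.Agent.Quad.Concrete
import Mathlib.LinearAlgebra.SymplecticGroup

/-!
In characteristic 2 the orthogonal group in dimension `2m+1` is `Sp_2m`, through the action on
the quotient by the radical.
-/

set_option autoImplicit false
set_option linter.flexible false

namespace CfsgLib.Quad.CharTwoOdd

open QuadraticMap Matrix

variable {F : Type*} [Field F] [CharP F 2] {m : ℕ}

/-- The form on `Unit ⊕ L` in terms of its two parts. -/
theorem oddForm_eq (v : Unit ⊕ (Fin m ⊕ Fin m) → F) :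
    Cfsg.quadFormOdd m F v = v (.inl ()) ^ 2 + plusQ m (v ∘ Sum.inr) := by
  rw [plusQ_coe]; rfl

/-- The polar form of the plus form is given by `J`. -/
theorem polar_plus_eq (u v : Fin m ⊕ Fin m → F) :
    plusQ m (u + v) = plusQ m u + plusQ m v + u ⬝ᵥ (Matrix.J (Fin m) F *ᵥ v) := by
  simp only [plusQ_coe, Cfsg.quadFormPlus, Matrix.J, Matrix.fromBlocks_mulVec, dotProduct,
    Fintype.sum_sum_type, Sum.elim_inl, Sum.elim_inr, Pi.add_apply, Matrix.zero_mulVec,
    Matrix.one_mulVec, Matrix.neg_mulVec, Pi.zero_apply, Pi.neg_apply, Function.comp_apply,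
    CharTwo.neg_eq, zero_add, add_zero, ← Finset.sum_add_distrib]
  exact Finset.sum_congr rfl fun i _ => by ring

theorem plus_smul (c : F) (w : Fin m ⊕ Fin m → F) : plusQ m (c • w) = c ^ 2 * plusQ m w := by
  rw [QuadraticMap.map_smul, smul_eq_mul, pow_two]

theorem bilin_single (M : Matrix (Fin m ⊕ Fin m) (Fin m ⊕ Fin m) F) (i j : Fin m ⊕ Fin m) :
    Pi.single i 1 ⬝ᵥ (M *ᵥ Pi.single j 1) = M i j := by
  rw [single_one_dotProduct, mulVec_single_one]; rfl

theorem symp_of_preserves {D : Matrix (Fin m ⊕ Fin m) (Fin m ⊕ Fin m) F}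
    (h : ∀ u v, (D *ᵥ u) ⬝ᵥ (Matrix.J (Fin m) F *ᵥ (D *ᵥ v)) = u ⬝ᵥ (Matrix.J (Fin m) F *ᵥ v)) :
    D ∈ Matrix.symplecticGroup (Fin m) F := by
  rw [SymplecticGroup.mem_iff']
  ext i j
  have := h (Pi.single i 1) (Pi.single j 1)
  rw [dotProduct_comm (D *ᵥ _), dotProduct_mulVec, ← mulVec_transpose, dotProduct_comm,
    bilin_single, mulVec_mulVec, mulVec_mulVec, bilin_single] at this
  rw [← this]

variable [Finite F]

/-- The data of an isometry: it fixes the radical vector and its lower right block is symplectic. -/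
theorem shape (g : Cfsg.isometryGroup F (Cfsg.quadFormOdd m F)) :
    g.1.1.toBlocks₁₁ = 1 ∧ g.1.1.toBlocks₂₁ = 0 ∧
      g.1.1.toBlocks₂₂ ∈ Matrix.symplecticGroup (Fin m) F := by
  set G := g.1.1 with hG
  have hQ : ∀ v, Cfsg.quadFormOdd m F (G *ᵥ v) = Cfsg.quadFormOdd m F v := fun v => g.2 v 0
  have hsurj : ∀ y, ∃ x, G *ᵥ x = y := fun y =>
    ⟨(g.1⁻¹).1 *ᵥ y, by rw [hG, mulVec_mulVec, ← Units.val_mul, mul_inv_cancel, Units.val_one,
      one_mulVec]⟩
  -- polarisation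
  have hB : ∀ u v, ((G *ᵥ u) ∘ Sum.inr) ⬝ᵥ (Matrix.J (Fin m) F *ᵥ ((G *ᵥ v) ∘ Sum.inr)) =
      (u ∘ Sum.inr) ⬝ᵥ (Matrix.J (Fin m) F *ᵥ (v ∘ Sum.inr)) := by
    intro u v
    have e := hQ (u + v)
    rw [mulVec_add] at e
    simp only [oddForm_eq, Pi.add_apply, CharTwo.add_sq] at e
    have eu := hQ u
    have ev := hQ v
    simp only [oddForm_eq] at eu ev
    change _ + plusQ m ((G *ᵥ u) ∘ Sum.inr + (G *ᵥ v) ∘ Sum.inr) =
      _ + plusQ m (u ∘ Sum.inr + v ∘ Sum.inr) at e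
    rw [polar_plus_eq, polar_plus_eq] at e
    linear_combination e - eu - ev
  have hcol : ∀ j, (G *ᵥ Pi.single (Sum.inl ()) 1) (Sum.inr j) = 0 := by
    intro j
    obtain ⟨x, hx⟩ := hsurj (Sum.elim 0 (Matrix.J (Fin m) F *ᵥ Pi.single j 1))
    have := hB (Pi.single (Sum.inl ()) 1) x
    rw [hx, Sum.elim_comp_inr, mulVec_mulVec, J_squared, neg_mulVec, one_mulVec, dotProduct_neg,
      dotProduct_single_one] at this
    have h0 : (Pi.single (Sum.inl ()) 1 : Unit ⊕ (Fin m ⊕ Fin m) → F) ∘ Sum.inr = 0 := by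
      funext k; simp
    rw [h0, zero_dotProduct, neg_eq_zero] at this
    exact this
  have h21 : G.toBlocks₂₁ = 0 := by
    ext j ⟨⟩
    have := hcol j
    rwa [mulVec_single_one] at this
  have h11 : G.toBlocks₁₁ = 1 := by
    ext ⟨⟩ ⟨⟩
    have e := hQ (Pi.single (Sum.inl ()) 1)
    simp only [oddForm_eq] at e
    rw [show (G *ᵥ Pi.single (Sum.inl ()) 1) ∘ Sum.inr = 0 from funext hcol,
      show (Pi.single (Sum.inl ()) 1 : Unit ⊕ (Fin m ⊕ Fin m) → F) ∘ Sum.inr = 0 from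
        funext fun k => by simp, mulVec_single_one] at e
    simp at e
    rcases e with e | e
    · exact e
    · rwa [CharTwo.neg_eq] at e
  refine ⟨h11, h21, symp_of_preserves fun u v => ?_⟩
  have key : ∀ w, (G *ᵥ Sum.elim 0 w) ∘ Sum.inr = G.toBlocks₂₂ *ᵥ w := by
    intro w
    conv_lhs => rw [← fromBlocks_toBlocks G, fromBlocks_mulVec, Sum.elim_comp_inr]
    simp
  simpa [key] using hB (Sum.elim 0 u) (Sum.elim 0 v)

/-- The action on the quotient by the radical. -/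
def toSymp (m : ℕ) :
    Cfsg.isometryGroup F (Cfsg.quadFormOdd m F) →* Matrix.symplecticGroup (Fin m) F where
  toFun g := ⟨g.1.1.toBlocks₂₂, (shape g).2.2⟩
  map_one' := Subtype.ext (by
    change (1 : Matrix (Unit ⊕ (Fin m ⊕ Fin m)) (Unit ⊕ (Fin m ⊕ Fin m)) F).toBlocks₂₂ = 1
    rw [← fromBlocks_one, toBlocks_fromBlocks₂₂])
  map_mul' g h := Subtype.ext (by
    change (g.1.1 * h.1.1).toBlocks₂₂ = g.1.1.toBlocks₂₂ * h.1.1.toBlocks₂₂
    conv_lhs => rw [← fromBlocks_toBlocks g.1.1, ← fromBlocks_toBlocks h.1.1, fromBlocks_multiply,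
      toBlocks_fromBlocks₂₂, (shape g).2.1]
    simp)

theorem toSymp_injective : Function.Injective (toSymp (F := F) m) := by
  refine (injective_iff_map_eq_one _).mpr fun g hg => ?_
  have h22 : g.1.1.toBlocks₂₂ = 1 := congrArg Subtype.val hg
  refine Subtype.ext (Units.ext ?_)
  obtain ⟨h11, h21, -⟩ := shape g
  have h12 : g.1.1.toBlocks₁₂ = 0 := by
    ext ⟨⟩ j
    have e := g.2 (Sum.elim 0 (Pi.single j 1)) 0
    change Cfsg.quadFormOdd m F (g.1.1 *ᵥ _) = Cfsg.quadFormOdd m F _ at e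
    rw [← fromBlocks_toBlocks g.1.1, fromBlocks_mulVec] at e
    simp only [oddForm_eq, Sum.elim_comp_inl, Sum.elim_comp_inr, h21, h22, one_mulVec,
      zero_mulVec, mulVec_zero, zero_add, Sum.elim_inl, Pi.add_apply, Pi.zero_apply,
      Pi.zero_comp] at e
    simp [mulVec_single_one, col] at e
    exact e
  change g.1.1 = 1
  rw [← fromBlocks_toBlocks g.1.1, h11, h12, h21, h22, fromBlocks_one]

theorem toSymp_surjective : Function.Surjective (toSymp (F := F) m) := by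
  intro A
  set f : (Fin m ⊕ Fin m → F) → F := fun w => plusQ m w + plusQ m (A.1 *ᵥ w) with hf
  have hA := SymplecticGroup.mem_iff'.mp A.2
  have hpres : ∀ u v, (A.1 *ᵥ u) ⬝ᵥ (Matrix.J (Fin m) F *ᵥ (A.1 *ᵥ v)) =
      u ⬝ᵥ (Matrix.J (Fin m) F *ᵥ v) := by
    intro u v
    rw [dotProduct_comm (A.1 *ᵥ u), dotProduct_mulVec, ← mulVec_transpose, dotProduct_comm,
      mulVec_mulVec, mulVec_mulVec, hA]
  have hadd : ∀ u v, f (u + v) = f u + f v := by
    intro u v
    simp only [hf, mulVec_add, polar_plus_eq, hpres]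
    linear_combination (CharTwo.add_self_eq_zero (u ⬝ᵥ (Matrix.J (Fin m) F *ᵥ v)))
  have hsq : ∀ c w, f (c • w) = c ^ 2 * f w := by
    intro c w
    simp only [hf, mulVec_smul, plus_smul]; ring
  have hsqrt : ∀ x : F, ∃ y, y ^ 2 = x := fun x =>
    ((Finite.injective_iff_bijective).mp (CharTwo.sq_injective (R := F))).2 x
  choose r hr using fun j => hsqrt (f (Pi.single j 1))
  have hfr : ∀ w, f w = (r ⬝ᵥ w) ^ 2 := by
    intro w
    let fh : (Fin m ⊕ Fin m → F) →+ F := AddMonoidHom.mk' f hadd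
    have hw : w = ∑ j, w j • (Pi.single j 1 : Fin m ⊕ Fin m → F) := pi_eq_sum_univ' w
    calc f w = fh (∑ j, w j • (Pi.single j 1 : Fin m ⊕ Fin m → F)) := by rw [← hw]; rfl
      _ = ∑ j, (r j * w j) ^ 2 := by
          rw [map_sum]
          exact Finset.sum_congr rfl fun j _ => (hsq _ _).trans (by rw [← hr]; ring)
      _ = _ := (sum_pow_char 2 _ _).symm
  set G := Matrix.fromBlocks (1 : Matrix Unit Unit F) (Matrix.replicateRow Unit r) 0 A.1
  have hdet : IsUnit G.det := by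
    rw [det_fromBlocks_zero₂₁, det_one, one_mul]; exact SymplecticGroup.symplectic_det A.2
  refine ⟨⟨Matrix.GeneralLinearGroup.mk'' G hdet, fun u _ => ?_⟩, Subtype.ext ?_⟩
  · change Cfsg.quadFormOdd m F (G *ᵥ u) = Cfsg.quadFormOdd m F u
    have := hfr (u ∘ Sum.inr)
    simp only [hf] at this
    simp only [G, oddForm_eq, fromBlocks_mulVec, Sum.elim_comp_inr, Sum.elim_inl, Pi.add_apply,
      zero_mulVec, zero_add, one_mulVec, Function.comp_apply]
    rw [show (replicateRow Unit r *ᵥ u ∘ Sum.inr) () = r ⬝ᵥ (u ∘ Sum.inr) from rfl, CharTwo.add_sq,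
      ← this]
    linear_combination (CharTwo.add_self_eq_zero (plusQ m (A.1 *ᵥ (u ∘ Sum.inr))))
  · exact toBlocks_fromBlocks₂₂ _ _ _ _

/-- `O_{2m+1}(F) ≅ Sp_{2m}(F)` for a finite field of characteristic 2. -/
noncomputable def oddEquivSymp (m : ℕ) :
    Cfsg.isometryGroup F (Cfsg.quadFormOdd m F) ≃* Matrix.symplecticGroup (Fin m) F :=
  MulEquiv.ofBijective (toSymp m) ⟨toSymp_injective, toSymp_surjective⟩

end CfsgLib.Quad.CharTwoOdd
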