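import Cfsg.Agent.Quad.Klein
import Cfsg.Agent.Quad.NegOne
import Cfsg.Agent.Classical.SymplecticSimple
import Cfsg.Agent.Classical.SymplecticBlocks

/-!
`POmega_5(q) ≅ PSp_4(q)` through the Klein correspondence.
-/

set_option autoImplicit false
set_option linter.style.haveILetI false
set_option linter.flexible false

namespace CfsgLib.Quad

open QuadraticMap Matrix CfsgLib.Forms

variable {F : Type*} [Field F]

/-- The coordinates of the symplectic form. -/
def sympVec (F : Type*) [Field F] : Fin 3 ⊕ Fin 3 → F :=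
  Sum.elim ![0, -1, 0] ![0, 1, 0]

/-- The orthogonal complement of the symplectic form. -/
def oddEmb : (Unit ⊕ (Fin 2 ⊕ Fin 2) → F) →ₗ[F] (Fin 3 ⊕ Fin 3 → F) where
  toFun v := Sum.elim ![v (Sum.inr (Sum.inl 0)), v (Sum.inl ()), v (Sum.inr (Sum.inl 1))]
    ![v (Sum.inr (Sum.inr 0)), v (Sum.inl ()), v (Sum.inr (Sum.inr 1))]
  map_add' u v := by funext i; rcases i with i | i <;> fin_cases i <;> simp
  map_smul' c v := by funext i; rcases i with i | i <;> fin_cases i <;> simp

theorem oddEmb_plusQ (v : Unit ⊕ (Fin 2 ⊕ Fin 2) → F) : plusQ 3 (oddEmb v) = oddQ 2 v := by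
  simp [plusQ_coe, oddQ_coe, Cfsg.quadFormPlus, Cfsg.quadFormOdd, oddEmb, Fin.sum_univ_three,
    Fin.sum_univ_two]
  ring

/-- Reindexing of `Fin 2 ⊕ Fin 2` as `Fin 4`. -/
def spReindex (F : Type*) [Field F] :
    Matrix.symplecticGroup (Fin 2) F →* Matrix (Fin 4) (Fin 4) F :=
  (Matrix.reindexAlgEquiv F F (finSumFinEquiv (m := 2) (n := 2))).toRingEquiv.toMonoidHom.comp
    (Matrix.symplecticGroup (Fin 2) F).subtype

theorem spReindex_apply (g : Matrix.symplecticGroup (Fin 2) F) :
    spReindex F g =
      Matrix.reindexAlgEquiv F F finSumFinEquiv (g : Matrix (Fin 2 ⊕ Fin 2) (Fin 2 ⊕ Fin 2) F) :=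
  rfl

theorem spReindex_congr_J (g : Matrix.symplecticGroup (Fin 2) F) :
    spReindex F g * klein (sympVec F) * (spReindex F g)ᵀ = klein (sympVec F) := by
  have hJ : klein (sympVec F) =
      Matrix.reindexAlgEquiv F F finSumFinEquiv (Matrix.J (Fin 2) F) := by
    ext i j
    fin_cases i <;> fin_cases j <;>
      simp [klein, sympVec, Matrix.J, Matrix.reindexAlgEquiv_apply, finSumFinEquiv, Fin.addCases,
        Matrix.one_apply]
  have ht : (spReindex F g)ᵀ = Matrix.reindexAlgEquiv F F finSumFinEquiv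
      (g : Matrix (Fin 2 ⊕ Fin 2) (Fin 2 ⊕ Fin 2) F)ᵀ := rfl
  rw [ht, spReindex_apply, hJ, ← map_mul, ← map_mul]
  exact congrArg _ (SymplecticGroup.mem_iff.mp g.2)

variable [Finite F]

theorem det_spReindex (h2 : (2 : F) ≠ 0) (g : Matrix.symplecticGroup (Fin 2) F) :
    (spReindex F g).det = 1 := by
  rw [spReindex_apply, Matrix.reindexAlgEquiv_apply, Matrix.det_reindex_self]
  have hperf := CfsgLib.Symp.commutator_eq_top (l := Fin 2) (F := F)
    (Or.inr (Or.inl ⟨by simp, h2⟩))
  let d : Matrix.symplecticGroup (Fin 2) F →* Fˣ :=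
    (Matrix.detMonoidHom.comp (Matrix.symplecticGroup (Fin 2) F).subtype).toHomUnits
  have hd : g ∈ d.ker := Abelianization.commutator_subset_ker d (by rw [hperf]; trivial)
  exact congrArg Units.val (MonoidHom.mem_ker.mp hd)

theorem nonempty_pOmega_five (h2 : (2 : F) ≠ 0) :
    Nonempty (Cfsg.POmega F ⇑(oddQ (F := F) 2) ≃* Cfsg.PSp 2 F) := by
  classical
  haveI := Fintype.ofFinite F
  haveI := finite_oGroup (oddQ (F := F) 2)
  set S := Matrix.symplecticGroup (Fin 2) F
  let act := congrAct (F := F) (spReindex F) (spReindex F)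
  let M := (klein (K := F)).comp (oddEmb (F := F))
  have hinjE : Function.Injective (oddEmb (F := F)) := fun u v e => by
    funext i
    rcases i with i | i | i
    · exact congrFun e (Sum.inl 1)
    · fin_cases i
      · exact congrFun e (Sum.inl 0)
      · exact congrFun e (Sum.inl 2)
    · fin_cases i
      · exact congrFun e (Sum.inr 0)
      · exact congrFun e (Sum.inr 2)
  have hinj : Function.Injective M := klein_injective.comp hinjE
  have hQ6 : ∀ (g : S) p r, klein r = spReindex F g * klein p * (spReindex F g)ᵀ →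
      plusQ (F := F) 3 r = plusQ 3 p := fun g p r e => plusQ_of_klein_eq (det_spReindex h2 g) e
  have hstab : ∀ g v, ∃ w, M w = act g (M v) := by
    intro g v
    set r := kleinInv (spReindex F g * klein (oddEmb v) * (spReindex F g)ᵀ) with hr
    have hkr : klein r = spReindex F g * klein (oddEmb v) * (spReindex F g)ᵀ := klein_congr_mem _ _
    have hkrJ : klein (r + sympVec F) =
        spReindex F g * klein (oddEmb v + sympVec F) * (spReindex F g)ᵀ := by
      rw [map_add, map_add, hkr, Matrix.mul_add, Matrix.add_mul, spReindex_congr_J]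
    have h0 := hQ6 g _ _ hkr
    have h1 := hQ6 g _ _ hkrJ
    rw [quad_add, quad_add, h0] at h1
    have h3 : polar (plusQ 3) r (sympVec F) = polar (plusQ 3) (oddEmb v) (sympVec F) := by
      linear_combination h1
    simp [polar_plusQ, sympVec, oddEmb, Fin.sum_univ_three] at h3
    refine ⟨Sum.elim (fun _ => r (Sum.inl 1))
      (Sum.elim ![r (Sum.inl 0), r (Sum.inl 2)] ![r (Sum.inr 0), r (Sum.inr 2)]), ?_⟩
    change klein _ = _
    refine (congrArg klein ?_).trans hkr
    funext i
    rcases i with i | i <;> fin_cases i <;> simp [oddEmb] <;> linear_combination h3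
  have hQ : ∀ g v w, M w = act g (M v) → oddQ (F := F) 2 w = oddQ 2 v := by
    intro g v w e
    rw [← oddEmb_plusQ, ← oddEmb_plusQ]
    exact hQ6 g _ _ e
  let f := repO act M hinj hstab hQ
  have hker : f.ker = Subgroup.center S := by
    ext g
    rw [MonoidHom.mem_ker, repO_eq_one_iff, CfsgLib.Symp.mem_center_iff]
    have hpm : spReindex F g = 1 ∨ spReindex F g = -1 ↔
        (g : Matrix (Fin 2 ⊕ Fin 2) (Fin 2 ⊕ Fin 2) F) = 1 ∨
          (g : Matrix (Fin 2 ⊕ Fin 2) (Fin 2 ⊕ Fin 2) F) = -1 := by
      rw [spReindex_apply]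
      set φ := Matrix.reindexAlgEquiv F F (finSumFinEquiv (m := 2) (n := 2))
      constructor
      · rintro (e | e)
        · exact Or.inl (φ.injective (e.trans (map_one φ).symm))
        · exact Or.inr (φ.injective (e.trans (by rw [map_neg, map_one])))
      · rintro (e | e)
        · exact Or.inl (by rw [e, map_one])
        · exact Or.inr (by rw [e, map_neg, map_one])
    rw [← hpm]
    constructor
    · intro h
      refine eq_pm_of_congr_klein fun p => ?_
      set c := (p (Sum.inl 1) - p (Sum.inr 1)) / 2 with hc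
      have hdec : p = oddEmb (Sum.elim (fun _ => p (Sum.inl 1) - c)
          (Sum.elim ![p (Sum.inl 0), p (Sum.inl 2)] ![p (Sum.inr 0), p (Sum.inr 2)])) +
            (-c) • sympVec F := by
        funext i
        rcases i with i | i <;> fin_cases i <;> simp [oddEmb, sympVec, hc] <;> field_simp <;> ring
      rw [hdec, map_add, map_smul, Matrix.mul_add, Matrix.add_mul, Matrix.mul_smul, Matrix.smul_mul,
        spReindex_congr_J]
      congr 1
      exact h _
    · intro h v
      exact congr_klein_of_pm h _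
  have hk : Nat.card f.ker = 2 := by
    rw [hker, CfsgLib.Symp.card_center]
    have h0 := odd_card_of_two_ne h2
    have h1 : 1 < Nat.card F := Finite.one_lt_card
    obtain ⟨k, hk⟩ : 2 ∣ Nat.card F - 1 := Nat.dvd_of_mod_eq_zero (by omega)
    rw [hk]; exact Nat.gcd_eq_left ⟨k, rfl⟩
  have hperf : commutator S = ⊤ :=
    CfsgLib.Symp.commutator_eq_top (Or.inr (Or.inl ⟨by simp, h2⟩))
  have hrange := range_eq_commutator_odd (oddQ_nondeg h2 2) h2 (by simp) f (sqGen_of_perfect hperf)
    (by
      rw [hk, CfsgLib.Symp.card_Sp]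
      have h := card_oGroup_odd (F := F) (q := Nat.card F) rfl h2 2
      have h1 : ∀ k, 1 ≤ Nat.card F ^ k := fun k => Nat.one_le_pow _ _ Nat.card_pos
      apply Nat.cast_injective (R := ℤ)
      push_cast [h1]
      rw [h]
      simp [Finset.prod_range_succ]
      ring)
  obtain ⟨e⟩ := nonempty_central_quotient f hrange (sqGen_of_perfect hperf) fun g hg => by
    have hc : g ∈ Subgroup.center S := hker ▸ MonoidHom.mem_ker.mpr hg
    refine ⟨hc, Subtype.ext ?_⟩
    rcases CfsgLib.Symp.mem_center_iff.mp hc with e | e <;> simp [e]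
  exact ⟨(pOmegaEquiv _).trans e⟩

end CfsgLib.Quad
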