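import Cfsg.Agent.Quad.HypPairs
import Cfsg.Agent.Quad.NegOne
import Mathlib.LinearAlgebra.Matrix.Transvection

/-!
The Levi subgroup `diag(A, A⁻ᵀ)` and the swap in the plus type orthogonal group.
-/

set_option autoImplicit false
set_option linter.style.haveILetI false

namespace CfsgLib.Quad

open QuadraticMap Matrix

variable {F : Type*} [Field F] {m : ℕ}

/-- The isometry `diag(A, A⁻ᵀ)`. -/
noncomputable def levi (m : ℕ) : GL (Fin m) F →* oGroup (plusQ (F := F) m) where
  toFun A := ⟨LinearEquiv.ofLinear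
      (Matrix.mulVecLin (fromBlocks (A : Matrix (Fin m) (Fin m) F) 0 0 ((↑A⁻¹ : Matrix (Fin m) (Fin m) F))ᵀ))
      (Matrix.mulVecLin (fromBlocks (↑A⁻¹ : Matrix (Fin m) (Fin m) F) 0 0 (A : Matrix (Fin m) (Fin m) F)ᵀ))
      (by
        rw [← Matrix.mulVecLin_mul, fromBlocks_multiply, ← transpose_mul]
        simp [fromBlocks_one])
      (by
        rw [← Matrix.mulVecLin_mul, fromBlocks_multiply, ← transpose_mul]
        simp [fromBlocks_one]), fun v => by
    show plusQ m (fromBlocks (_ : Matrix (Fin m) (Fin m) F) 0 0 (_ : Matrix (Fin m) (Fin m) F) *ᵥ v) = plusQ m v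
    rw [plusQ_coe, fromBlocks_mulVec]
    simp only [Cfsg.quadFormPlus, Matrix.zero_mulVec, add_zero, zero_add, Sum.elim_inl, Sum.elim_inr]
    show ((A : Matrix (Fin m) (Fin m) F) *ᵥ (v ∘ Sum.inl)) ⬝ᵥ
      ((↑A⁻¹ : Matrix (Fin m) (Fin m) F)ᵀ *ᵥ (v ∘ Sum.inr)) = (v ∘ Sum.inl) ⬝ᵥ (v ∘ Sum.inr)
    rw [Matrix.mulVec_transpose, dotProduct_comm, ← Matrix.dotProduct_mulVec, Matrix.mulVec_mulVec,
      Units.inv_mul, Matrix.one_mulVec, dotProduct_comm]⟩
  map_one' := by
    refine Subtype.ext (LinearEquiv.ext fun v => ?_)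
    show fromBlocks (_ : Matrix (Fin m) (Fin m) F) 0 0 (_ : Matrix (Fin m) (Fin m) F) *ᵥ v = v
    simp [fromBlocks_one]
  map_mul' A B := by
    refine Subtype.ext (LinearEquiv.ext fun v => ?_)
    show fromBlocks (_ : Matrix (Fin m) (Fin m) F) 0 0 (_ : Matrix (Fin m) (Fin m) F) *ᵥ v = fromBlocks (_ : Matrix (Fin m) (Fin m) F) 0 0 (_ : Matrix (Fin m) (Fin m) F) *ᵥ (fromBlocks (_ : Matrix (Fin m) (Fin m) F) 0 0 (_ : Matrix (Fin m) (Fin m) F) *ᵥ v)
    rw [Matrix.mulVec_mulVec, fromBlocks_multiply, ← transpose_mul]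
    simp

theorem levi_apply (A : GL (Fin m) F) (v : Fin m ⊕ Fin m → F) :
    (levi m A).1 v = Sum.elim ((A : Matrix (Fin m) (Fin m) F) *ᵥ (v ∘ Sum.inl))
      ((↑A⁻¹ : Matrix (Fin m) (Fin m) F)ᵀ *ᵥ (v ∘ Sum.inr)) := by
  show fromBlocks (_ : Matrix (Fin m) (Fin m) F) 0 0 (_ : Matrix (Fin m) (Fin m) F) *ᵥ v = _
  rw [fromBlocks_mulVec]
  simp

/-- The fixed space of a Levi element is even-dimensional. -/
theorem even_fixSp_levi (A : GL (Fin m) F) : Even (Module.finrank F (fixSp (levi m A))) := by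
  set M : Matrix (Fin m) (Fin m) F := (A : Matrix (Fin m) (Fin m) F) with hM
  set N : Matrix (Fin m) (Fin m) F := (↑A⁻¹ : Matrix (Fin m) (Fin m) F)ᵀ with hN
  let e : fixSp (levi m A) ≃ₗ[F] LinearMap.ker (M - 1).mulVecLin × LinearMap.ker (N - 1).mulVecLin :=
    { toFun := fun v => ⟨⟨v.1 ∘ Sum.inl, by
          have h := mem_fixSp.1 v.2
          rw [levi_apply] at h
          rw [LinearMap.mem_ker, Matrix.mulVecLin_apply, Matrix.sub_mulVec, Matrix.one_mulVec, sub_eq_zero]
          exact funext fun i => congrFun h (Sum.inl i)⟩, ⟨v.1 ∘ Sum.inr, by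
          have h := mem_fixSp.1 v.2
          rw [levi_apply] at h
          rw [LinearMap.mem_ker, Matrix.mulVecLin_apply, Matrix.sub_mulVec, Matrix.one_mulVec, sub_eq_zero]
          exact funext fun i => congrFun h (Sum.inr i)⟩⟩
      map_add' := fun u v => rfl
      map_smul' := fun c v => rfl
      invFun := fun p => ⟨Sum.elim p.1.1 p.2.1, by
        have h1 := p.1.2
        have h2 := p.2.2
        rw [LinearMap.mem_ker, Matrix.mulVecLin_apply, Matrix.sub_mulVec, Matrix.one_mulVec, sub_eq_zero] at h1 h2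
        rw [mem_fixSp, levi_apply, Sum.elim_comp_inl, Sum.elim_comp_inr, ← hM, ← hN, h1, h2]⟩
      left_inv := fun v => Subtype.ext (Sum.elim_comp_inl_inr _)
      right_inv := fun p => rfl }
  have hk : LinearMap.ker (N - 1).mulVecLin = LinearMap.ker (Mᵀ - 1).mulVecLin := by
    ext y
    simp only [LinearMap.mem_ker, Matrix.mulVecLin_apply, Matrix.sub_mulVec, Matrix.one_mulVec, sub_eq_zero]
    constructor
    · intro h
      conv_lhs => rw [← h]
      rw [Matrix.mulVec_mulVec, hM, hN, ← transpose_mul, Units.inv_mul, transpose_one, Matrix.one_mulVec]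
    · intro h
      conv_lhs => rw [← h]
      rw [Matrix.mulVec_mulVec, hM, hN, ← transpose_mul, Units.mul_inv, transpose_one, Matrix.one_mulVec]
  have h1 := (M - 1).mulVecLin.finrank_range_add_finrank_ker
  have h2 := (Mᵀ - 1).mulVecLin.finrank_range_add_finrank_ker
  have hr : (Mᵀ - 1).rank = (M - 1).rank := by
    rw [← Matrix.rank_transpose (M - 1), transpose_sub, transpose_one]
  rw [Matrix.rank, Matrix.rank] at hr
  refine ⟨Module.finrank F (LinearMap.ker (M - 1).mulVecLin), ?_⟩
  rw [e.finrank_eq, Module.finrank_prod, hk]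
  omega

variable [Finite F]

theorem hgen_plus (h : Nat.card F ≠ 2 ∨ m ≠ 2) :
    (∃ t : F, t ≠ 0 ∧ t ≠ 1) ∨ Module.finrank F (Fin m ⊕ Fin m → F) ≠ 4 := by
  haveI := Fintype.ofFinite F
  rw [Nat.card_eq_fintype_card] at h
  rcases h with h | h
  · exact (hgen_of_card (n := 4) (Or.inl h)).imp_right fun e => absurd (Module.finrank_fin_fun F) e
  · exact Or.inr (by rw [Module.finrank_fintype_fun_eq_card, Fintype.card_sum, Fintype.card_fin]; omega)

theorem levi_diag_mem_iff (h : Nat.card F ≠ 2 ∨ m ≠ 2) (D : GL (Fin m) F) (d : Fin m → F)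
    (hD : (D : Matrix (Fin m) (Fin m) F) = Matrix.diagonal d) :
    levi m D ∈ commutator (oGroup (plusQ (F := F) m)) ↔ IsSquare (∏ i, d i) := by
  have hd : ∀ i, d i ≠ 0 := fun i h0 => by
    have h1 := congrArg Matrix.det (Units.mul_inv D)
    rw [Matrix.det_mul, hD, Matrix.det_diagonal, Finset.prod_eq_zero (Finset.mem_univ i) h0, zero_mul,
      Matrix.det_one] at h1
    exact zero_ne_one h1
  obtain ⟨vs, hvs, hev, hprod, happ⟩ := exists_torus (isHypFamily_plus (F := F) m) hd
  have hinv : ((↑D⁻¹ : Matrix (Fin m) (Fin m) F)) = Matrix.diagonal fun i => (d i)⁻¹ := by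
    refine (left_inv_eq_right_inv (Units.inv_mul D) ?_)
    rw [hD, Matrix.diagonal_mul_diagonal, ← Matrix.diagonal_one]
    congr 1
    funext i
    exact mul_inv_cancel₀ (hd i)
  have heq : levi m D = reflProd (plusQ m) vs := by
    refine Subtype.ext (LinearEquiv.ext fun x => ?_)
    have hp : ∀ i : Fin m, polar (plusQ m) x (Pi.single (Sum.inr i) 1) = x (Sum.inl i) ∧
        polar (plusQ m) x (Pi.single (Sum.inl i) 1) = x (Sum.inr i) := fun i => by
      constructor <;>
        simp [polar, plusQ_coe, Cfsg.quadFormPlus, Pi.single_apply, add_mul, mul_add, Finset.sum_add_distrib]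
    rw [levi_apply, happ, hD, hinv, Matrix.diagonal_transpose]
    funext k
    simp only [fun i => (hp i).1, fun i => (hp i).2]
    rcases k with k | k <;> simp [Matrix.mulVec_diagonal, Finset.sum_add_distrib, Pi.single_apply] <;> ring
  rw [heq, reflProd_mem_commutator_iff (plusQ_nondeg m) (hgen_plus h) hvs, and_iff_right hev, hprod]

theorem levi_mem_iff (h : Nat.card F ≠ 2 ∨ m ≠ 2) (A : GL (Fin m) F) :
    levi m A ∈ commutator (oGroup (plusQ (F := F) m)) ↔ IsSquare (A : Matrix (Fin m) (Fin m) F).det := by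
  rcases two_ne_zero_or_charP (F := F) with h2 | h2
  · obtain ⟨L, L', D, hA⟩ := Matrix.Pivot.exists_list_transvec_mul_diagonal_mul_list_transvec
      (A : Matrix (Fin m) (Fin m) F)
    have hlist : ∀ l : List (Matrix.TransvectionStruct (Fin m) F), ∃ U : GL (Fin m) F,
        (U : Matrix (Fin m) (Fin m) F) = (l.map Matrix.TransvectionStruct.toMatrix).prod ∧
        (U : Matrix (Fin m) (Fin m) F).det = 1 ∧
        levi m U ∈ commutator (oGroup (plusQ (F := F) m)) := by
      intro l
      induction l with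
      | nil => exact ⟨1, rfl, Matrix.det_one, by rw [map_one]; exact one_mem _⟩
      | cons t l ih =>
        obtain ⟨U, hU, hUd, hUm⟩ := ih
        let H : GL (Fin m) F := ⟨Matrix.transvection t.i t.j (t.c / 2), Matrix.transvection t.i t.j (-(t.c / 2)),
          by rw [Matrix.transvection_mul_transvection_same _ _ t.hij, add_neg_cancel, Matrix.transvection_zero],
          by rw [Matrix.transvection_mul_transvection_same _ _ t.hij, neg_add_cancel, Matrix.transvection_zero]⟩
        refine ⟨H * H * U, ?_, ?_, ?_⟩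
        · rw [List.map_cons, List.prod_cons, ← hU, Units.val_mul, Units.val_mul]
          show Matrix.transvection t.i t.j (t.c / 2) * Matrix.transvection t.i t.j (t.c / 2) * _ = _
          rw [Matrix.transvection_mul_transvection_same _ _ t.hij, show t.c / 2 + t.c / 2 = t.c by field_simp; ring]
          rfl
        · rw [Units.val_mul, Units.val_mul, Matrix.det_mul, Matrix.det_mul, hUd,
            show (H : Matrix (Fin m) (Fin m) F).det = 1 from Matrix.det_transvection_of_ne _ _ t.hij _, one_mul, one_mul]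
        · rw [map_mul, map_mul]
          refine mul_mem ?_ hUm
          obtain ⟨vs, hvs, e⟩ := exists_reflProd (plusQ_nondeg m) (hgen_plus h) (levi m H)
          rw [e, ← reflProd_append, reflProd_mem_commutator_iff (plusQ_nondeg m) (hgen_plus h)
            (List.forall_mem_append.2 ⟨hvs, hvs⟩), List.length_append, List.map_append, List.prod_append]
          exact ⟨⟨_, rfl⟩, IsSquare.mul_self _⟩
    obtain ⟨U, hU, hUd, hUm⟩ := hlist L
    obtain ⟨U', hU', hUd', hUm'⟩ := hlist L'
    set Dg : GL (Fin m) F := U⁻¹ * A * U'⁻¹ with hDg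
    have hDm : (Dg : Matrix (Fin m) (Fin m) F) = Matrix.diagonal D := by
      rw [hDg, Units.val_mul, Units.val_mul, hA, ← hU, ← hU']
      simp only [← mul_assoc, Units.inv_mul, one_mul]
      rw [mul_assoc, Units.mul_inv, mul_one]
    have hAeq : A = U * Dg * U' := by rw [hDg]; group
    have hdet : (A : Matrix (Fin m) (Fin m) F).det = ∏ i, D i := by
      rw [hA, ← hU, ← hU', Matrix.det_mul, Matrix.det_mul, hUd, hUd', Matrix.det_diagonal, one_mul, mul_one]
    rw [hdet, ← levi_diag_mem_iff h Dg D hDm, hAeq, map_mul, map_mul, Subgroup.mul_mem_cancel_right _ hUm',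
      Subgroup.mul_mem_cancel_left _ hUm]
  · rw [iff_true_right (isSquare_char_two _), mem_commutator_iff_fixSp (plusQ_nondeg m) (hgen_plus h)]
    refine Even.add ?_ (even_fixSp_levi A)
    rw [Module.finrank_fintype_fun_eq_card, Fintype.card_sum, Fintype.card_fin]
    exact ⟨m, rfl⟩

omit [Finite F] in
theorem exists_swap_plus (m : ℕ) : ∃ vs : List (Fin m ⊕ Fin m → F),
    (∀ v ∈ vs, plusQ m v ≠ 0) ∧ vs.length = m ∧ (vs.map fun v => plusQ m v).prod = (-1) ^ m ∧
      ∀ x, (reflProd (plusQ m) vs).1 x = x ∘ Sum.swap := by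
  obtain ⟨vs, hvs, hlen, hprod, happ⟩ := exists_swap (isHypFamily_plus (F := F) m)
  rw [Fintype.card_fin] at hlen hprod
  refine ⟨vs, hvs, hlen, hprod, fun x => ?_⟩
  have hp : ∀ i : Fin m, polar (plusQ m) x (Pi.single (Sum.inr i) 1) = x (Sum.inl i) ∧
      polar (plusQ m) x (Pi.single (Sum.inl i) 1) = x (Sum.inr i) := fun i => by
    constructor <;>
      simp [polar, plusQ_coe, Cfsg.quadFormPlus, Pi.single_apply, add_mul, mul_add, Finset.sum_add_distrib]
  rw [happ]
  funext k
  simp only [fun i => (hp i).1, fun i => (hp i).2]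
  rcases k with k | k <;> simp [Finset.sum_add_distrib, Pi.single_apply]

/-- An isometry preserving both coordinate halves is a Levi element. -/
theorem exists_eq_levi (g : oGroup (plusQ (F := F) m))
    (h1 : ∀ v : Fin m ⊕ Fin m → F, (∀ i, v (Sum.inr i) = 0) → ∀ i, g.1 v (Sum.inr i) = 0)
    (h2 : ∀ v : Fin m ⊕ Fin m → F, (∀ i, v (Sum.inl i) = 0) → ∀ i, g.1 v (Sum.inl i) = 0) :
    ∃ A : GL (Fin m) F, g = levi m A := by
  set M : Matrix (Fin m) (Fin m) F := Matrix.of fun i j => g.1 (Pi.single (Sum.inl j) 1) (Sum.inl i) with hM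
  set N : Matrix (Fin m) (Fin m) F := Matrix.of fun i j => g.1 (Pi.single (Sum.inr j) 1) (Sum.inr i) with hN
  have hl : ∀ (i : Fin m) k, g.1 (Pi.single (Sum.inl i) 1) k = Sum.elim (fun r => M r i) 0 k := fun i k => by
    rcases k with k | k
    · rfl
    · exact h1 _ (fun r => by simp) k
  have hr : ∀ (i : Fin m) k, g.1 (Pi.single (Sum.inr i) 1) k = Sum.elim (0 : Fin m → F) (fun r => N r i) k := fun i k => by
    rcases k with k | k
    · exact h2 _ (fun r => by simp) k
    · rfl
  have hMN : Mᵀ * N = 1 := by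
    ext i j
    have e := polar_oGroup g (Pi.single (Sum.inl i) 1) (Pi.single (Sum.inr j) 1)
    rw [polar_plusQ, polar_plusQ] at e
    simp only [hl, hr, Sum.elim_inl, Sum.elim_inr, Pi.zero_apply, mul_zero, add_zero] at e
    simpa [Matrix.mul_apply, Matrix.one_apply, Pi.single_apply, eq_comm] using e
  have hN' : N * Mᵀ = 1 := mul_eq_one_comm.1 hMN
  refine ⟨⟨M, Nᵀ, by rw [← transpose_one, ← hN', transpose_mul, transpose_transpose],
    by rw [← transpose_one, ← hMN, transpose_mul, transpose_transpose]⟩, ?_⟩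
  refine Subtype.ext (LinearEquiv.toLinearMap_injective ((Pi.basisFun F (Fin m ⊕ Fin m)).ext fun i => ?_))
  rw [Pi.basisFun_apply]
  show g.1 (Pi.single i 1) = _
  funext k
  erw [levi_apply]
  rcases i with i | i
  · rw [hl]
    rcases k with k | k <;> simp [Matrix.mulVec, dotProduct, Pi.single_apply]
  · rw [hr]
    rcases k with k | k <;> simp [Matrix.mulVec, dotProduct, Pi.single_apply]

end CfsgLib.Quad
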