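import Cfsg.Agent.Quad.Siegel
import Mathlib.LinearAlgebra.Projectivization.Action
import Mathlib.GroupTheory.GroupAction.Iwasawa

/-!
Primitivity on singular points, perfectness, centre and simplicity of the commutator subgroup of a
finite orthogonal group in dimension at least five.
-/

set_option autoImplicit false
set_option linter.style.haveILetI false

namespace CfsgLib.Quad

open QuadraticMap CfsgLib.Forms
open scoped LinearAlgebra.Projectivization commutatorElement

variable {F V : Type*} [Field F] [AddCommGroup V] [Module F V]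

/-- Singular points. -/
def SPt (Q : QuadraticForm F V) : Type _ := {P : ℙ F V // Q P.rep = 0}

variable {Q : QuadraticForm F V}

theorem mk_singular_iff {v : V} (hv : v ≠ 0) :
    Q (Projectivization.mk F v hv).rep = 0 ↔ Q v = 0 := by
  obtain ⟨c, hc⟩ := Projectivization.exists_smul_eq_mk_rep F v hv
  rw [← hc, Units.smul_def, quad_smul]
  simp

theorem iso_ne_zero (g : oGroup Q) {v : V} (hv : v ≠ 0) : g.1 v ≠ 0 :=
  fun e => hv (g.1.map_eq_zero_iff.mp e)

/-- The point of a singular vector. -/
def spt (v : V) (hv : v ≠ 0) (h0 : Q v = 0) : SPt Q :=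
  ⟨Projectivization.mk F v hv, (mk_singular_iff hv).mpr h0⟩

noncomputable instance : MulAction ↥(commutator (oGroup Q)) (SPt Q) where
  smul g P := ⟨Projectivization.mk F (g.1.1 P.1.rep) (iso_ne_zero g.1 P.1.rep_nonzero),
    (mk_singular_iff _).mpr (by rw [g.1.2, P.2])⟩
  one_smul P := Subtype.ext (by
    change Projectivization.mk F ((1 : oGroup Q).1 P.1.rep) _ = P.1
    exact Projectivization.mk_rep P.1)
  mul_smul g h P := Subtype.ext (by
    change Projectivization.mk F (g.1.1 (h.1.1 P.1.rep)) _ =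
      Projectivization.mk F (g.1.1 (Projectivization.mk F (h.1.1 P.1.rep) _).rep) _
    obtain ⟨c, hc⟩ := Projectivization.exists_smul_eq_mk_rep F _ (iso_ne_zero h.1 P.1.rep_nonzero)
    refine ((Projectivization.mk_eq_mk_iff' F _ _ _ _).mpr ⟨((c⁻¹ : Fˣ) : F), ?_⟩)
    conv_lhs => rw [← hc]
    rw [Units.smul_def, map_smul, smul_smul, Units.inv_mul, one_smul])

theorem exists_spt (P : SPt Q) : ∃ (v : V) (hv : v ≠ 0) (h0 : Q v = 0), P = spt v hv h0 :=
  ⟨P.1.rep, P.1.rep_nonzero, P.2, Subtype.ext (Projectivization.mk_rep P.1).symm⟩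

theorem spt_eq_iff {u v : V} {hu : u ≠ 0} {hv : v ≠ 0} {hu0 : Q u = 0} {hv0 : Q v = 0} :
    spt u hu hu0 = spt v hv hv0 ↔ ∃ a : F, a • v = u := by
  rw [← Projectivization.mk_eq_mk_iff' F u v hu hv]
  exact Subtype.ext_iff

theorem smul_spt (g : commutator (oGroup Q)) {v : V} (hv : v ≠ 0) (h0 : Q v = 0) :
    g • spt v hv h0 = spt (g.1.1 v) (iso_ne_zero g.1 hv) (by rw [g.1.2, h0]) := by
  refine Subtype.ext ?_
  change Projectivization.mk F (g.1.1 (Projectivization.mk F v hv).rep) _ =
    Projectivization.mk F (g.1.1 v) _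
  obtain ⟨c, hc⟩ := Projectivization.exists_smul_eq_mk_rep F v hv
  refine (Projectivization.mk_eq_mk_iff' F _ _ _ _).mpr ⟨(c : F), ?_⟩
  rw [← hc, Units.smul_def, map_smul]

variable [FiniteDimensional F V] [Finite F] (hQ : (polarBilin Q).Nondegenerate)
  (hn : 5 ≤ Module.finrank F V)

include hQ hn

theorem siegel_mem_commutator {e a : V} (he : Q e = 0) (hea : polar Q e a = 0) :
    siegel Q e a ∈ commutator (oGroup Q) := by
  rw [← siegelGroup_eq_commutator hQ hn]; exact siegel_mem_group he hea

omit [Finite F] hn in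
theorem exists_perp_pair (u v : V) (h : 5 ≤ Module.finrank F V) :
    ∃ w w', polar Q u w = 0 ∧ polar Q v w = 0 ∧ polar Q u w' = 0 ∧ polar Q v w' = 0 ∧
      polar Q w w' = 1 := by
  set U := Submodule.span F (Set.range ![u, v])
  have hU : Module.finrank F U ≤ 2 := (finrank_range_le_card _).trans (by simp)
  have h1 := finrank_perpS hQ U
  obtain ⟨w, hw, w', hw', hne⟩ : ∃ w ∈ perpS Q U, ∃ w' ∈ perpS Q U, polar Q w w' ≠ 0 := by
    by_contra hc
    push Not at hc
    have hle : perpS Q U ≤ perpS Q (perpS Q U) := fun a ha b hb => hc b hb a ha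
    rw [perpS_perpS hQ] at hle
    have h2 := Submodule.finrank_mono hle
    omega
  have hu : u ∈ U := Submodule.subset_span ⟨0, rfl⟩
  have hv : v ∈ U := Submodule.subset_span ⟨1, rfl⟩
  refine ⟨w, (polar Q w w')⁻¹ • w', hw u hu, hw v hv, ?_, ?_, ?_⟩ <;>
    rw [polar_smul_right, smul_eq_mul]
  · rw [hw' u hu, mul_zero]
  · rw [hw' v hv, mul_zero]
  · exact inv_mul_cancel₀ hne

theorem exists_move {u v w : V} (hu : Q u = 0) (hv : Q v = 0) (hw : Q w = 0)
    (huv : polar Q u v ≠ 0) (huw : polar Q u w ≠ 0) :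
    ∃ s : commutator (oGroup Q), s.1.1 u = u ∧ ∃ b : F, s.1.1 v = b • w := by
  set v1 := (polar Q u v)⁻¹ • v with hv1
  set w1 := (polar Q u w)⁻¹ • w with hw1
  have huv1 : polar Q u v1 = 1 := by rw [hv1, polar_smul_right, smul_eq_mul, inv_mul_cancel₀ huv]
  have huw1 : polar Q u w1 = 1 := by rw [hw1, polar_smul_right, smul_eq_mul, inv_mul_cancel₀ huw]
  have hQv1 : Q v1 = 0 := by rw [hv1, quad_smul, hv, mul_zero]
  have hQw1 : Q w1 = 0 := by rw [hw1, quad_smul, hw, mul_zero]
  set a := w1 - v1 with ha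
  have hua : polar Q u a = 0 := by rw [ha, polar_sub_right, huv1, huw1, sub_self]
  have hQsum : polar Q v1 a + Q a = 0 := by
    have h := quad_add Q v1 a
    rw [ha, add_sub_cancel, hQv1, hQw1] at h
    linear_combination -h
  refine ⟨⟨siegel Q u a, siegel_mem_commutator hQ hn hu hua⟩, ?_,
    polar Q u v * (polar Q u w)⁻¹, ?_⟩
  · rw [siegel_apply hu hua, polar_self, hu, hua]; simp
  · have h1 : (siegel Q u a).1 v1 = w1 := by
      rw [siegel_apply hu hua, polar_comm (⇑Q) v1 u, huv1, mul_one, hQsum, ha]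
      module
    have h2 : v = polar Q u v • v1 := by
      rw [hv1, smul_smul, mul_inv_cancel₀ huv, one_smul]
    change (siegel Q u a).1 v = _
    conv_lhs => rw [h2, map_smul, h1, hw1, smul_smul]

theorem exists_common_nonorth {u w : V} (hu0 : u ≠ 0) (hw0 : w ≠ 0) (hu : Q u = 0) (hw : Q w = 0) :
    ∃ x, Q x = 0 ∧ polar Q u x ≠ 0 ∧ polar Q w x ≠ 0 := by
  have huu : polar Q u u = 0 := by rw [polar_self, hu, smul_zero]
  have hww : polar Q w w = 0 := by rw [polar_self, hw, smul_zero]
  by_cases huw : polar Q u w = 0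
  · obtain ⟨y1, e1⟩ := exists_polar_ne hQ hu0
    obtain ⟨y2, e2⟩ := exists_polar_ne hQ hw0
    obtain ⟨y, huy, hwy⟩ : ∃ y, polar Q u y ≠ 0 ∧ polar Q w y ≠ 0 := by
      by_cases c1 : polar Q w y1 = 0
      swap
      · exact ⟨y1, e1, c1⟩
      by_cases c2 : polar Q u y2 = 0
      swap
      · exact ⟨y2, c2, e2⟩
      exact ⟨y1 + y2, by rw [polar_add_right, c2, add_zero]; exact e1,
        by rw [polar_add_right, c1, zero_add]; exact e2⟩
    refine ⟨y + (-(Q y / polar Q u y)) • u, ?_, ?_, ?_⟩
    · rw [quad_add, quad_smul, hu, polar_smul_right, smul_eq_mul, polar_comm (⇑Q) y u]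
      field_simp; ring
    · rw [polar_add_right, polar_smul_right, huu, smul_zero, add_zero]; exact huy
    · rw [polar_add_right, polar_smul_right, polar_comm (⇑Q) w u, huw, smul_zero, add_zero]
      exact hwy
  · set U := Submodule.span F (Set.range ![u, w])
    have hU : Module.finrank F U ≤ 2 := (finrank_range_le_card _).trans (by simp)
    have h1 := finrank_perpS hQ U
    obtain ⟨k, hk, hQk⟩ := exists_aniso_of_finrank hQ (K := perpS Q U) (by omega)
    have hku : polar Q u k = 0 := hk u (Submodule.subset_span ⟨0, rfl⟩)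
    have hkw : polar Q w k = 0 := hk w (Submodule.subset_span ⟨1, rfl⟩)
    refine ⟨(-(Q k / polar Q u w)) • u + w + k, ?_, ?_, ?_⟩
    · simp only [quad_add, quad_smul, hu, hw, polar_add_left, polar_smul_left, hku, hkw, smul_eq_mul]
      field_simp; ring
    · simp only [polar_add_right, polar_smul_right, huu, hku, smul_eq_mul, mul_zero, zero_add,
        add_zero]
      exact huw
    · simp only [polar_add_right, polar_smul_right, hww, hkw, smul_eq_mul, polar_comm (⇑Q) w u,
        add_zero]
      exact mul_ne_zero (neg_ne_zero.mpr (div_ne_zero hQk huw)) huw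

theorem isPretransitive_spt : MulAction.IsPretransitive ↥(commutator (oGroup Q)) (SPt Q) := by
  constructor
  intro P R
  obtain ⟨u, hu0, hu, rfl⟩ := exists_spt P
  obtain ⟨w, hw0, hw, rfl⟩ := exists_spt R
  obtain ⟨x, hx, hux, hwx⟩ := exists_common_nonorth hQ hn hu0 hw0 hu hw
  obtain ⟨s, -, b, hsb⟩ := exists_move hQ hn hx hu hw (by rwa [polar_comm]) (by rwa [polar_comm])
  exact ⟨s, by rw [smul_spt, spt_eq_iff]; exact ⟨b, hsb.symm⟩⟩

theorem isPreprimitive_spt : MulAction.IsPreprimitive ↥(commutator (oGroup Q)) (SPt Q) := by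
  haveI := isPretransitive_spt hQ hn
  constructor
  intro B hB
  by_contra hne
  rw [MulAction.IsTrivialBlock, not_or, Set.not_subsingleton_iff] at hne
  obtain ⟨⟨P, hP, R, hR, hPR⟩, huniv⟩ := hne
  have hfix : ∀ (g : commutator (oGroup Q)) (X : SPt Q), X ∈ B → g • X ∈ B →
      ∀ Y ∈ B, g • Y ∈ B := by
    intro g X hX hgX Y hY
    rw [← hB.smul_eq_of_mem hX hgX]
    exact Set.smul_mem_smul_set hY
  have hnon : ∀ u v (hu0 : u ≠ 0) (hv0 : v ≠ 0) (hu : Q u = 0) (hv : Q v = 0),
      polar Q u v ≠ 0 → spt u hu0 hu ∈ B → spt v hv0 hv ∈ B →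
      ∀ w (hw0 : w ≠ 0) (hw : Q w = 0), polar Q u w ≠ 0 → spt w hw0 hw ∈ B := by
    intro u v hu0 hv0 hu hv huv hUB hVB w hw0 hw huw
    obtain ⟨s, hsu, b, hsv⟩ := exists_move hQ hn hu hv hw huv huw
    have e1 : s • spt u hu0 hu = spt u hu0 hu := by
      rw [smul_spt, spt_eq_iff]; exact ⟨1, by rw [one_smul, hsu]⟩
    have e2 : s • spt v hv0 hv = spt w hw0 hw := by
      rw [smul_spt, spt_eq_iff]; exact ⟨b, hsv.symm⟩
    rw [← e2]
    exact hfix s _ hUB (by rw [e1]; exact hUB) _ hVB
  obtain ⟨u, v, hu0, hv0, hu, hv, huv, hUB, hVB⟩ : ∃ u v, ∃ (hu0 : u ≠ 0) (hv0 : v ≠ 0)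
      (hu : Q u = 0) (hv : Q v = 0),
      polar Q u v ≠ 0 ∧ spt u hu0 hu ∈ B ∧ spt v hv0 hv ∈ B := by
    obtain ⟨p, hp0, hp, rfl⟩ := exists_spt P
    obtain ⟨r, hr0, hr, rfl⟩ := exists_spt R
    by_cases hpr : polar Q p r = 0
    swap
    · exact ⟨p, r, hp0, hr0, hp, hr, hpr, hP, hR⟩
    obtain ⟨y, hyp, hry⟩ := (polarForm Q).exists_perp_one (polarForm_nondeg hQ)
      (U := Submodule.span F {p}) (x := r) (fun hm => by
        obtain ⟨c, hc⟩ := Submodule.mem_span_singleton.mp hm
        exact hPR (spt_eq_iff.mpr ⟨c, hc⟩).symm)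
    simp only [polarForm_h] at hyp hry
    have hpy := hyp p (Submodule.mem_span_singleton_self p)
    set e := y + (-Q y) • r with he
    have hQe : Q e = 0 := by
      rw [he, quad_add, quad_smul, hr, polar_smul_right, smul_eq_mul, polar_comm (⇑Q) y r, hry]
      ring
    have hre : polar Q r e = 1 := by
      rw [he, polar_add_right, polar_smul_right, hry, polar_self, hr, smul_zero, smul_zero,
        add_zero]
    have hpe : polar Q p e = 0 := by
      rw [he, polar_add_right, polar_smul_right, hpy, hpr, smul_zero, add_zero]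
    set U := Submodule.span F (Set.range ![e, p])
    have hU : Module.finrank F U ≤ 2 := (finrank_range_le_card _).trans (by simp)
    have h1 := finrank_perpS hQ U
    obtain ⟨a, ha, hQa⟩ := exists_aniso_of_finrank hQ (K := perpS Q U) (by omega)
    have hea : polar Q e a = 0 := ha e (Submodule.subset_span ⟨0, rfl⟩)
    have hpa : polar Q p a = 0 := ha p (Submodule.subset_span ⟨1, rfl⟩)
    set s : commutator (oGroup Q) := ⟨siegel Q e a, siegel_mem_commutator hQ hn hQe hea⟩
    have e1 : s • spt p hp0 hp = spt p hp0 hp := by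
      rw [smul_spt, spt_eq_iff]
      refine ⟨1, ?_⟩
      change _ = (siegel Q e a).1 p
      rw [siegel_apply hQe hea, hpe, hpa]
      simp
    have hrr' : polar Q r ((siegel Q e a).1 r) ≠ 0 := by
      rw [siegel_apply hQe hea, polar_sub_right, polar_add_right, polar_smul_right,
        polar_smul_right, polar_self, hr, hre, smul_zero, zero_add, smul_eq_mul, smul_eq_mul,
        mul_one, mul_one, one_mul, sub_add_cancel_left]
      exact neg_ne_zero.mpr hQa
    have hmem := hfix s _ hP (by rw [e1]; exact hP) _ hR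
    rw [smul_spt] at hmem
    exact ⟨r, _, hr0, iso_ne_zero _ hr0, hr, by rw [(siegel Q e a).2, hr], hrr', hR, hmem⟩
  apply huniv
  rw [Set.eq_univ_iff_forall]
  intro W
  obtain ⟨w, hw0, hw, rfl⟩ := exists_spt W
  obtain ⟨x, hx, hux, hwx⟩ := exists_common_nonorth hQ hn hu0 hw0 hu hw
  have hx0 : x ≠ 0 := fun e => hux (by rw [e, polar_zero_right])
  exact hnon x u hx0 hu0 hx hu (by rwa [polar_comm])
    (hnon u v hu0 hv0 hu hv huv hUB hVB x hx0 hx hux) hUB w hw0 hw (by rwa [polar_comm])

theorem span_singular_top : Submodule.span F {x : V | Q x = 0} = ⊤ := by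
  obtain ⟨z, -, hz0, hz⟩ := exists_singular_of_three (Q := Q) (⊤ : Submodule F V)
    (by rw [finrank_top]; omega)
  obtain ⟨y, hy⟩ := exists_polar_ne hQ hz0
  have h := span_singular_eq hQ (X := ⊤) (Submodule.mem_top (x := z)) (Submodule.mem_top (x := y)) hz hy
  simpa using h

/-- An isometry fixing every singular point is a scalar. -/
theorem eq_scalar_of_fix {g : oGroup Q}
    (h : ∀ v, Q v = 0 → ∃ a : F, g.1 v = a • v) : ∃ c : F, c * c = 1 ∧ ∀ v, g.1 v = c • v := by
  have heq : ∀ u w (cu cw : F), Q u = 0 → Q w = 0 → u ≠ 0 → w ≠ 0 → g.1 u = cu • u →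
      g.1 w = cw • w → polar Q u w = 0 → cu = cw := by
    intro u w cu cw hu hw hu0 hw0 hgu hgw huw
    by_cases hli : LinearIndependent F ![u, w]
    · obtain ⟨c, hc⟩ := h (u + w) (by rw [quad_add, hu, hw, huw, add_zero, add_zero])
      rw [map_add, hgu, hgw] at hc
      have := LinearIndependent.pair_iff.mp hli (cu - c) (cw - c) (by
        rw [sub_smul, sub_smul, sub_add_sub_comm, hc, smul_add, sub_self])
      exact (sub_eq_zero.mp this.1).trans (sub_eq_zero.mp this.2).symm
    · rw [LinearIndependent.pair_iff' hu0] at hli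
      push Not at hli
      obtain ⟨t, rfl⟩ := hli
      rw [map_smul, hgu, smul_comm] at hgw
      exact smul_left_injective F hw0 hgw
  obtain ⟨z, -, hz0, hz⟩ := exists_singular_of_three (Q := Q) (⊤ : Submodule F V)
    (by rw [finrank_top]; omega)
  obtain ⟨c, hgz⟩ := h z hz
  have key : ∀ v ∈ Submodule.span F {x : V | Q x = 0}, g.1 v = c • v := by
    intro v hv
    induction hv using Submodule.span_induction with
    | mem v hv =>
      rcases eq_or_ne v 0 with rfl | hv0
      · simp
      obtain ⟨d, hgv⟩ := h v hv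
      set U := Submodule.span F (Set.range ![z, v])
      have hU : Module.finrank F U ≤ 2 := (finrank_range_le_card _).trans (by simp)
      have h1 := finrank_perpS hQ U
      obtain ⟨k, hk, hk0, hQk⟩ := exists_singular_of_three (Q := Q) (perpS Q U) (by omega)
      obtain ⟨e, hgk⟩ := h k hQk
      rw [hgv, heq z k c e hz hQk hz0 hk0 hgz hgk (hk z (Submodule.subset_span ⟨0, rfl⟩)),
        heq v k d e hv hQk hv0 hk0 hgv hgk (hk v (Submodule.subset_span ⟨1, rfl⟩))]
    | zero => simp
    | add x y _ _ hx hy => rw [map_add, hx, hy, smul_add]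
    | smul t x _ hx => rw [map_smul, hx, smul_comm]
  rw [span_singular_top hQ hn] at key
  obtain ⟨w, hw⟩ := exists_aniso hQ (by omega)
  refine ⟨c, ?_, fun v => key v trivial⟩
  have := g.2 w
  rw [key w trivial, quad_smul] at this
  exact mul_right_cancel₀ hw (this.trans (one_mul _).symm)

theorem center_iff (g : commutator (oGroup Q)) :
    g ∈ Subgroup.center ↥(commutator (oGroup Q)) ↔ ∃ c : F, c * c = 1 ∧ ∀ v, g.1.1 v = c • v := by
  constructor
  · intro hg
    refine eq_scalar_of_fix hQ hn fun u hu => ?_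
    rcases eq_or_ne u 0 with rfl | hu0
    · exact ⟨0, by simp⟩
    have hfixu : ∀ a, polar Q u a = 0 → (siegel Q u a).1 (g.1.1 u) = g.1.1 u := fun a hua => by
      have h := congrArg (fun t : commutator (oGroup Q) => t.1.1 u)
        (Subgroup.mem_center_iff.mp hg ⟨_, siegel_mem_commutator hQ hn hu hua⟩)
      change (siegel Q u a).1 (g.1.1 u) = g.1.1 ((siegel Q u a).1 u) at h
      rw [h, siegel_apply hu hua, hua, polar_self, hu, smul_zero]
      simp
    set x := g.1.1 u
    have hL : Module.finrank F (Submodule.span F {u}) = 1 := finrank_span_singleton hu0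
    have hperp := finrank_perpS hQ (Submodule.span F {u})
    have hxu : polar Q x u = 0 := by
      by_contra hne
      have hle : perpS Q (Submodule.span F {u}) ≤ Submodule.span F {u} := fun a ha => by
        have hua : polar Q u a = 0 := ha u (Submodule.mem_span_singleton_self u)
        have h := hfixu a hua
        rw [siegel_apply hu hua] at h
        refine Submodule.mem_span_singleton.mpr
          ⟨(polar Q x u)⁻¹ * (polar Q x a + Q a * polar Q x u), ?_⟩
        have h' : polar Q x u • a = (polar Q x a + Q a * polar Q x u) • u := by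
          rw [add_sub_assoc, add_eq_left, sub_eq_zero] at h
          exact h
        rw [← smul_smul, ← h', smul_smul, inv_mul_cancel₀ hne, one_smul]
      have h2 := Submodule.finrank_mono hle
      omega
    have hxmem : x ∈ perpS Q (perpS Q (Submodule.span F {u})) := fun a ha => by
      have hua : polar Q u a = 0 := ha u (Submodule.mem_span_singleton_self u)
      have h := hfixu a hua
      rw [siegel_apply hu hua, hxu, zero_smul, add_zero, mul_zero, add_zero, sub_eq_self,
        smul_eq_zero] at h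
      rw [polar_comm]
      exact h.resolve_right hu0
    rw [perpS_perpS hQ] at hxmem
    obtain ⟨t, ht⟩ := Submodule.mem_span_singleton.mp hxmem
    exact ⟨t, ht.symm⟩
  · rintro ⟨c, -, hc⟩
    refine Subgroup.mem_center_iff.mpr fun t => Subtype.ext (Subtype.ext (LinearEquiv.ext fun v => ?_))
    change t.1.1 (g.1.1 v) = g.1.1 (t.1.1 v)
    rw [hc, hc, map_smul]

theorem commutator_commutator_eq_top : commutator ↥(commutator (oGroup Q)) = ⊤ := by
  refine eq_top_iff.mpr fun g _ => ?_
  set S := (commutator ↥(commutator (oGroup Q))).map (commutator (oGroup Q)).subtype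
  have hle : siegelGroup Q ≤ S := by
    rw [siegelGroup_eq_closure_singular hQ hn]
    refine (Subgroup.closure_le _).mpr ?_
    rintro _ ⟨u, v, hu, hv, huv, rfl⟩
    obtain ⟨w, w', huw, hvw, huw', hvw', hww'⟩ := exists_perp_pair hQ u v hn
    have hvu : polar Q v u = 0 := by rw [polar_comm, huv]
    set g : oGroup Q := siegel Q v w'
    have hg : g ∈ commutator (oGroup Q) := siegel_mem_commutator hQ hn hv hvw'
    have huw2 : polar Q u (-w) = 0 := by rw [polar_neg_right, huw, neg_zero]
    set h : oGroup Q := siegel Q u (-w)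
    have hh : h ∈ commutator (oGroup Q) := siegel_mem_commutator hQ hn hu huw2
    refine ⟨⁅(⟨g, hg⟩ : commutator (oGroup Q)), ⟨h, hh⟩⁆,
      Subgroup.commutator_mem_commutator (Subgroup.mem_top _) (Subgroup.mem_top _), ?_⟩
    rw [map_commutatorElement]
    change g * h * g⁻¹ * h⁻¹ = _
    have hgu : g.1 u = u := by rw [siegel_apply hv hvw', huv, huw']; simp
    have hgw : g.1 (-w) = -w + v := by
      rw [map_neg, siegel_apply hv hvw', polar_comm (⇑Q) w v, hvw, hww', mul_zero, add_zero]
      module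
    rw [siegel_conj g hu huw2, hgu, hgw, siegel_inv hu huw2,
      siegel_mul hu (by rw [polar_add_right, huw2, huv, add_zero])
        (by rw [polar_neg_right, huw2, neg_zero])]
    congr 1
    abel
  obtain ⟨x, hx, hxg⟩ := hle ((siegelGroup_eq_commutator hQ hn).symm ▸ g.2 : g.1 ∈ siegelGroup Q)
  rwa [← Subtype.ext hxg]

/-- Siegel transformations centred at a point. -/
def siegelAt (P : SPt Q) : Subgroup ↥(commutator (oGroup Q)) where
  carrier := {g | ∃ a, polar Q P.1.rep a = 0 ∧ g.1 = siegel Q P.1.rep a}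
  mul_mem' := by
    rintro g h ⟨a, ha, hga⟩ ⟨b, hb, hhb⟩
    exact ⟨a + b, by rw [polar_add_right, ha, hb, add_zero],
      by rw [Subgroup.coe_mul, hga, hhb, siegel_mul P.2 ha hb]⟩
  one_mem' := ⟨0, polar_zero_right Q _, by rw [siegel_zero P.2]; rfl⟩
  inv_mem' := by
    rintro g ⟨a, ha, hga⟩
    exact ⟨-a, by rw [polar_neg_right, ha, neg_zero],
      by rw [Subgroup.coe_inv, hga, siegel_inv P.2 ha]⟩

/-- The Iwasawa structure. -/
noncomputable def omegaIwasawa :
    MulAction.IwasawaStructure ↥(commutator (oGroup Q)) (SPt Q) where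
  T P := siegelAt P
  is_comm P := ⟨⟨fun ⟨g, a, ha, hga⟩ ⟨h, b, hb, hhb⟩ => Subtype.ext (Subtype.ext (by
    change g.1 * h.1 = h.1 * g.1
    rw [hga, hhb, siegel_mul P.2 ha hb, siegel_mul P.2 hb ha, add_comm]))⟩⟩
  is_conj g P := by
    obtain ⟨t, ht⟩ : ∃ t : Fˣ, t • g.1.1 P.1.rep = (g • P).1.rep :=
      Projectivization.exists_smul_eq_mk_rep F _ (iso_ne_zero g.1 P.1.rep_nonzero)
    ext A
    rw [Subgroup.mem_pointwise_smul_iff_inv_smul_mem]
    simp only [MulAut.smul_def, MulAut.inv_apply, MulAut.conj_symm_apply]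
    have hgu : Q (g.1.1 P.1.rep) = 0 := by rw [g.1.2, P.2]
    constructor
    · rintro ⟨a, ha, hA⟩
      rw [← ht, Units.smul_def, polar_smul_left, smul_eq_mul, mul_eq_zero] at ha
      have ha' : polar Q (g.1.1 P.1.rep) a = 0 := ha.resolve_left t.ne_zero
      rw [← ht, Units.smul_def, siegel_smul hgu ha'] at hA
      have hb : polar Q P.1.rep ((t : F) • g.1.1.symm a) = 0 := by
        rw [polar_smul_right, ← polar_oGroup g.1, LinearEquiv.apply_symm_apply, ha', smul_zero]
      refine ⟨(t : F) • g.1.1.symm a, hb, ?_⟩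
      rw [Subgroup.coe_mul, Subgroup.coe_mul, Subgroup.coe_inv, hA]
      have := siegel_conj g.1 P.2 hb
      rw [map_smul, LinearEquiv.apply_symm_apply] at this
      rw [← this]
      group
    · rintro ⟨b, hb, hA⟩
      have hAe : A.1 = g.1 * (g⁻¹ * A * g).1 * g.1⁻¹ := by
        rw [Subgroup.coe_mul, Subgroup.coe_mul, Subgroup.coe_inv]; group
      refine ⟨((t⁻¹ : Fˣ) : F) • g.1.1 b, ?_, ?_⟩
      · rw [← ht, Units.smul_def, polar_smul_left, polar_smul_right, polar_oGroup, hb, smul_zero,
          smul_zero]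
      · rw [hAe, hA, siegel_conj g.1 P.2 hb, ← ht, Units.smul_def,
          siegel_smul hgu (by rw [polar_smul_right, polar_oGroup, hb, smul_zero]), smul_smul,
          Units.mul_inv, one_smul]
  is_generator := by
    refine eq_top_iff.mpr fun g _ => ?_
    set S := (⨆ P : SPt Q, siegelAt P).map (commutator (oGroup Q)).subtype
    have hle : siegelGroup Q ≤ S := by
      refine (Subgroup.closure_le _).mpr ?_
      rintro _ ⟨e, a, he, hea, rfl⟩
      rcases eq_or_ne e 0 with rfl | he0
      · refine ⟨1, one_mem _, ?_⟩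
        rw [map_one]
        exact (Subtype.ext (LinearEquiv.ext fun x => by rw [siegel_apply he hea]; simp)).symm
      obtain ⟨t, ht⟩ := Projectivization.exists_smul_eq_mk_rep F e he0
      refine ⟨⟨_, siegel_mem_commutator hQ hn he hea⟩,
        Subgroup.mem_iSup_of_mem (spt e he0 he) ⟨((t⁻¹ : Fˣ) : F) • a, ?_, ?_⟩, rfl⟩
      · change polar Q (Projectivization.mk F e he0).rep _ = 0
        rw [← ht, Units.smul_def, polar_smul_left, polar_smul_right, hea, smul_zero, smul_zero]
      · change siegel Q e a = siegel Q (Projectivization.mk F e he0).rep _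
        rw [← ht, Units.smul_def, siegel_smul he (by rw [polar_smul_right, hea, smul_zero]),
          smul_smul, Units.mul_inv, one_smul]
    obtain ⟨x, hx, hxg⟩ := hle ((siegelGroup_eq_commutator hQ hn).symm ▸ g.2 : g.1 ∈ siegelGroup Q)
    rwa [← Subtype.ext hxg]

theorem commutator_nontrivial : Nontrivial ↥(commutator (oGroup Q)) := by
  obtain ⟨u, -, hu0, hu⟩ := exists_singular_of_three (Q := Q) (⊤ : Submodule F V)
    (by rw [finrank_top]; omega)
  have h1 := finrank_perpS hQ (Submodule.span F {u})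
  rw [finrank_span_singleton hu0] at h1
  obtain ⟨a, ha, hQa⟩ := exists_aniso_of_finrank hQ (K := perpS Q (Submodule.span F {u})) (by omega)
  have hua : polar Q u a = 0 := ha u (Submodule.mem_span_singleton_self u)
  obtain ⟨x, hx⟩ := exists_polar_ne hQ hu0
  refine ⟨⟨⟨_, siegel_mem_commutator hQ hn hu hua⟩, 1, fun e => hQa ?_⟩⟩
  have h : (siegel Q u a).1 x = x := congrArg (fun t : commutator (oGroup Q) => t.1.1 x) e
  rw [siegel_apply hu hua, add_sub_assoc, add_eq_left, sub_eq_zero] at h
  have := congrArg Q h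
  rw [quad_smul, quad_smul, hu, mul_zero, mul_eq_zero, mul_self_eq_zero] at this
  exact this.resolve_left (by rwa [polar_comm])

/-- Simplicity. -/
theorem isSimpleGroup_omega :
    IsSimpleGroup (↥(commutator (oGroup Q)) ⧸ Subgroup.center ↥(commutator (oGroup Q))) := by
  haveI := isPreprimitive_spt hQ hn
  have hperf := commutator_commutator_eq_top hQ hn
  haveI := commutator_nontrivial hQ hn
  have hN : ∀ N : Subgroup ↥(commutator (oGroup Q)), N.Normal →
      N ≤ Subgroup.center _ ∨ N = ⊤ := by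
    intro N hN
    rw [or_iff_not_imp_left]
    intro hle
    refine eq_top_iff.mpr (hperf.symm.le.trans
      ((omegaIwasawa hQ hn).commutator_le N fun hfp => hle fun m hm =>
        (center_iff hQ hn m).mpr (eq_scalar_of_fix hQ hn fun v hv => ?_)))
    rcases eq_or_ne v 0 with rfl | hv0
    · exact ⟨0, by simp⟩
    have h := Set.eq_univ_iff_forall.mp hfp (spt v hv0 hv) ⟨m, hm⟩
    obtain ⟨a, ha⟩ := spt_eq_iff.mp ((smul_spt m hv0 hv).symm.trans h)
    exact ⟨a, ha.symm⟩
  haveI : Nontrivial (↥(commutator (oGroup Q)) ⧸ Subgroup.center ↥(commutator (oGroup Q))) := by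
    by_contra hnt
    rw [not_nontrivial_iff_subsingleton] at hnt
    have htop : Subgroup.center ↥(commutator (oGroup Q)) = ⊤ :=
      QuotientGroup.subsingleton_iff.mp hnt
    have hbot : commutator ↥(commutator (oGroup Q)) = ⊥ := by
      change ⁅(⊤ : Subgroup ↥(commutator (oGroup Q))), (⊤ : Subgroup ↥(commutator (oGroup Q)))⁆ = ⊥
      rw [Subgroup.commutator_eq_bot_iff_le_centralizer,
        Subgroup.coe_top, Subgroup.centralizer_univ, htop]
    rw [hperf] at hbot
    exact not_subsingleton ↥(commutator (oGroup Q))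
      (Subgroup.subsingleton_iff.mp (subsingleton_of_top_le_bot (by rw [hbot])))
  refine ⟨fun K hK => ?_⟩
  rcases hN (K.comap (QuotientGroup.mk' _)) inferInstance with h1 | h1
  · left
    rw [eq_bot_iff]
    intro x hx
    obtain ⟨g, rfl⟩ := QuotientGroup.mk_surjective x
    rw [Subgroup.mem_bot, QuotientGroup.eq_one_iff]
    exact h1 hx
  · right
    rw [← Subgroup.map_comap_eq_self_of_surjective (QuotientGroup.mk'_surjective _) K, h1,
      Subgroup.map_top_of_surjective _ (QuotientGroup.mk'_surjective _)]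

end CfsgLib.Quad
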