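import Cfsg.Agent.Quad.Reflect

/-!
Dimensions of orthogonal spaces, anisotropic vectors, transitivity, hyperplane-fixing isometries.
-/

set_option autoImplicit false
set_option linter.style.haveILetI false

namespace CfsgLib.Quad

open QuadraticMap CfsgLib.Forms

variable {F V : Type*} [Field F] [AddCommGroup V] [Module F V] [FiniteDimensional F V]
  {Q : QuadraticForm F V}

variable (hQ : (polarBilin Q).Nondegenerate)

include hQ

theorem exists_polar_eq_on (U : Submodule F V) (t : Module.Dual F U) :
    ∃ v, ∀ a : U, polar Q (a : V) v = t a := by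
  obtain ⟨t', ht'⟩ := LinearMap.exists_extend t
  obtain ⟨v, hv⟩ := (polarForm Q).exists_h_eq (polarForm_nondeg hQ) t'
  refine ⟨v, fun a => ?_⟩
  rw [← polarForm_h, hv, ← ht']
  rfl

theorem finrank_perpS (U : Submodule F V) :
    Module.finrank F U + Module.finrank F (perpS Q U) = Module.finrank F V := by
  let φ : V →ₗ[F] Module.Dual F U :=
    { toFun := fun v => (polarFun Q v).domRestrict U
      map_add' := fun u v => LinearMap.ext fun a => polar_add_right Q a.1 u v
      map_smul' := fun c u => LinearMap.ext fun a => by simp [polarFun_apply, polar_smul_right] }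
  have hsurj : Function.Surjective φ := fun t => by
    obtain ⟨v, hv⟩ := exists_polar_eq_on hQ U t
    exact ⟨v, LinearMap.ext fun a => hv a⟩
  have hker : LinearMap.ker φ = perpS Q U := by
    ext x
    rw [LinearMap.mem_ker, mem_perpS]
    exact ⟨fun h a ha => LinearMap.congr_fun h ⟨a, ha⟩, fun h => LinearMap.ext fun a => h a a.2⟩
  have h := φ.finrank_range_add_finrank_ker
  rw [LinearMap.range_eq_top.mpr hsurj, finrank_top, Subspace.dual_finrank_eq, hker] at h
  exact h

theorem perpS_perpS (U : Submodule F V) : perpS Q (perpS Q U) = U := by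
  refine (Submodule.eq_of_le_of_finrank_eq (fun x hx y hy => ?_) ?_).symm
  · rw [polar_comm]; exact hy x hx
  · have h1 := finrank_perpS hQ U
    have h2 := finrank_perpS hQ (perpS Q U)
    omega

/-- The orthogonal space of a small subspace with an anisotropic vector is not totally singular. -/
theorem exists_aniso_perp {U : Submodule F V}
    (h : 2 * Module.finrank F U ≤ Module.finrank F V) {u : V} (hu : u ∈ U) (hQu : Q u ≠ 0) :
    ∃ x ∈ perpS Q U, Q x ≠ 0 := by
  by_contra hc
  push Not at hc
  have hle : perpS Q U ≤ U := by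
    conv_rhs => rw [← perpS_perpS hQ U]
    intro a ha b hb
    simp only [polar, hc _ (Submodule.add_mem _ hb ha), hc a ha, hc b hb, sub_zero]
  have h1 := finrank_perpS hQ U
  have h2 := Submodule.finrank_mono hle
  have heq : perpS Q U = U := Submodule.eq_of_le_of_finrank_eq hle (by omega)
  exact hQu (hc u (heq.symm ▸ hu))

theorem exists_aniso (h : 1 ≤ Module.finrank F V) : ∃ v, Q v ≠ 0 := by
  haveI : Nontrivial V := Module.nontrivial_of_finrank_pos (R := F) (by omega)
  obtain ⟨x, hx⟩ := exists_ne (0 : V)
  obtain ⟨y, hy⟩ := exists_polar_ne hQ hx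
  by_contra hc
  push Not at hc
  exact hy (by simp only [polar, hc, sub_zero])

/-- Two orthogonal anisotropic vectors. -/
theorem exists_orth_pair (h : 2 ≤ Module.finrank F V) :
    ∃ v w, Q v ≠ 0 ∧ Q w ≠ 0 ∧ polar Q v w = 0 := by
  obtain ⟨v, hv⟩ := exists_aniso hQ (by omega)
  have hv0 : v ≠ 0 := fun e => hv (by rw [e, QuadraticMap.map_zero])
  obtain ⟨w, hw, hQw⟩ := exists_aniso_perp hQ (U := Submodule.span F {v})
    (by rw [finrank_span_singleton hv0]; omega) (Submodule.mem_span_singleton_self v) hv
  exact ⟨v, w, hv, hQw, hw v (Submodule.mem_span_singleton_self v)⟩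

/-- Vectors of equal non-zero value are conjugate. -/
theorem exists_apply_eq {u v : V} (h : Q u = Q v) (hu : Q u ≠ 0) : ∃ g : oGroup Q, g.1 u = v := by
  have hu0 : u ≠ 0 := fun e => hu (by rw [e, QuadraticMap.map_zero])
  have hv0 : v ≠ 0 := fun e => hu (by rw [h, e, QuadraticMap.map_zero])
  obtain ⟨g, hg, hgv⟩ := quad_exists_map_family hQ ![u] ![v]
    (LinearIndependent.of_subsingleton 0 hu0) (LinearIndependent.of_subsingleton 0 hv0)
    (fun i => by fin_cases i; exact h)
    (fun i j => by fin_cases i; fin_cases j; simp [polar_self, h])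
  exact ⟨⟨g, hg⟩, hgv 0⟩

/-- An isometry fixing exactly a hyperplane is a reflection. -/
theorem exists_refl_of_fixSp {g : oGroup Q}
    (h : Module.finrank F (fixSp g) + 1 = Module.finrank F V) :
    ∃ d, Q d ≠ 0 ∧ g = refl Q d := by
  obtain ⟨x, hx⟩ : ∃ x, x ∉ fixSp g := by
    by_contra hc
    push Not at hc
    rw [Submodule.eq_top_iff'.mpr hc, finrank_top] at h
    omega
  set d := g.1 x - x with hd
  have hd0 : d ≠ 0 := fun e => hx (mem_fixSp.mpr (sub_eq_zero.mp e))
  have hperp : ∀ y ∈ fixSp g, polar Q y d = 0 := fun y hy => by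
    rw [hd, polar_sub_right, sub_eq_zero]
    conv_lhs => rw [← mem_fixSp.mp hy, polar_oGroup]
  have hfix : fixSp g = LinearMap.ker (polarFun Q d) := by
    refine Submodule.eq_of_le_of_finrank_eq (fun y hy => hperp y hy) ?_
    have hsurj : Function.Surjective (polarFun Q d) := fun t => by
      obtain ⟨y, hy⟩ := exists_polar_ne hQ hd0
      exact ⟨(t / polar Q d y) • y, by
        rw [polarFun_apply, polar_smul_left, polar_comm (⇑Q) y d, smul_eq_mul, div_mul_cancel₀ _ hy]⟩
    have h2 := (polarFun Q d).finrank_range_add_finrank_ker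
    rw [LinearMap.range_eq_top.mpr hsurj, finrank_top, Module.finrank_self] at h2
    omega
  have hQd : Q d ≠ 0 := by
    intro e
    have h2 := quad_add Q x d
    rw [show x + d = g.1 x by rw [hd]; abel, g.2, e] at h2
    exact hx (by rw [hfix, LinearMap.mem_ker, polarFun_apply]; linear_combination -h2)
  refine ⟨d, hQd, ?_⟩
  have htop : fixSp (refl Q d * g) = ⊤ := by
    have hle : fixSp g ≤ fixSp (refl Q d * g) := fun y hy => mem_fixSp.mpr (by
      change (refl Q d).1 (g.1 y) = y
      rw [mem_fixSp.mp hy, refl_fix (hperp y hy)])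
    have hxx : x ∈ fixSp (refl Q d * g) := mem_fixSp.mpr (by
      change (refl Q d).1 (g.1 x) = x
      have h3 := refl_map (Q := Q) (g.2 x) (x := g.1 x) (y := x) (by
        rw [← neg_sub, QuadraticMap.map_neg]; exact hQd)
      rwa [show x - g.1 x = (-1 : F) • d by rw [hd]; module,
        refl_smul (neg_ne_zero.mpr one_ne_zero)] at h3)
    have hlt : fixSp g < fixSp (refl Q d * g) :=
      lt_of_le_of_ne hle fun e => hx (e ▸ hxx)
    have h1 := Submodule.finrank_lt_finrank_of_lt hlt
    exact Submodule.eq_top_of_finrank_eq (by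
      have := Submodule.finrank_le (fixSp (refl Q d * g)); omega)
  have h1 : refl Q d * g = 1 := Subtype.ext (LinearEquiv.ext fun y =>
    mem_fixSp.mp (htop ▸ Submodule.mem_top : y ∈ fixSp (refl Q d * g)))
  rw [eq_inv_of_mul_eq_one_right h1, refl_inv]


end CfsgLib.Quad
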