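import Cfsg.Agent.Quad.NegOne

/-!
When `-1` has trivial invariants for the minus-type form.
-/

set_option autoImplicit false
set_option linter.style.haveILetI false

namespace CfsgLib.Quad

theorem negIso_minus_iff {F : Type*} [Field F] [Finite F] {q : ℕ} (hq : Nat.card F = q) (hodd : Odd q)
    (h2 : (2 : F) ≠ 0) {a b : F}
    (hab : ∀ z₁ z₂ : F, z₁ ^ 2 + a * z₁ * z₂ + b * z₂ ^ 2 = 0 → z₁ = 0 ∧ z₂ = 0) (k : ℕ) :
    CfsgLib.Quad.negIso (CfsgLib.Quad.minusQ k a b) ∈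
      commutator (CfsgLib.Quad.oGroup (CfsgLib.Quad.minusQ k a b)) ↔ q ^ (k + 1) % 4 = 3 := by
  obtain ⟨h1, h3, horth, hprod⟩ := CfsgLib.Quad.plusFam_spec (F := F) k
  let fam : (Fin k ⊕ Fin k) ⊕ Fin 2 → ((Fin k ⊕ Fin k) ⊕ Fin 2 → F) :=
    Sum.elim (fun i => Sum.elim (CfsgLib.Quad.plusFam F k i) 0)
      (fun i => Sum.elim 0 (![![1, 0], ![-a, 2]] i))
  have hval : ∀ i, CfsgLib.Quad.minusQ k a b (fam (Sum.inl i)) =
      CfsgLib.Quad.plusQ k (CfsgLib.Quad.plusFam F k i) := fun i => by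
    simp [fam, CfsgLib.Quad.minusQ_coe, CfsgLib.Quad.plusQ_coe, Cfsg.quadFormMinus, Cfsg.quadFormPlus]
  have hv0 : CfsgLib.Quad.minusQ k a b (fam (Sum.inr 0)) = 1 := by
    simp [fam, CfsgLib.Quad.minusQ_coe, Cfsg.quadFormMinus]
  have hv1 : CfsgLib.Quad.minusQ k a b (fam (Sum.inr 1)) = 4 * b - a ^ 2 := by
    simp [fam, CfsgLib.Quad.minusQ_coe, Cfsg.quadFormMinus]; ring
  have hD := CfsgLib.Quad.disc_ne_zero hab
  have hnsq : ¬IsSquare (-(4 * b - a ^ 2)) := by
    rintro ⟨r, hr⟩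
    have := (hab ((-a + r) / 2) 1 (by field_simp; linear_combination -hr)).2
    exact one_ne_zero this
  rw [CfsgLib.Quad.negIso_mem_commutator_iff (CfsgLib.Quad.minusQ_nondeg hab k) h2 fam
    (by simp) (by simp) (by simp; exact ⟨k + 1, by omega⟩)
    (fun i => by
      rcases i with i | i
      · rw [hval]; rcases i with i | i <;> simp [h1, h3]
      · fin_cases i <;> simp [hv0, hv1, hD])
    (fun i j hij => by
      rw [CfsgLib.Quad.polar_minusQ]
      rcases i with i | i <;> rcases j with j | j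
      · simp only [fam, Sum.elim_inl, Sum.elim_comp_inl]
        rw [horth i j (fun e => hij (by rw [e]))]; simp
      · simp [fam]
      · simp [fam]
      · fin_cases i <;> fin_cases j <;> first | exact absurd rfl hij | (simp [fam]; ring))]
  rw [Fintype.prod_sum_type, Fin.prod_univ_two, hv0, hv1, one_mul]
  simp only [hval, hprod]
  have e : ((-1 : F) ^ k * (4 * b - a ^ 2)) = (-1) ^ (k + 1) * -(4 * b - a ^ 2) := by ring
  rw [e, CfsgLib.Quad.isSquare_mul_iff h2 (pow_ne_zero _ (by simp)) (neg_ne_zero.mpr hD),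
    iff_false_right hnsq, CfsgLib.Quad.isSquare_neg_one_pow_iff hq hodd]
  have : q ^ (k + 1) % 2 = 1 := Nat.odd_iff.mp hodd.pow
  omega

end CfsgLib.Quad
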