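import Cfsg.Agent.Quad.Hyp
import Cfsg.Agent.Classical.LinearOrder
import Mathlib.LinearAlgebra.Matrix.SpecialLinearGroup

/-!
Representations on stable subspaces and the congruence action on matrices.
-/

set_option autoImplicit false
set_option linter.style.haveILetI false

namespace CfsgLib.Quad

open QuadraticMap Matrix

variable {F V X : Type*} [Field F] [AddCommGroup V] [Module F V] [AddCommGroup X] [Module F X]
  {Q : QuadraticForm F V} {G : Type*} [Group G] (act : G →* Module.End F X) (M : V →ₗ[F] X)

/-- An isometric representation on a stable subspace given as an injective image. -/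
noncomputable def repO (hM : Function.Injective M) (hstab : ∀ g v, ∃ w, M w = act g (M v))
    (hQ : ∀ g v w, M w = act g (M v) → Q w = Q v) : G →* oGroup Q where
  toFun g :=
    ⟨{ toFun := fun v => (hstab g v).choose
       map_add' := fun u v => hM (by
         rw [(hstab g (u + v)).choose_spec, map_add, map_add, map_add, (hstab g u).choose_spec,
           (hstab g v).choose_spec])
       map_smul' := fun c v => hM (by
         rw [(hstab g (c • v)).choose_spec, RingHom.id_apply, map_smul, map_smul, map_smul,
           (hstab g v).choose_spec])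
       invFun := fun v => (hstab g⁻¹ v).choose
       left_inv := fun v => hM (by
         simp only
         rw [(hstab g⁻¹ _).choose_spec, (hstab g v).choose_spec, ← Module.End.mul_apply, ← map_mul,
           inv_mul_cancel, map_one]; rfl)
       right_inv := fun v => hM (by
         simp only
         rw [(hstab g _).choose_spec, (hstab g⁻¹ v).choose_spec, ← Module.End.mul_apply, ← map_mul,
           mul_inv_cancel, map_one]; rfl) },
      fun v => hQ g v _ (hstab g v).choose_spec⟩
  map_one' := Subtype.ext (LinearEquiv.ext fun v => hM (by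
    change M (hstab 1 v).choose = M v
    rw [(hstab 1 v).choose_spec, map_one]; rfl))
  map_mul' g h := Subtype.ext (LinearEquiv.ext fun v => hM (by
    change M (hstab (g * h) v).choose = M (hstab g (hstab h v).choose).choose
    rw [(hstab (g * h) v).choose_spec, (hstab g _).choose_spec, (hstab h v).choose_spec, map_mul]
    rfl))

theorem repO_eq_one_iff (hM : Function.Injective M) (hstab : ∀ g v, ∃ w, M w = act g (M v))
    (hQ : ∀ g v w, M w = act g (M v) → Q w = Q v) (g : G) :
    repO act M hM hstab hQ g = 1 ↔ ∀ v, act g (M v) = M v := by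
  constructor
  · intro h v
    have h1 : M ((repO act M hM hstab hQ g).1 v) = M v := by rw [h]; rfl
    exact ((hstab g v).choose_spec.symm.trans h1)
  · intro h
    refine Subtype.ext (LinearEquiv.ext fun v => hM ?_)
    exact ((hstab g v).choose_spec.trans (h v))

variable {K ι : Type*} [Field K] [Algebra F K] [Fintype ι] [DecidableEq ι]

/-- The action `X ↦ A X Bᵀ`. -/
def congrEnd (A B : Matrix ι ι K) : Module.End F (Matrix ι ι K) where
  toFun X := A * X * Bᵀ
  map_add' X Y := by rw [Matrix.mul_add, Matrix.add_mul]
  map_smul' c X := by rw [Matrix.mul_smul, Matrix.smul_mul, RingHom.id_apply]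

/-- The congruence action of two monoid homomorphisms into matrices. -/
def congrAct (f f' : G →* Matrix ι ι K) : G →* Module.End F (Matrix ι ι K) where
  toFun g := congrEnd (f g) (f' g)
  map_one' := LinearMap.ext fun X => by simp [congrEnd]
  map_mul' g h := LinearMap.ext fun X => by
    simp [congrEnd, Matrix.transpose_mul, Matrix.mul_assoc]

theorem congrAct_apply (f f' : G →* Matrix ι ι K) (g : G) (X : Matrix ι ι K) :
    congrAct (F := F) f f' g X = f g * X * (f' g)ᵀ := rfl

/-- The special linear group as matrices. -/
def slVal (ι : Type*) [Fintype ι] [DecidableEq ι] (K : Type*) [Field K] :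
    Matrix.SpecialLinearGroup ι K →* Matrix ι ι K where
  toFun g := g.1
  map_one' := rfl
  map_mul' _ _ := rfl

omit [Algebra F K] in
theorem slVal_apply (g : Matrix.SpecialLinearGroup ι K) : slVal ι K g = g.1 := rfl

theorem card_SL_two (K : Type*) [Field K] [Fintype K] :
    Nat.card (Matrix.SpecialLinearGroup (Fin 2) K) =
      Fintype.card K * (Fintype.card K ^ 2 - 1) := by
  have h := CfsgLib.Linear.card_SL_mul (F := K) rfl 2 (by norm_num)
  set q := Fintype.card K
  have hq : 2 ≤ q := Fintype.one_lt_card
  rw [Fin.prod_univ_two, Fin.val_zero, Fin.val_one, pow_zero, pow_one,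
    show q ^ 2 - q = (q - 1) * q by rw [Nat.sub_mul, one_mul, pow_two]] at h
  refine Nat.eq_of_mul_eq_mul_left (show 0 < q - 1 by omega) ?_
  rw [h]; ring

/-- A matrix of determinant one acting by `±1` is central. -/
theorem mem_center_of_eq_pm {g : Matrix.SpecialLinearGroup ι K}
    (h : (g.1 : Matrix ι ι K) = 1 ∨ (g.1 : Matrix ι ι K) = -1) :
    g ∈ Subgroup.center _ ∧ g * g = 1 := by
  refine ⟨Subgroup.mem_center_iff.mpr fun x => Subtype.ext ?_, Subtype.ext ?_⟩
  · rw [Matrix.SpecialLinearGroup.coe_mul, Matrix.SpecialLinearGroup.coe_mul]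
    rcases h with h | h <;> rw [h] <;> simp
  · rw [Matrix.SpecialLinearGroup.coe_mul, Matrix.SpecialLinearGroup.coe_one]
    rcases h with h | h <;> rw [h] <;> simp

end CfsgLib.Quad
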