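import Cfsg.Agent.Quad.IsoCriterion
import Cfsg.Agent.Quad.Congruence
import Cfsg.Agent.Unitary.Two

/-!
The isomorphisms of orthogonal groups in dimensions three and four with linear groups.
-/

set_option autoImplicit false
set_option linter.style.haveILetI false

namespace CfsgLib.Quad

open QuadraticMap Matrix CfsgLib.Forms

variable {F : Type*} [Field F] [Finite F]

theorem eq_pm_of_center {K : Type*} [Field K] {g : Matrix.SpecialLinearGroup (Fin 2) K}
    (hg : g ∈ Subgroup.center (Matrix.SpecialLinearGroup (Fin 2) K)) :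
    (g.1 : Matrix (Fin 2) (Fin 2) K) = 1 ∨ (g.1 : Matrix (Fin 2) (Fin 2) K) = -1 := by
  obtain ⟨r, hr, hrg⟩ := Matrix.SpecialLinearGroup.mem_center_iff.mp hg
  rw [Fintype.card_fin, sq_eq_one_iff] at hr
  rcases hr with rfl | rfl
  · exact Or.inl (by rw [← hrg]; simp)
  · exact Or.inr (by rw [← hrg]; ext i j; fin_cases i <;> fin_cases j <;> simp)

theorem finite_oGroup {V : Type*} [AddCommGroup V] [Module F V] [FiniteDimensional F V]
    (Q : QuadraticForm F V) : Finite (oGroup Q) := by
  haveI : Finite V := Module.finite_of_finite F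
  exact Finite.of_injective (fun g : oGroup Q => (g.1 : V → V))
    fun g h e => Subtype.ext (LinearEquiv.ext fun v => congrFun e v)

/-- Trace-zero symmetric model of `oddQ 1`. -/
def symModel : (Unit ⊕ (Fin 1 ⊕ Fin 1) → F) →ₗ[F] Matrix (Fin 2) (Fin 2) F where
  toFun v := !![v (Sum.inr (Sum.inl 0)), v (Sum.inl ()); v (Sum.inl ()), -v (Sum.inr (Sum.inr 0))]
  map_add' u v := by ext i j; fin_cases i <;> fin_cases j <;> simp [add_comm]
  map_smul' c v := by ext i j; fin_cases i <;> fin_cases j <;> simp

/-- `POmega_3(q) ≅ PSL_2(q)`. -/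
theorem nonempty_pOmega_three (h2 : (2 : F) ≠ 0) :
    Nonempty (Cfsg.POmega F ⇑(oddQ (F := F) 1) ≃*
      Matrix.ProjectiveSpecialLinearGroup (Fin 2) F) := by
  haveI := Fintype.ofFinite F
  have hdet : ∀ v, (symModel (F := F) v).det = -oddQ 1 v := fun v => by
    simp [symModel, Matrix.det_fin_two, oddQ_coe, Cfsg.quadFormOdd]
    ring
  have hinj : Function.Injective (symModel (F := F)) := fun u v e => by
    funext i
    rcases i with u' | i | i
    · exact congrFun (congrFun e 0) 1
    · rw [Subsingleton.elim i 0]; exact congrFun (congrFun e 0) 0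
    · rw [Subsingleton.elim i 0]; exact neg_injective (congrFun (congrFun e 1) 1)
  let act := congrAct (F := F) (slVal (Fin 2) F) (slVal (Fin 2) F)
  have hstab : ∀ g v, ∃ w, symModel (F := F) w = act g (symModel v) := by
    intro g v
    set H := act g (symModel v) with hH
    have hsym : Hᵀ = H := by
      rw [hH]
      change (g.1 * symModel v * g.1ᵀ)ᵀ = g.1 * symModel v * g.1ᵀ
      rw [Matrix.transpose_mul, Matrix.transpose_mul, Matrix.transpose_transpose, Matrix.mul_assoc]
      congr 2
      ext i j; fin_cases i <;> fin_cases j <;> rfl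
    refine ⟨Sum.elim (fun _ => H 0 1) (Sum.elim (fun _ => H 0 0) (fun _ => -H 1 1)), ?_⟩
    have h10 : H 0 1 = H 1 0 := congrFun (congrFun hsym.symm 0) 1
    ext i j; fin_cases i <;> fin_cases j <;> simp [symModel, h10]
  have hQ : ∀ g v w, symModel (F := F) w = act g (symModel v) → oddQ 1 w = oddQ 1 v := by
    intro g v w e
    have h := congrArg Matrix.det e
    change _ = (g.1 * symModel v * g.1ᵀ).det at h
    rw [Matrix.det_mul, Matrix.det_mul, Matrix.det_transpose, g.2, one_mul, mul_one, hdet, hdet] at h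
    exact neg_injective h
  let f := repO act symModel hinj hstab hQ
  have hker : f.ker = Subgroup.center _ := by
    ext g
    rw [MonoidHom.mem_ker, repO_eq_one_iff]
    constructor
    · intro h
      refine (mem_center_of_eq_pm ?_).1
      have hd := g.2
      rw [Matrix.det_fin_two] at hd
      have e1 : g.1 * symModel (Sum.elim 0 (Sum.elim 1 0)) * g.1ᵀ = symModel (Sum.elim 0 (Sum.elim 1 0)) :=
        h _
      have e3 : g.1 * symModel (Sum.elim 0 (Sum.elim 0 1)) * g.1ᵀ = symModel (Sum.elim 0 (Sum.elim 0 1)) :=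
        h _
      have a00 : g.1 0 0 * g.1 0 0 = 1 := by
        have := congrFun (congrFun e1 0) 0
        simpa [symModel, Matrix.mul_apply, Fin.sum_univ_two] using this
      have a10 : g.1 1 0 = 0 := by
        have := congrFun (congrFun e1 1) 1
        simpa [symModel, Matrix.mul_apply, Fin.sum_univ_two] using this
      have a01 : g.1 0 1 = 0 := by
        have := congrFun (congrFun e3 0) 0
        simpa [symModel, Matrix.mul_apply, Fin.sum_univ_two] using this
      rw [a10, a01, mul_zero, sub_zero] at hd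
      rcases mul_self_eq_one_iff.mp a00 with h0 | h0 <;> rw [h0] at hd
      · left; ext i j; fin_cases i <;> fin_cases j <;> simp_all
      · right
        have h11 : g.1 1 1 = -1 := by linear_combination -hd
        ext i j; fin_cases i <;> fin_cases j <;> simp_all
    · intro h v
      change g.1 * symModel v * g.1ᵀ = symModel v
      rcases eq_pm_of_center h with e | e <;> rw [e] <;> simp
  have hk : Nat.card f.ker = 2 := by
    rw [hker, CfsgLib.Linear.card_center_SL, Fintype.card_fin]
    have := Nat.odd_iff.mp (Nat.odd_iff.mpr (odd_card_of_two_ne h2) : Odd (Nat.card F))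
    have h1 : 1 < Nat.card F := Finite.one_lt_card
    obtain ⟨k, hk⟩ : 2 ∣ Nat.card F - 1 := Nat.dvd_of_mod_eq_zero (by omega)
    rw [hk]; exact Nat.gcd_eq_left ⟨k, rfl⟩
  have hsq : SqGen (Matrix.SpecialLinearGroup (Fin 2) F) := sqGen_SL (Or.inl h2)
  have hrange := range_eq_commutator_odd (oddQ_nondeg h2 1) h2 (by simp) f hsq (by
    rw [hk, card_SL_two]
    have h := card_oGroup_odd (F := F) (q := Fintype.card F) Nat.card_eq_fintype_card h2 1
    have h1 : 1 ≤ Fintype.card F ^ 2 := Nat.one_le_pow _ _ Fintype.card_pos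
    apply Nat.cast_injective (R := ℤ)
    push_cast [h1]
    rw [h]
    simp
    ring)
  obtain ⟨e⟩ := nonempty_central_quotient f hrange hsq fun g hg =>
    mem_center_of_eq_pm (eq_pm_of_center (hker ▸ MonoidHom.mem_ker.mpr hg))
  exact ⟨(pOmegaEquiv _).trans e⟩

/-- Two-by-two model of `plusQ 2`. -/
def detModel : (Fin 2 ⊕ Fin 2 → F) →ₗ[F] Matrix (Fin 2) (Fin 2) F where
  toFun v := !![v (Sum.inl 0), v (Sum.inl 1); -v (Sum.inr 1), v (Sum.inr 0)]
  map_add' u v := by ext i j; fin_cases i <;> fin_cases j <;> simp [add_comm]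
  map_smul' c v := by ext i j; fin_cases i <;> fin_cases j <;> simp

/-- `POmega_4^+(q) ≅ PSL_2(q) × PSL_2(q)`. -/
theorem nonempty_pOmega_four_plus (hF : 3 ≤ Nat.card F) :
    Nonempty (Cfsg.POmega F ⇑(plusQ (F := F) 2) ≃*
      Matrix.ProjectiveSpecialLinearGroup (Fin 2) F ×
        Matrix.ProjectiveSpecialLinearGroup (Fin 2) F) := by
  classical
  haveI := Fintype.ofFinite F
  haveI := finite_oGroup (plusQ (F := F) 2)
  set S := Matrix.SpecialLinearGroup (Fin 2) F
  have hdet : ∀ v, (detModel (F := F) v).det = plusQ 2 v := fun v => by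
    simp [detModel, Matrix.det_fin_two, plusQ_coe, Cfsg.quadFormPlus, Fin.sum_univ_two]
  have hinj : Function.Injective (detModel (F := F)) := fun u v e => by
    funext i
    rcases i with i | i <;> fin_cases i
    · exact congrFun (congrFun e 0) 0
    · exact congrFun (congrFun e 0) 1
    · exact congrFun (congrFun e 1) 1
    · exact neg_injective (congrFun (congrFun e 1) 0)
  let act := congrAct (F := F) ((slVal (Fin 2) F).comp (MonoidHom.fst S S))
    ((slVal (Fin 2) F).comp (MonoidHom.snd S S))
  have hstab : ∀ g v, ∃ w, detModel (F := F) w = act g (detModel v) := fun g v =>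
    ⟨Sum.elim ![act g (detModel v) 0 0, act g (detModel v) 0 1]
        ![act g (detModel v) 1 1, -act g (detModel v) 1 0],
      by ext i j; fin_cases i <;> fin_cases j <;> simp [detModel]⟩
  have hQ : ∀ g v w, detModel (F := F) w = act g (detModel v) → plusQ 2 w = plusQ 2 v := by
    intro g v w e
    have h := congrArg Matrix.det e
    change _ = (g.1.1 * detModel v * g.2.1ᵀ).det at h
    rwa [Matrix.det_mul, Matrix.det_mul, Matrix.det_transpose, g.1.2, g.2.2, one_mul, mul_one,
      hdet, hdet] at h
  let f := repO act detModel hinj hstab hQ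
  have hkerpm : ∀ g : S × S, f g = 1 →
      g = 1 ∨ ((g.1.1 : Matrix (Fin 2) (Fin 2) F) = -1 ∧ (g.2.1 : Matrix (Fin 2) (Fin 2) F) = -1) := by
    intro g hg
    rw [repO_eq_one_iff] at hg
    have e : ∀ v, g.1.1 * detModel v * g.2.1ᵀ = detModel v := hg
    have hd := g.1.2
    rw [Matrix.det_fin_two] at hd
    have hd' := g.2.2
    rw [Matrix.det_fin_two] at hd'
    have x1 := e (Sum.elim ![1, 0] ![0, 0])
    have x2 := e (Sum.elim ![0, 0] ![1, 0])
    have a := congrFun (congrFun x1 0) 0
    have b := congrFun (congrFun x1 0) 1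
    have c := congrFun (congrFun x1 1) 0
    have d := congrFun (congrFun x2 1) 1
    have b' := congrFun (congrFun x2 0) 1
    have c' := congrFun (congrFun x2 1) 0
    simp [detModel, Matrix.mul_apply, Fin.sum_univ_two] at a b c d b' c'
    have g00 : g.1.1 0 0 ≠ 0 := fun h => by rw [h, zero_mul] at a; exact zero_ne_one a
    have h00 : g.2.1 0 0 ≠ 0 := fun h => by rw [h, mul_zero] at a; exact zero_ne_one a
    have g11 : g.1.1 1 1 ≠ 0 := fun h => by rw [h, zero_mul] at d; exact zero_ne_one d
    have h11 : g.2.1 1 1 ≠ 0 := fun h => by rw [h, mul_zero] at d; exact zero_ne_one d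
    have g10 : g.1.1 1 0 = 0 := c.resolve_right h00
    have h10 : g.2.1 1 0 = 0 := b.resolve_left g00
    have g01 : g.1.1 0 1 = 0 := b'.resolve_right h11
    have h01 : g.2.1 0 1 = 0 := c'.resolve_left g11
    rw [g10, g01, mul_zero, sub_zero] at hd
    rw [h10, h01, mul_zero, sub_zero] at hd'
    have x3 := congrFun (congrFun (e (Sum.elim ![0, 1] ![0, 0])) 0) 1
    simp [detModel, Matrix.mul_apply, Fin.sum_univ_two] at x3
    -- all four diagonal entries agree and square to one
    have s1 : g.1.1 1 1 = g.1.1 0 0 := by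
      have h1 : g.2.1 0 0 = g.1.1 1 1 := mul_left_cancel₀ g00 (a.trans hd.symm)
      have h3 : g.2.1 1 1 = g.2.1 0 0 := mul_left_cancel₀ g00 (x3.trans a.symm)
      have h4 : g.1.1 1 1 * g.1.1 1 1 = 1 := by
        rw [h3, h1] at hd'; exact hd'
      exact mul_left_cancel₀ g11 (h4.trans (by rw [mul_comm, hd]))
    have s2 : g.2.1 0 0 = g.1.1 0 0 := by
      rw [mul_left_cancel₀ g00 (a.trans hd.symm), s1]
    have s3 : g.2.1 1 1 = g.1.1 0 0 := by
      rw [mul_left_cancel₀ g00 (x3.trans hd.symm), s1]
    rw [s1] at hd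
    rcases mul_self_eq_one_iff.mp hd with hpm | hpm
    · left
      refine Prod.ext ?_ ?_ <;> refine Subtype.ext ?_ <;> ext i j <;> fin_cases i <;> fin_cases j <;>
        simp [g10, g01, h10, h01, s1, s2, s3, hpm]
    · right
      refine ⟨?_, ?_⟩ <;> ext i j <;> fin_cases i <;> fin_cases j <;>
        simp [g10, g01, h10, h01, s1, s2, s3, hpm]
  have hnd : ((-1 : Matrix (Fin 2) (Fin 2) F)).det = 1 := by simp [Matrix.det_fin_two]
  set z : S × S := (⟨-1, hnd⟩, ⟨-1, hnd⟩)
  have hzker : f z = 1 := by
    rw [repO_eq_one_iff]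
    intro v
    change (-1 : Matrix (Fin 2) (Fin 2) F) * detModel v * (-1 : Matrix (Fin 2) (Fin 2) F)ᵀ = _
    simp
  have hkerset : ∀ g, f g = 1 → g = 1 ∨ g = z := fun g hg =>
    (hkerpm g hg).imp_right fun h => Prod.ext (Subtype.ext h.1) (Subtype.ext h.2)
  have hcenter : ∀ g, f g = 1 → g ∈ Subgroup.center (S × S) ∧ g * g = 1 := fun g hg => by
    rcases hkerset g hg with rfl | rfl
    · exact ⟨one_mem _, mul_one 1⟩
    · refine ⟨Subgroup.mem_center_iff.mpr fun p => ?_, ?_⟩
      · exact Prod.ext (Subgroup.mem_center_iff.mp (mem_center_of_eq_pm (Or.inr rfl)).1 p.1)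
          (Subgroup.mem_center_iff.mp (mem_center_of_eq_pm (Or.inr rfl)).1 p.2)
      · exact Prod.ext (mem_center_of_eq_pm (Or.inr rfl)).2 (mem_center_of_eq_pm (Or.inr rfl)).2
  have hcardG : Nat.card (S × S) = (Fintype.card F * (Fintype.card F ^ 2 - 1)) ^ 2 := by
    rw [Nat.card_prod, card_SL_two]; ring
  have hO := card_oGroup_plus (F := F) (q := Fintype.card F) Nat.card_eq_fintype_card 1
  have h1 : 1 ≤ Fintype.card F ^ 2 := Nat.one_le_pow _ _ Fintype.card_pos
  have hsq1 : SqGen S := by
    refine sqGen_SL ?_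
    by_cases h2 : (2 : F) = 0
    · right; right
      haveI : CharP F 2 := CharTwo.of_one_ne_zero_of_two_eq_zero one_ne_zero h2
      obtain ⟨x, hx⟩ : ∃ x : F, x ∉ ({0, 1} : Finset F) := by
        by_contra hc
        push Not at hc
        have : Fintype.card F ≤ 2 := by
          rw [← Finset.card_univ]
          exact (Finset.card_le_card fun t _ => hc t).trans Finset.card_le_two
        rw [Nat.card_eq_fintype_card] at hF
        omega
      simp only [Finset.mem_insert, Finset.mem_singleton, not_or] at hx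
      refine ⟨x, hx.1, fun e => hx.2 ?_⟩
      rcases sq_eq_one_iff.mp e with e' | e'
      · exact e'
      · rw [e', CharTwo.neg_eq]
    · exact Or.inl h2
  have hrange : f.range = commutator (oGroup (plusQ (F := F) 2)) := by
    by_cases h2 : (2 : F) = 0
    · haveI : CharP F 2 := CharTwo.of_one_ne_zero_of_two_eq_zero one_ne_zero h2
      have hk : Nat.card f.ker = 1 := by
        rw [Subgroup.card_eq_one, Subgroup.eq_bot_iff_forall]
        intro g hg
        rcases hkerset g hg with h | h
        · exact h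
        · rw [h]
          refine Prod.ext ?_ ?_ <;> refine Subtype.ext ?_ <;> ext i j <;> fin_cases i <;>
            fin_cases j <;> simp [z, CharTwo.neg_eq]
      have hperf : commutator (S × S) = ⊤ := by
        have hS : commutator S = ⊤ := by
          refine CfsgLib.Linear.commutator_SL_eq_top (Or.inr ?_)
          obtain ⟨x, hx⟩ : ∃ x : F, x ∉ ({0, 1} : Finset F) := by
            by_contra hc
            push Not at hc
            have : Fintype.card F ≤ 2 := by
              rw [← Finset.card_univ]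
              exact (Finset.card_le_card fun t _ => hc t).trans Finset.card_le_two
            rw [Nat.card_eq_fintype_card] at hF
            omega
          simp only [Finset.mem_insert, Finset.mem_singleton, not_or] at hx
          refine ⟨x, hx.1, fun e => hx.2 ?_⟩
          rcases sq_eq_one_iff.mp e with e' | e'
          · exact e'
          · rw [e', CharTwo.neg_eq]
        rw [commutator_def, ← Subgroup.top_prod_top, Subgroup.commutator_prod_prod, ← commutator_def,
          hS]
      refine range_eq_commutator_perfect f hperf ?_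
      rw [hk, hcardG]
      apply Nat.cast_injective (R := ℤ)
      push_cast [h1]
      rw [hO]; simp; ring
    · have hk : Nat.card f.ker = 2 := by
        refine Nat.card_eq_two_iff.mpr ⟨1, ⟨z, hzker⟩, ?_, ?_⟩
        · intro e
          have := congrArg (fun p : f.ker => (p.1.1.1 : Matrix (Fin 2) (Fin 2) F) 0 0) e
          simp [z] at this
          exact h2 (by linear_combination this)
        · refine Set.eq_univ_iff_forall.mpr fun g => ?_
          rcases hkerset g.1 g.2 with h | h
          · exact Or.inl (Subtype.ext h)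
          · exact Or.inr (Subtype.ext h)
      refine range_eq_commutator_odd (plusQ_nondeg 2) h2 (by simp) f (sqGen_prod hsq1 hsq1) ?_
      rw [hk, hcardG]
      apply Nat.cast_injective (R := ℤ)
      push_cast [h1]
      rw [hO]; simp; ring
  obtain ⟨e⟩ := nonempty_central_quotient f hrange (sqGen_prod hsq1 hsq1) hcenter
  obtain ⟨e'⟩ := nonempty_quotient_prod (A := S) (B := S)
  exact ⟨(pOmegaEquiv _).trans (e.trans e')⟩

/-- Hermitian model of `minusQ 1 a b`. -/
def hermModel {K : Type*} [Field K] [Algebra F K] (θ θ' : K) :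
    ((Fin 1 ⊕ Fin 1) ⊕ Fin 2 → F) →ₗ[F] Matrix (Fin 2) (Fin 2) K where
  toFun v := !![algebraMap F K (v (Sum.inl (Sum.inl 0))),
      algebraMap F K (v (Sum.inr 0)) + algebraMap F K (v (Sum.inr 1)) * θ;
      algebraMap F K (v (Sum.inr 0)) + algebraMap F K (v (Sum.inr 1)) * θ',
      -algebraMap F K (v (Sum.inl (Sum.inr 0)))]
  map_add' u v := by
    ext i j; fin_cases i <;> fin_cases j <;> simp [add_mul, add_comm, add_left_comm, add_assoc]
  map_smul' c v := by
    ext i j; fin_cases i <;> fin_cases j <;> simp [Algebra.smul_def, mul_add, mul_assoc]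

/-- A root of an irreducible quadratic in the quadratic extension. -/
theorem exists_quad_root {K : Type*} [Field K] [Finite K] [Algebra F K]
    (hK : Nat.card K = Nat.card F ^ 2) {a b : F}
    (hab : ∀ z₁ z₂ : F, z₁ ^ 2 + a * z₁ * z₂ + b * z₂ ^ 2 = 0 → z₁ = 0 ∧ z₂ = 0) :
    ∃ θ : K, θ ^ 2 - algebraMap F K a * θ + algebraMap F K b = 0 ∧
      ∀ x : F, algebraMap F K x ≠ θ := by
  set p : Polynomial F :=
    Polynomial.X ^ 2 - Polynomial.C a * Polynomial.X + Polynomial.C b with hp
  have hdeg : p.natDegree = 2 := by rw [hp]; compute_degree!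
  have hroot : ∀ x : F, p.eval x ≠ 0 := fun x h => by
    simp [hp] at h
    exact one_ne_zero (hab (-x) 1 (by linear_combination h)).2
  haveI hirr : Fact (Irreducible p) := ⟨(Polynomial.irreducible_iff_roots_eq_zero_of_degree_le_three
    (by omega) (by omega)).mpr (Multiset.eq_zero_of_forall_notMem fun x hx => hroot x
      (Polynomial.mem_roots'.mp hx).2)⟩
  have hp0 : p ≠ 0 := hirr.out.ne_zero
  haveI : Module.Finite F (AdjoinRoot p) := (AdjoinRoot.powerBasis hp0).finite
  haveI : Finite (AdjoinRoot p) := Module.finite_of_finite F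
  have hfr : Module.finrank F (AdjoinRoot p) = 2 := by
    rw [(AdjoinRoot.powerBasis hp0).finrank, AdjoinRoot.powerBasis_dim, hdeg]
  have hfrK : Module.finrank F K = 2 := by
    have h := Module.natCard_eq_pow_finrank (K := F) (V := K)
    rw [hK] at h
    exact (Nat.pow_right_injective (Finite.one_lt_card (α := F)) h).symm
  obtain ⟨φ⟩ := FiniteField.nonempty_algHom_of_finrank_dvd (F := F) (K := AdjoinRoot p) (L := K)
    (by rw [hfr, hfrK])
  refine ⟨φ (AdjoinRoot.root p), ?_, fun x hx => ?_⟩
  · have h0 : Polynomial.aeval (AdjoinRoot.root p) p = 0 := by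
      rw [AdjoinRoot.aeval_eq, AdjoinRoot.mk_self]
    have h := congrArg φ h0
    rw [← Polynomial.aeval_algHom_apply, map_zero] at h
    simpa [hp] using h
  · have h0 : Polynomial.aeval (AdjoinRoot.root p) p = 0 := by
      rw [AdjoinRoot.aeval_eq, AdjoinRoot.mk_self]
    have h := congrArg φ h0
    rw [← Polynomial.aeval_algHom_apply, map_zero, ← hx, Polynomial.aeval_algebraMap_apply] at h
    exact hroot x ((map_eq_zero (algebraMap F K)).mp (by simpa [Polynomial.coe_aeval_eq_eval] using h))

/-- `POmega_4^-(q) ≅ PSL_2(q²)`. -/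
theorem nonempty_pOmega_four_minus {K : Type*} [Field K] [Finite K] {q : ℕ} (hF : Nat.card F = q)
    (hK : Nat.card K = q ^ 2) {a b : F}
    (hab : ∀ z₁ z₂ : F, z₁ ^ 2 + a * z₁ * z₂ + b * z₂ ^ 2 = 0 → z₁ = 0 ∧ z₂ = 0) :
    Nonempty (Cfsg.POmega F ⇑(minusQ (F := F) 1 a b) ≃*
      Matrix.ProjectiveSpecialLinearGroup (Fin 2) K) := by
  classical
  haveI := Fintype.ofFinite K
  haveI := Fintype.ofFinite F
  obtain ⟨inc, hinc⟩ := CfsgLib.Unitary.exists_subfield_hom (F := K) hK (K := F) hF
  letI : Algebra F K := inc.toAlgebra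
  set σ := CfsgLib.Forms.frobQ (F := K) hK with hσ
  have hσF : ∀ x : F, σ (algebraMap F K x) = algebraMap F K x := hinc
  have hσσ : ∀ x, σ (σ x) = x := CfsgLib.Forms.frobQ_invol hK
  obtain ⟨θ, hθ, hθF⟩ := exists_quad_root (F := F) (K := K) (by rw [hK, hF]) hab
  have halg : Function.Injective (algebraMap F K) := (algebraMap F K).injective
  -- the image of `F × F` under `(s, t) ↦ s + t θ` is all of `K`
  have hbij : Function.Bijective fun p : F × F => algebraMap F K p.1 + algebraMap F K p.2 * θ := by
    refine Function.Injective.bijective_of_nat_card_le ?_ ?_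
    · rintro ⟨s, t⟩ ⟨s', t'⟩ e
      simp only at e
      have ht : t = t' := by
        by_contra hne
        refine hθF ((s' - s) / (t - t')) ?_
        rw [map_div₀, map_sub, map_sub, div_eq_iff (sub_ne_zero.mpr (halg.ne hne))]
        linear_combination -e
      subst ht
      rw [add_left_inj] at e
      rw [halg e]
    · rw [Nat.card_prod, hK, hF, pow_two]
  have hθσ : σ θ ≠ θ := by
    intro e
    have hall : ∀ x : K, x ^ q = x := fun x => by
      obtain ⟨⟨s, t⟩, rfl⟩ := hbij.2 x
      rw [← frobQ_apply hK, map_add, map_mul, e, hσF, hσF]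
    exact CfsgLib.Forms.frobQ_ne_id hK (RingHom.ext hall)
  have hroot' : (σ θ) ^ 2 - algebraMap F K a * σ θ + algebraMap F K b = 0 := by
    have := congrArg σ hθ
    rwa [map_add, map_sub, map_mul, map_pow, hσF, hσF, map_zero] at this
  have hsum : θ + σ θ = algebraMap F K a := by
    have hfac : (θ - σ θ) * (θ + σ θ - algebraMap F K a) = 0 := by linear_combination hθ - hroot'
    exact sub_eq_zero.mp ((mul_eq_zero.mp hfac).resolve_left (sub_ne_zero.mpr (Ne.symm hθσ)))
  have hprod : θ * σ θ = algebraMap F K b := by linear_combination θ * hsum - hθ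
  have hfixF : ∀ x : K, σ x = x → ∃ y : F, algebraMap F K y = x := by
    intro x hx
    obtain ⟨⟨s, t⟩, rfl⟩ := hbij.2 x
    simp only [map_add, map_mul, hσF, add_right_inj] at hx
    rcases eq_or_ne (algebraMap F K t) 0 with h0 | h0
    · exact ⟨s, by simp [h0]⟩
    · exact absurd (mul_left_cancel₀ h0 hx) hθσ
  let Mo := hermModel (F := F) θ (σ θ)
  have hdet : ∀ v, (Mo v).det = -algebraMap F K (minusQ 1 a b v) := fun v => by
    simp [Mo, hermModel, Matrix.det_fin_two, minusQ_coe, Cfsg.quadFormMinus, ← hsum, ← hprod]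
    ring
  have hinj : Function.Injective Mo := fun u v e => by
    have h := hbij.1 (a₁ := (u (Sum.inr 0), u (Sum.inr 1))) (a₂ := (v (Sum.inr 0), v (Sum.inr 1)))
      (congrFun (congrFun e 0) 1)
    simp only [Prod.mk.injEq] at h
    funext i
    rcases i with (i | i) | i
    · rw [Subsingleton.elim i 0]; exact halg (congrFun (congrFun e 0) 0)
    · rw [Subsingleton.elim i 0]; exact halg (neg_injective (congrFun (congrFun e 1) 1))
    · fin_cases i
      · exact h.1
      · exact h.2
  let σv : Matrix.SpecialLinearGroup (Fin 2) K →* Matrix (Fin 2) (Fin 2) K :=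
    σ.mapMatrix.toMonoidHom.comp (slVal (Fin 2) K)
  let act := congrAct (F := F) (slVal (Fin 2) K) σv
  have hherm : ∀ v, (σ.mapMatrix (Mo v))ᵀ = Mo v := fun v => by
    ext i j; fin_cases i <;> fin_cases j <;> simp [Mo, hermModel, hσF, hσσ]
  have hstab : ∀ g v, ∃ w, Mo w = act g (Mo v) := by
    intro g v
    set H := act g (Mo v) with hH
    have hsym : (σ.mapMatrix H)ᵀ = H := by
      rw [hH]
      change (σ.mapMatrix (g.1 * Mo v * (σ.mapMatrix g.1)ᵀ))ᵀ = g.1 * Mo v * (σ.mapMatrix g.1)ᵀ
      rw [map_mul, map_mul, Matrix.transpose_mul, Matrix.transpose_mul, hherm, Matrix.mul_assoc]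
      congr 1
      ext i j
      simp [hσσ]
    have h00 : σ (H 0 0) = H 0 0 := congrFun (congrFun hsym 0) 0
    have h11 : σ (H 1 1) = H 1 1 := congrFun (congrFun hsym 1) 1
    have h10 : σ (H 0 1) = H 1 0 := congrFun (congrFun hsym 1) 0
    obtain ⟨x, hx⟩ := hfixF _ h00
    obtain ⟨y, hy⟩ := hfixF _ h11
    obtain ⟨⟨s, t⟩, hst⟩ := hbij.2 (H 0 1)
    simp only at hst
    refine ⟨Sum.elim (Sum.elim (fun _ => x) (fun _ => -y)) ![s, t], ?_⟩
    have h10' : algebraMap F K s + algebraMap F K t * σ θ = H 1 0 := by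
      rw [← h10, ← hst, map_add, map_mul, hσF, hσF]
    ext i j; fin_cases i <;> fin_cases j <;> simp [Mo, hermModel, hx, hy, hst, h10']
  have hQ : ∀ g v w, Mo w = act g (Mo v) → minusQ 1 a b w = minusQ 1 a b v := by
    intro g v w e
    have h := congrArg Matrix.det e
    change _ = (g.1 * Mo v * (σ.mapMatrix g.1)ᵀ).det at h
    rw [Matrix.det_mul, Matrix.det_mul, Matrix.det_transpose, ← RingHom.map_det, g.2, map_one,
      one_mul, mul_one, hdet, hdet] at h
    exact halg (neg_injective h)
  let f := repO act Mo hinj hstab hQ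
  have hker : f.ker = Subgroup.center _ := by
    ext g
    rw [MonoidHom.mem_ker, repO_eq_one_iff]
    constructor
    · intro h
      refine (mem_center_of_eq_pm ?_).1
      have e : ∀ v, g.1 * Mo v * (σ.mapMatrix g.1)ᵀ = Mo v := h
      have hd := g.2
      rw [Matrix.det_fin_two] at hd
      have e1 := e (Sum.elim (Sum.elim 1 0) 0)
      have e2 := e (Sum.elim (Sum.elim 0 1) 0)
      have e3 := e (Sum.elim 0 ![1, 0])
      have a00 := congrFun (congrFun e1 0) 0
      have a10 := congrFun (congrFun e1 1) 1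
      have a01 := congrFun (congrFun e2 0) 0
      have b01 := congrFun (congrFun e3 0) 1
      simp [Mo, hermModel, Matrix.mul_apply, Fin.sum_univ_two] at a00 a10 a01 b01
      rw [a10, a01] at hd
      simp only [mul_zero, sub_zero] at hd
      rw [a10, a01] at b01
      simp only [map_zero, mul_zero, zero_mul, zero_add, add_zero] at b01
      have hne : g.1 0 0 ≠ 0 := fun h0 => by rw [h0, zero_mul] at hd; exact zero_ne_one hd
      have heq : g.1 1 1 = g.1 0 0 := by
        have h3 : σ (g.1 0 0) = σ (g.1 1 1) := mul_left_cancel₀ hne (a00.trans b01.symm)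
        exact σ.injective h3.symm
      rw [heq] at hd
      rcases mul_self_eq_one_iff.mp hd with hpm | hpm
      · left; ext i j; fin_cases i <;> fin_cases j <;> simp [a10, a01, heq, hpm]
      · right; ext i j; fin_cases i <;> fin_cases j <;> simp [a10, a01, heq, hpm]
    · intro h v
      change g.1 * Mo v * (σ.mapMatrix g.1)ᵀ = Mo v
      rcases eq_pm_of_center h with e | e
      · rw [e, map_one]; simp
      · rw [e, map_neg, map_one]; simp
  have hq2 : 2 ≤ q := hF ▸ Finite.one_lt_card
  have hO := card_oGroup_minus (F := F) hF hab 1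
  have hcardG : Nat.card (Matrix.SpecialLinearGroup (Fin 2) K) = q ^ 2 * ((q ^ 2) ^ 2 - 1) := by
    rw [card_SL_two, ← Nat.card_eq_fintype_card, hK]
  have hp : 1 ≤ (q ^ 2) ^ 2 := Nat.one_le_pow _ _ (by positivity)
  haveI := finite_oGroup (minusQ (F := F) 1 a b)
  have hperf : commutator (Matrix.SpecialLinearGroup (Fin 2) K) = ⊤ := by
    refine CfsgLib.Linear.commutator_SL_eq_top (Or.inr ?_)
    obtain ⟨x, hx⟩ : ∃ x : K, x ∉ ({0, 1, -1} : Finset K) := by
      by_contra hc
      push Not at hc
      have h4 : Fintype.card K ≤ 3 := by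
        rw [← Finset.card_univ]
        exact (Finset.card_le_card fun t _ => hc t).trans Finset.card_le_three
      rw [← Nat.card_eq_fintype_card, hK] at h4
      nlinarith
    simp only [Finset.mem_insert, Finset.mem_singleton, not_or] at hx
    exact ⟨x, hx.1, fun e => by rcases sq_eq_one_iff.mp e with h | h; exacts [hx.2.1 h, hx.2.2 h]⟩
  have hcard : Nat.card f.ker = Nat.gcd 2 (q ^ 2 - 1) := by
    rw [hker, CfsgLib.Linear.card_center_SL, Fintype.card_fin, hK]
  have hrange : f.range = commutator (oGroup (minusQ (F := F) 1 a b)) := by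
    by_cases h2 : (2 : F) = 0
    · haveI : CharP F 2 := CharTwo.of_one_ne_zero_of_two_eq_zero one_ne_zero h2
      have hev := FiniteField.even_card_of_char_two (F := F) (ringChar.eq F 2)
      rw [← Nat.card_eq_fintype_card, hF] at hev
      have hk : Nat.card f.ker = 1 := by
        rw [hcard]
        refine Nat.coprime_two_left.mpr (Nat.odd_iff.mpr ?_)
        have : q ^ 2 % 2 = 0 := by rw [Nat.pow_mod, hev]
        have : 4 ≤ q ^ 2 := by nlinarith
        omega
      refine range_eq_commutator_perfect f hperf ?_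
      rw [hk, hcardG]
      apply Nat.cast_injective (R := ℤ)
      push_cast [hp]
      rw [hO]; simp; ring
    · have hodd : Odd q := by rw [Nat.odd_iff, ← hF]; exact odd_card_of_two_ne h2
      have hk : Nat.card f.ker = 2 := by
        rw [hcard]
        have h1 := Nat.odd_iff.mp (hodd.pow (n := 2))
        obtain ⟨k, hk⟩ : 2 ∣ q ^ 2 - 1 := Nat.dvd_of_mod_eq_zero (by omega)
        rw [hk]; exact Nat.gcd_eq_left ⟨k, rfl⟩
      refine range_eq_commutator_odd (minusQ_nondeg hab 1) h2 (by simp) f (sqGen_of_perfect hperf) ?_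
      rw [hk, hcardG]
      apply Nat.cast_injective (R := ℤ)
      push_cast [hp]
      rw [hO]; simp; ring
  obtain ⟨e⟩ := nonempty_central_quotient f hrange (sqGen_of_perfect hperf) fun g hg =>
    mem_center_of_eq_pm (eq_pm_of_center (hker ▸ MonoidHom.mem_ker.mpr hg))
  exact ⟨(pOmegaEquiv _).trans e⟩

end CfsgLib.Quad
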