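import Cfsg.Agent.Quad.Heart
import Cfsg.Agent.Quad.Orders
import Cfsg.Agent.Classical.SymplecticBlocks
import Mathlib.GroupTheory.SpecificGroups.Alternating.Centralizer
import Mathlib.GroupTheory.SpecificGroups.Alternating

/-!
`S_2n ≤ Sp_(2n-2)(2)`, `Sp_4(2) ≅ S_6`, `O_4^-(2) ≅ S_5`, `O_6^+(2) ≅ S_8`.
-/

set_option autoImplicit false
set_option linter.flexible false

namespace CfsgLib.Quad.Heart

open Matrix

variable {m : ℕ}

/-- The indicator of `{i | i ≤ 2k}` summed against `d`. -/
def pre (d : Fin (2 * m + 2) → ZMod 2) (k : ℕ) : ZMod 2 :=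
  ∑ i : Fin (2 * m + 2), (if i.val ≤ 2 * k then 1 else 0) * d i

theorem pre_zero (d : Fin (2 * m + 2) → ZMod 2) : pre d 0 = d ⟨0, by omega⟩ := by
  rw [pre, Finset.sum_eq_single (⟨0, by omega⟩ : Fin (2 * m + 2))]
  · simp
  · intro i _ hi
    rw [if_neg (fun h => hi (Fin.ext (show i.val = 0 by omega))), zero_mul]
  · simp

theorem pre_succ (d : Fin (2 * m + 2) → ZMod 2) {k : ℕ} (hk : k < m) :
    pre d (k + 1) = pre d k + d ⟨2 * k + 1, by omega⟩ + d ⟨2 * k + 2, by omega⟩ := by
  have hpt : ∀ i : Fin (2 * m + 2), (if i.val ≤ 2 * (k + 1) then (1 : ZMod 2) else 0) =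
      (if i.val ≤ 2 * k then 1 else 0) + (if i = ⟨2 * k + 1, by omega⟩ then 1 else 0) +
        (if i = ⟨2 * k + 2, by omega⟩ then 1 else 0) := by
    intro i
    simp only [Fin.ext_iff]
    split_ifs <;> first | omega | simp
  simp only [pre, hpt, add_mul, Finset.sum_add_distrib, ite_mul, one_mul, zero_mul,
    Finset.sum_ite_eq', Finset.mem_univ, if_true]

theorem pre_one {k : ℕ} (hk : k ≤ m) : pre (fun _ : Fin (2 * m + 2) => (1 : ZMod 2)) k = 1 ∧
    ∀ d : Fin (2 * m + 2) → ZMod 2, (∀ i, d i = 1) → pre d k = 1 := by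
  have h : ∀ d : Fin (2 * m + 2) → ZMod 2, (∀ i, d i = 1) → pre d k = 1 := by
    intro d hd
    induction k with
    | zero => rw [pre_zero]; exact hd _
    | succ k ih => rw [pre_succ d (by omega), ih (by omega), hd, hd]; rfl
  exact ⟨h (fun _ : Fin (2 * m + 2) => 1) fun _ => rfl, h⟩

/-- The last point. -/
def lastPt (m : ℕ) : Fin (2 * m + 2) := ⟨2 * m + 1, by omega⟩

theorem sum_eq_pre (d : Fin (2 * m + 2) → ZMod 2) : ∑ i, d i = pre d m + d (lastPt m) := by
  have hpt : ∀ i : Fin (2 * m + 2),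
      d i = (if i.val ≤ 2 * m then 1 else 0) * d i + (if i = lastPt m then 1 else 0) * d i := by
    intro i
    have := i.isLt
    simp only [lastPt, Fin.ext_iff]
    split_ifs <;> first | omega | simp
  conv_lhs => rw [Finset.sum_congr rfl fun i _ => hpt i]
  simp only [Finset.sum_add_distrib, pre, ite_mul, one_mul, zero_mul, Finset.sum_ite_eq',
    Finset.mem_univ, if_true]

/-- The basis of the heart in even degree. -/
def genB (m : ℕ) : Matrix (Fin (2 * m + 2)) (Fin m ⊕ Fin m) (ZMod 2) :=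
  Matrix.of fun i j => Sum.elim
    (fun k : Fin m => (if i = ⟨2 * k.val, by omega⟩ then 1 else 0) +
      if i = ⟨2 * k.val + 1, by omega⟩ then 1 else 0)
    (fun k : Fin m => (if i.val ≤ 2 * k.val then 1 else 0) + if i = lastPt m then 1 else 0) j

theorem dot_e (d : Fin (2 * m + 2) → ZMod 2) (k : Fin m) :
    ∑ i, genB m i (Sum.inl k) * d i =
      d ⟨2 * k.val, by omega⟩ + d ⟨2 * k.val + 1, by omega⟩ := by
  simp [genB, add_mul, Finset.sum_add_distrib]

theorem dot_f (d : Fin (2 * m + 2) → ZMod 2) (k : Fin m) :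
    ∑ i, genB m i (Sum.inr k) * d i = pre d k.val + d (lastPt m) := by
  simp [genB, pre, add_mul, Finset.sum_add_distrib]

theorem gen_gram : (genB m)ᵀ * genB m = Matrix.J (Fin m) (ZMod 2) := by
  ext a b
  rw [Matrix.mul_apply]
  simp only [Matrix.transpose_apply]
  have hneg : (-1 : ZMod 2) = 1 := rfl
  rcases a with a | a
  · rw [dot_e (fun i => genB m i b) a]
    have ha := a.isLt
    rcases b with b | b
    · have hb := b.isLt
      simp only [genB, Matrix.of_apply, Sum.elim_inl, Fin.ext_iff, lastPt, Matrix.J,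
        Matrix.fromBlocks_apply₁₁, Matrix.zero_apply]
      split_ifs <;> first | omega | rfl
    · have hb := b.isLt
      simp only [genB, Matrix.of_apply, Sum.elim_inr, Fin.ext_iff, lastPt, Matrix.J,
        Matrix.fromBlocks_apply₁₂, Matrix.neg_apply, Matrix.one_apply, ZMod.neg_eq_self_mod_two]
      split_ifs <;> first | omega | rfl
  · rw [dot_f (fun i => genB m i b) a]
    have ha := a.isLt
    rcases b with b | b
    · have hb := b.isLt
      have : pre (fun i => genB m i (Sum.inl b)) a.val =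
          (if b.val ≤ a.val then 1 else 0) + if b.val < a.val then 1 else 0 := by
        simp only [pre, mul_comm _ (genB m _ _)]
        rw [dot_e (fun i : Fin (2 * m + 2) => if i.val ≤ 2 * a.val then (1 : ZMod 2) else 0) b]
        congr 1 <;> exact if_congr (by simp only []; omega) rfl rfl
      rw [this]
      simp only [genB, Matrix.of_apply, Sum.elim_inl, Fin.ext_iff, lastPt, Matrix.J,
        Matrix.fromBlocks_apply₂₁, Matrix.one_apply]
      split_ifs <;> first | omega | rfl
    · have hb := b.isLt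
      have h1 : genB m (lastPt m) (Sum.inr b) = 1 := by
        simp only [genB, Matrix.of_apply, Sum.elim_inr, lastPt]
        rw [if_neg (by omega), if_pos trivial, zero_add]
      have h2 : pre (fun i => genB m i (Sum.inr b)) a.val = 1 := by
        have hpt : ∀ i : Fin (2 * m + 2), (if i.val ≤ 2 * a.val then (1 : ZMod 2) else 0) *
            genB m i (Sum.inr b) = (if i.val ≤ 2 * min a.val b.val then 1 else 0) * 1 := by
          intro i
          simp only [genB, Matrix.of_apply, Sum.elim_inr, Fin.ext_iff, lastPt, mul_one]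
          split_ifs <;> first | omega | rfl
        simp only [pre, hpt]
        exact (pre_one (m := m) (k := min a.val b.val) (by omega)).1
      rw [h1, h2]
      rfl

theorem gen_inv : -Matrix.J (Fin m) (ZMod 2) * Matrix.J (Fin m) (ZMod 2) = 1 := by
  rw [Matrix.neg_mul, J_squared, neg_neg]

/-- The frame in degree `2m+2`. -/
def genFrame (m : ℕ) : Frame (2 * m + 2) (Fin m ⊕ Fin m) where
  B := genB m
  gram := Matrix.J (Fin m) (ZMod 2)
  inv := -Matrix.J (Fin m) (ZMod 2)
  gram_eq := gen_gram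
  inv_mul := gen_inv
  even := by
    rintro (k | k)
    · rw [← (Finset.sum_congr rfl fun i _ => mul_one (genB m i _)), dot_e (fun _ => 1)]; rfl
    · rw [← (Finset.sum_congr rfl fun i _ => mul_one (genB m i _)), dot_f (fun _ => 1),
        (pre_one (m := m) (by omega : k.val ≤ m)).1]; rfl
  perp := by
    intro d hd hB
    have hP : ∀ k, k ≤ m → pre d k = d (lastPt m) := by
      intro k hk
      rcases eq_or_lt_of_le hk with rfl | hk'
      · exact CharTwo.add_eq_zero.mp (by rw [← sum_eq_pre]; exact hd)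
      · exact CharTwo.add_eq_zero.mp (by rw [← dot_f d ⟨k, hk'⟩]; exact hB _)
    have hodd : ∀ k (hk : k < m), d ⟨2 * k + 1, by omega⟩ = d ⟨2 * k + 2, by omega⟩ := by
      intro k hk
      have := pre_succ d hk
      rw [hP k hk.le, hP (k + 1) hk, add_assoc] at this
      exact CharTwo.add_eq_zero.mp (by linear_combination -this)
    have heven : ∀ k (hk : k < m), d ⟨2 * k, by omega⟩ = d ⟨2 * k + 1, by omega⟩ := fun k hk =>
      CharTwo.add_eq_zero.mp (by rw [← dot_e d ⟨k, hk⟩]; exact hB _)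
    have hall : ∀ i (hi : i ≤ 2 * m), d ⟨i, by omega⟩ = d ⟨0, by omega⟩ := by
      intro i
      induction i with
      | zero => intro _; rfl
      | succ i ih =>
        intro hi
        rw [← ih (by omega)]
        rcases Nat.even_or_odd' i with ⟨k, rfl | rfl⟩
        · exact (heven k (by omega)).symm
        · exact (hodd k (by omega)).symm
    have h0 : ∀ i, d i = d ⟨0, by omega⟩ := by
      intro i
      by_cases hi : i.val ≤ 2 * m
      · exact hall i.val hi
      · rw [show i = lastPt m from Fin.ext (by have := i.isLt; simp only [lastPt]; omega),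
          ← hP 0 (Nat.zero_le _), pre_zero]
    intro i k
    rw [h0 i, h0 k]

/-- `S_(2m+2)` inside `Sp_2m(2)`. -/
def sympHom (m : ℕ) : Equiv.Perm (Fin (2 * m + 2)) →* Matrix.symplecticGroup (Fin m) (ZMod 2) :=
  (genFrame m).matHom.codRestrict _ fun σ =>
    SymplecticGroup.mem_iff'.mpr ((genFrame m).mat_gram σ)

theorem sympHom_injective {m : ℕ} (hm : 2 ≤ m) : Function.Injective (sympHom m) := fun σ τ e =>
  (genFrame m).matHom_injective (by omega) (congrArg Subtype.val e)

theorem nonempty_sp_four {F : Type*} [Field F] [Fintype F] (hF : Fintype.card F = 2) :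
    Nonempty (Matrix.symplecticGroup (Fin 2) F ≃* Equiv.Perm (Fin 6)) := by
  classical
  let e := ZMod.ringEquivOfPrime F Nat.prime_two hF
  let φ : Matrix.symplecticGroup (Fin 2) (ZMod 2) →* Matrix.symplecticGroup (Fin 2) F :=
    { toFun := fun A => ⟨A.1.map e.toRingHom, SymplecticGroup.map_mem A.2 e.toRingHom⟩
      map_one' := Subtype.ext (by simp [Matrix.map_one])
      map_mul' := fun A B => Subtype.ext Matrix.map_mul }
  have hφ : Function.Injective φ := fun A B h =>
    Subtype.ext (Matrix.map_injective e.injective (congrArg Subtype.val h))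
  have hinj := hφ.comp (sympHom_injective (m := 2) le_rfl)
  haveI : Finite (Matrix.symplecticGroup (Fin 2) F) := Subtype.finite
  refine ⟨(MulEquiv.ofBijective (φ.comp (sympHom 2)) (hinj.bijective_of_nat_card_le ?_)).symm⟩
  rw [CfsgLib.Symp.card_Sp, Nat.card_eq_fintype_card (α := F), hF]
  rw [Nat.card_perm, Nat.card_fin]
  rfl

/-- The frame for `O_4^-(2)`. -/
def frameFive : Frame 5 ((Fin 1 ⊕ Fin 1) ⊕ Fin 2) where
  B := Matrix.of fun i j => Sum.elim (Sum.elim (fun _ => ![1, 1, 1, 0, 1] i)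
    (fun _ => ![1, 1, 0, 1, 1] i)) (![![1, 1, 0, 0, 0] i, ![1, 0, 0, 0, 1] i]) j
  gram := Matrix.fromBlocks (Matrix.J (Fin 1) (ZMod 2)) 0 0 !![0, 1; 1, 0]
  inv := Matrix.fromBlocks (Matrix.J (Fin 1) (ZMod 2)) 0 0 !![0, 1; 1, 0]
  gram_eq := by decide
  inv_mul := by decide
  even := by decide
  perp := by decide +kernel

/-- The frame for `O_6^+(2)`. -/
def frameEight : Frame 8 (Fin 3 ⊕ Fin 3) where
  B := Matrix.of fun i j => Sum.elim
    ![![1, 1, 1, 1, 0, 0, 0, 0] i, ![1, 1, 0, 0, 0, 1, 1, 0] i, ![1, 0, 0, 1, 1, 1, 0, 0] i]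
    ![![1, 1, 1, 0, 1, 0, 0, 0] i, ![1, 0, 1, 0, 0, 1, 1, 0] i, ![1, 0, 0, 1, 1, 0, 1, 0] i] j
  gram := Matrix.J (Fin 3) (ZMod 2)
  inv := Matrix.J (Fin 3) (ZMod 2)
  gram_eq := by decide +kernel
  inv_mul := by decide +kernel
  even := by decide
  perp := by decide +kernel

/-- Half the weight, modulo two. -/
def halfWeight {N : ℕ} (v : Fin N → ZMod 2) : ZMod 2 :=
  (((Finset.univ.filter fun i => v i = 1).card / 2 : ℕ) : ZMod 2)

theorem halfWeight_perm {N : ℕ} (σ : Equiv.Perm (Fin N)) (v : Fin N → ZMod 2) :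
    halfWeight (v ∘ σ) = halfWeight v := by
  unfold halfWeight
  rw [Finset.card_equiv σ (t := Finset.univ.filter fun i => v i = 1) (by simp)]

theorem frameFive_invariant (σ : Equiv.Perm (Fin 5)) (c : (Fin 1 ⊕ Fin 1) ⊕ Fin 2 → ZMod 2) :
    Cfsg.quadFormMinus 1 (ZMod 2) 1 1 (frameFive.mat σ *ᵥ c) =
      Cfsg.quadFormMinus 1 (ZMod 2) 1 1 c := by
  refine frameFive.invariant halfWeight ?_ halfWeight_perm (fun v _ t ht => ?_) σ c
  · unfold Cfsg.quadFormMinus
    decide +kernel
  · rw [show ((5 : ℕ) : ZMod 2) = 1 from rfl, one_mul] at ht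
    simp [ht]

theorem frameEight_invariant (σ : Equiv.Perm (Fin 8)) (c : Fin 3 ⊕ Fin 3 → ZMod 2) :
    Cfsg.quadFormPlus 3 (ZMod 2) (frameEight.mat σ *ᵥ c) = Cfsg.quadFormPlus 3 (ZMod 2) c := by
  refine frameEight.invariant halfWeight ?_ halfWeight_perm (fun v hv t _ => ?_) σ c
  · unfold Cfsg.quadFormPlus
    decide +kernel
  · revert v t
    decide +kernel

/-- Transfer a faithful representation over `ZMod 2` to an isometry group. -/
theorem exists_iso_hom {F : Type*} [Field F] (e : ZMod 2 ≃+* F) {ι : Type} [Fintype ι]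
    [DecidableEq ι] {N : ℕ} [NeZero N] (D : Frame N ι) (h5 : 5 ≤ N) (Q : (ι → F) → F)
    (Q₂ : (ι → ZMod 2) → ZMod 2) (hQ : ∀ c, Q (fun i => e (c i)) = e (Q₂ c))
    (hinv : ∀ σ c, Q₂ (D.mat σ *ᵥ c) = Q₂ c) :
    ∃ f : Equiv.Perm (Fin N) →* Cfsg.isometryGroup F Q, Function.Injective f := by
  let g := (Units.map (e.toRingHom.mapMatrix (m := ι)).toMonoidHom).comp D.glHom
  refine ⟨g.codRestrict _ fun σ u _ => ?_, ?_⟩
  · change Q ((D.mat σ).map e *ᵥ u) = Q u
    obtain ⟨c, rfl⟩ : ∃ c : ι → ZMod 2, (fun i => e (c i)) = u :=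
      ⟨fun i => e.symm (u i), funext fun i => e.apply_symm_apply _⟩
    rw [show (D.mat σ).map e *ᵥ (fun i => e (c i)) = fun i => e ((D.mat σ *ᵥ c) i) from
      funext fun i => (RingHom.map_mulVec e.toRingHom _ c i).symm, hQ, hQ, hinv]
  · intro σ τ h
    exact D.matHom_injective h5
      (Matrix.map_injective e.injective (congrArg (fun x => ((x.1 : _) : Matrix ι ι F)) h))

theorem nonempty_minus_four {F : Type*} [Field F] [Fintype F] (hF : Fintype.card F = 2) :
    Nonempty (Cfsg.isometryGroup F (Cfsg.quadFormMinus 1 F 1 1) ≃* Equiv.Perm (Fin 5)) := by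
  classical
  let e := ZMod.ringEquivOfPrime F Nat.prime_two hF
  obtain ⟨f, hf⟩ := exists_iso_hom e frameFive le_rfl (Cfsg.quadFormMinus 1 F 1 1)
    (Cfsg.quadFormMinus 1 (ZMod 2) 1 1) (fun c => by simp only [Cfsg.quadFormMinus, map_add, map_mul, map_pow, map_one, map_sum])
    frameFive_invariant
  refine ⟨(MulEquiv.ofBijective f (hf.bijective_of_nat_card_le ?_)).symm⟩
  have hab : ∀ z₁ z₂ : F, z₁ ^ 2 + 1 * z₁ * z₂ + 1 * z₂ ^ 2 = 0 → z₁ = 0 ∧ z₂ = 0 := by
    intro z₁ z₂ h
    obtain ⟨x, rfl⟩ := e.surjective z₁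
    obtain ⟨y, rfl⟩ := e.surjective z₂
    have key : ∀ x y : ZMod 2, x ^ 2 + 1 * x * y + 1 * y ^ 2 = 0 → x = 0 ∧ y = 0 := by decide
    have := key x y (e.injective (by rw [map_zero, ← h]; simp only [map_add, map_mul, map_pow, map_one]))
    simp [this]
  rw [Nat.card_perm, Nat.card_fin, ← CfsgLib.Quad.minusQ_coe,
    Nat.card_congr (isoGroupEquiv _).toEquiv]
  have hc := card_oGroup_minus (q := Fintype.card F) Nat.card_eq_fintype_card hab 1
  rw [hF] at hc
  norm_num [Finset.prod_range_succ, Nat.factorial] at hc ⊢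
  omega

theorem nonempty_plus_six {F : Type*} [Field F] [Fintype F] (hF : Fintype.card F = 2) :
    Nonempty (Cfsg.isometryGroup F (Cfsg.quadFormPlus 3 F) ≃* Equiv.Perm (Fin 8)) := by
  classical
  let e := ZMod.ringEquivOfPrime F Nat.prime_two hF
  obtain ⟨f, hf⟩ := exists_iso_hom e frameEight (by norm_num) (Cfsg.quadFormPlus 3 F)
    (Cfsg.quadFormPlus 3 (ZMod 2)) (fun c => by simp [Cfsg.quadFormPlus])
    frameEight_invariant
  refine ⟨(MulEquiv.ofBijective f (hf.bijective_of_nat_card_le ?_)).symm⟩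
  rw [Nat.card_perm, Nat.card_fin, ← CfsgLib.Quad.plusQ_coe,
    Nat.card_congr (isoGroupEquiv _).toEquiv]
  have hc := card_oGroup_plus (F := F) (q := Fintype.card F) Nat.card_eq_fintype_card 2
  rw [hF] at hc
  norm_num [Finset.prod_range_succ, Nat.factorial] at hc ⊢
  change Nat.card (oGroup (plusQ (F := F) (2 + 1))) ≤ 40320
  omega

/-- If an isometry group is `S_n` then its `PΩ` is `A_n`. -/
theorem nonempty_pOmega_alt {F : Type*} [Field F] {ι : Type} [Fintype ι] [DecidableEq ι]
    {Q : (ι → F) → F} {N : ℕ} (h5 : 5 ≤ N) (e : Cfsg.isometryGroup F Q ≃* Equiv.Perm (Fin N)) :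
    Nonempty (Cfsg.POmega F Q ≃* alternatingGroup (Fin N)) := by
  have hmap : (commutator (Cfsg.isometryGroup F Q)).map e.toMonoidHom = alternatingGroup (Fin N) := by
    rw [← alternatingGroup.commutator_perm_eq (α := Fin N) (by simpa using h5), commutator_def,
      commutator_def, Subgroup.map_commutator,
      Subgroup.map_top_of_surjective e.toMonoidHom e.surjective]
  let E : commutator (Cfsg.isometryGroup F Q) ≃* alternatingGroup (Fin N) :=
    (e.subgroupMap _).trans (MulEquiv.subgroupCongr hmap)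
  have hbot : Subgroup.center (Cfsg.Omega F Q) = ⊥ := by
    rw [Subgroup.eq_bot_iff_forall]
    intro x hx
    have : E x ∈ Subgroup.center (alternatingGroup (Fin N)) :=
      Subgroup.mem_center_iff.mpr fun y => by
        rw [← E.apply_symm_apply y, ← map_mul, ← map_mul, Subgroup.mem_center_iff.mp hx]
    rw [alternatingGroup.center_eq_bot (α := Fin N) (by simp; omega), Subgroup.mem_bot] at this
    exact E.injective (by rw [this, map_one])
  exact ⟨((QuotientGroup.quotientMulEquivOfEq hbot).trans QuotientGroup.quotientBot).trans E⟩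

end CfsgLib.Quad.Heart
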