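import Cfsg.Agent.Forms.Quadratic
import Cfsg.Prelude.Def_Classical
import Mathlib.LinearAlgebra.QuadraticForm.Prod
import Mathlib.GroupTheory.Coset.Card

/-!
Orthogonal groups of quadratic forms: adding a hyperbolic plane; transport to matrix groups.
-/

set_option autoImplicit false
set_option linter.style.haveILetI false

namespace CfsgLib.Quad

open QuadraticMap CfsgLib.Forms

section general

variable {F V W : Type*} [Field F] [AddCommGroup V] [Module F V] [AddCommGroup W] [Module F W]

/-- The orthogonal group of a quadratic form. -/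
def oGroup (Q : QuadraticForm F V) : Subgroup (V ≃ₗ[F] V) where
  carrier := {g | ∀ v, Q (g v) = Q v}
  one_mem' := fun _ => rfl
  mul_mem' := fun {g h} hg hh v => by rw [LinearEquiv.mul_apply, hg, hh]
  inv_mem' := fun {g} hg v => by
    conv_rhs => rw [← LinearEquiv.apply_symm_apply g v, hg]
    rfl

theorem mem_oGroup {Q : QuadraticForm F V} {g : V ≃ₗ[F] V} :
    g ∈ oGroup Q ↔ ∀ v, Q (g v) = Q v := Iff.rfl

theorem polar_oGroup {Q : QuadraticForm F V} (g : oGroup Q) (u v : V) :
    polar Q (g.1 u) (g.1 v) = polar Q u v := by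
  simp only [polar, ← map_add, g.2 _]

/-- Isometric forms have isomorphic orthogonal groups. -/
def oGroupCongr {Q : QuadraticForm F V} {Q' : QuadraticForm F W} (e : V ≃ₗ[F] W)
    (he : ∀ v, Q' (e v) = Q v) : oGroup Q ≃* oGroup Q' where
  toFun g := ⟨(e.symm.trans g.1).trans e, fun w => by
    rw [LinearEquiv.trans_apply, LinearEquiv.trans_apply, he, g.2, ← he, e.apply_symm_apply]⟩
  invFun g := ⟨(e.trans g.1).trans e.symm, fun v => by
    rw [LinearEquiv.trans_apply, LinearEquiv.trans_apply, ← he, e.apply_symm_apply, g.2, he]⟩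
  left_inv g := Subtype.ext (LinearEquiv.ext fun v => by simp)
  right_inv g := Subtype.ext (LinearEquiv.ext fun v => by simp)
  map_mul' g h := Subtype.ext (LinearEquiv.ext fun v => by simp [LinearEquiv.mul_apply])

/-- The hyperbolic plane. -/
def hypPlane (F : Type*) [Field F] : QuadraticForm F (F × F) :=
  LinearMap.BilinMap.toQuadraticMap
    ((LinearMap.mul F F).compl₁₂ (LinearMap.fst F F F) (LinearMap.snd F F F))

theorem hypPlane_apply (p : F × F) : hypPlane F p = p.1 * p.2 := rfl

/-- Add a hyperbolic plane. -/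
def hypSum (Q : QuadraticForm F V) : QuadraticForm F ((F × F) × V) := (hypPlane F).prod Q

theorem hypSum_apply (Q : QuadraticForm F V) (p : (F × F) × V) :
    hypSum Q p = p.1.1 * p.1.2 + Q p.2 := rfl

theorem hypSum_polar (Q : QuadraticForm F V) (p r : (F × F) × V) :
    polar (hypSum Q) p r = p.1.1 * r.1.2 + r.1.1 * p.1.2 + polar Q p.2 r.2 := by
  simp only [polar, hypSum_apply, Prod.fst_add, Prod.snd_add]
  ring

theorem hypSum_nondeg {Q : QuadraticForm F V} (hQ : (polarBilin Q).Nondegenerate) :
    (polarBilin (hypSum Q)).Nondegenerate := by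
  have h1 : ∀ p, (∀ r, polar (hypSum Q) p r = 0) → p = 0 := by
    intro p hp
    have hx := hp ((0, 1), 0)
    have hy := hp ((1, 0), 0)
    rw [hypSum_polar] at hx hy
    simp only [polar_zero_right, mul_one, one_mul, zero_mul, mul_zero, add_zero, zero_add] at hx hy
    refine Prod.ext (Prod.ext hx hy) (hQ.1 p.2 fun v => ?_)
    have hv := hp ((0, 0), v)
    rw [hypSum_polar] at hv
    simpa using hv
  refine ⟨fun p hp => h1 p hp, fun p hp => h1 p fun r => ?_⟩
  rw [polar_comm]
  exact hp r

/-- The first hyperbolic vector. -/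
def e₀ : (F × F) × V := ((1, 0), 0)
/-- The second hyperbolic vector. -/
def f₀ : (F × F) × V := ((0, 1), 0)

/-- Singular pairs with polar value one. -/
abbrev HypPair (Q : QuadraticForm F V) : Type _ :=
  {p : V × V // Q p.1 = 0 ∧ Q p.2 = 0 ∧ polar Q p.1 p.2 = 1}

theorem card_hypPair [Finite F] [FiniteDimensional F V] {Q : QuadraticForm F V}
    (hQ : (polarBilin Q).Nondegenerate) {q n : ℕ} (hq : Nat.card F = q)
    (hn : Module.finrank F V = n + 2) :
    Nat.card (HypPair Q) = (Nat.card {v : V // Q v = 0} - 1) * q ^ n := by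
  classical
  haveI : Finite V := Module.finite_of_finite F
  haveI := Fintype.ofFinite V
  let e : HypPair Q ≃ Σ e : {v : V // Q v = 0 ∧ v ≠ 0}, {f : V // Q f = 0 ∧ polar Q e.1 f = 1} :=
    { toFun := fun p => ⟨⟨p.1.1, p.2.1, fun h => by
          have := p.2.2.2; rw [h, polar_zero_left] at this; exact zero_ne_one this⟩,
        ⟨p.1.2, p.2.2.1, p.2.2.2⟩⟩
      invFun := fun p => ⟨(p.1.1, p.2.1), p.1.2.1, p.2.2.1, p.2.2.2⟩
      left_inv := fun p => rfl
      right_inv := fun p => rfl }
  have hfib : ∀ e : {v : V // Q v = 0 ∧ v ≠ 0},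
      Nat.card {f : V // Q f = 0 ∧ polar Q e.1 f = 1} = q ^ n := by
    rintro ⟨e, he, he0⟩
    let φ : V →ₗ[F] F :=
      { toFun := fun f => polar Q e f
        map_add' := fun a b => polar_add_right Q e a b
        map_smul' := fun c a => by simp [polar_smul_right] }
    obtain ⟨f0, hf0⟩ : ∃ f0, φ f0 = 1 := by
      obtain ⟨u, -, hu⟩ := (polarForm Q).exists_perp_one (polarForm_nondeg hQ) (U := ⊥) (x := e)
        (by simpa using he0)
      exact ⟨u, hu⟩
    have hee : polar Q e e = 0 := by rw [polar_self, he, smul_zero]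
    -- the affine hyperplane is `F` times the singular points in it
    have e2 : {f : V // φ f = 1} ≃ F × {f : V // Q f = 0 ∧ polar Q e f = 1} :=
      { toFun := fun f => (Q f.1, ⟨f.1 - Q f.1 • e, by
          rw [sub_eq_add_neg, ← neg_smul, quad_add, quad_smul, he, polar_smul_right, smul_eq_mul,
            polar_comm, show polar Q e f.1 = 1 from f.2]
          ring, by
          rw [polar_sub_right, polar_smul_right, hee, show polar Q e f.1 = 1 from f.2, smul_zero,
            sub_zero]⟩)
        invFun := fun p => ⟨p.2.1 + p.1 • e, by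
          change polar Q e (p.2.1 + p.1 • e) = 1
          rw [polar_add_right, polar_smul_right, hee, smul_zero, add_zero, p.2.2.2]⟩
        left_inv := fun f => Subtype.ext (by simp)
        right_inv := fun p => by
          have h : Q (p.2.1 + p.1 • e) = p.1 := by
            rw [quad_add, quad_smul, he, p.2.2.1, polar_smul_right, smul_eq_mul, polar_comm,
              p.2.2.2]
            ring
          refine Prod.ext h (Subtype.ext ?_)
          simp only [h, add_sub_cancel_right] }
    have e3 : LinearMap.ker φ ≃ {f : V // φ f = 1} :=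
      { toFun := fun k => ⟨k.1 + f0, by rw [map_add, LinearMap.mem_ker.mp k.2, zero_add, hf0]⟩
        invFun := fun f => ⟨f.1 - f0, by rw [LinearMap.mem_ker, map_sub, f.2, hf0, sub_self]⟩
        left_inv := fun k => Subtype.ext (by simp)
        right_inv := fun f => Subtype.ext (by simp) }
    have hker : Module.finrank F (LinearMap.ker φ) = n + 1 := by
      have := φ.finrank_range_add_finrank_ker
      rw [LinearMap.range_eq_top.mpr (fun a => ⟨a • f0, by rw [map_smul, hf0, smul_eq_mul, mul_one]⟩),
        finrank_top, Module.finrank_self, hn] at this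
      omega
    have h1 := Nat.card_congr (e3.trans e2)
    rw [Module.natCard_eq_pow_finrank (K := F), hker, hq, Nat.card_prod, hq] at h1
    have hq0 : 0 < q := hq ▸ Nat.card_pos
    exact (Nat.eq_of_mul_eq_mul_left hq0 (by rw [← h1, pow_succ']))
  rw [Nat.card_congr e, Nat.card_sigma, Finset.sum_congr rfl fun e _ => hfib e, Finset.sum_const,
    Finset.card_univ, smul_eq_mul, ← Nat.card_eq_fintype_card]
  congr 1
  have h : Nat.card {v : V // Q v = 0} = Nat.card {v : V // Q v = 0 ∧ v ≠ 0} + 1 := by
    rw [← Finite.card_option]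
    exact Nat.card_congr
      { toFun := fun v => if h : v.1 = 0 then none else some ⟨v.1, v.2, h⟩
        invFun := fun o => o.elim ⟨0, QuadraticMap.map_zero Q⟩ fun v => ⟨v.1, v.2.1⟩
        left_inv := fun v => by by_cases h : v.1 = 0 <;> simp [h, Subtype.ext_iff]
        right_inv := fun o => by
          rcases o with _ | v
          · simp
          · simp [v.2.2] }
  omega

/-- `O(Q) → O(H ⊕ Q)`. -/
def oExtend (Q : QuadraticForm F V) : oGroup Q →* oGroup (hypSum Q) where
  toFun g := ⟨(LinearEquiv.refl F (F × F)).prodCongr g.1, fun p => by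
    simp [hypSum_apply, g.2 p.2]⟩
  map_one' := rfl
  map_mul' g h := rfl

theorem oExtend_injective (Q : QuadraticForm F V) : Function.Injective (oExtend Q) := by
  intro g h e
  refine Subtype.ext (LinearEquiv.ext fun v => ?_)
  exact congrArg Prod.snd (LinearEquiv.congr_fun (congrArg Subtype.val e) ((0, 0), v))

theorem mem_range_oExtend [FiniteDimensional F V] {Q : QuadraticForm F V}
    (hQ : (polarBilin Q).Nondegenerate) (g : oGroup (hypSum Q)) :
    g ∈ (oExtend Q).range ↔ g.1 e₀ = e₀ ∧ g.1 f₀ = f₀ := by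
  constructor
  · rintro ⟨h, rfl⟩
    exact ⟨Prod.ext rfl (map_zero h.1), Prod.ext rfl (map_zero h.1)⟩
  rintro ⟨he, hf⟩
  let T : V →ₗ[F] V := LinearMap.snd F (F × F) V ∘ₗ g.1.toLinearMap ∘ₗ LinearMap.inr F (F × F) V
  have h1 : ∀ v, g.1 ((0 : F × F), v) = ((0 : F × F), T v) := by
    intro v
    have hx := polar_oGroup g ((0 : F × F), v) f₀
    have hy := polar_oGroup g ((0 : F × F), v) e₀
    rw [hf, hypSum_polar, hypSum_polar] at hx
    rw [he, hypSum_polar, hypSum_polar] at hy
    simp [e₀, f₀] at hx hy
    refine Prod.ext (Prod.ext ?_ ?_) rfl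
    · simpa using hx
    · simpa using hy
  have hT : ∀ v, Q (T v) = Q v := by
    intro v
    have := g.2 ((0 : F × F), v)
    rw [h1] at this
    simpa [hypSum_apply] using this
  refine ⟨⟨quadEquiv hQ T hT, fun v => by rw [quadEquiv_apply]; exact hT v⟩, ?_⟩
  refine Subtype.ext (LinearEquiv.ext fun p => ?_)
  have hp : p = p.1.1 • e₀ + p.1.2 • f₀ + ((0 : F × F), p.2) := by simp [e₀, f₀]
  conv_rhs => rw [hp, map_add, map_add, map_smul, map_smul, he, hf, h1]
  change (p.1, T p.2) = _
  simp [e₀, f₀]

theorem card_oGroup_hypSum [Finite F] [FiniteDimensional F V] {Q : QuadraticForm F V}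
    (hQ : (polarBilin Q).Nondegenerate) {q n : ℕ} (hq : Nat.card F = q)
    (hn : Module.finrank F V = n) :
    Nat.card (oGroup (hypSum Q)) =
      (Nat.card {p : (F × F) × V // hypSum Q p = 0} - 1) * q ^ n * Nat.card (oGroup Q) := by
  have hn' : Module.finrank F ((F × F) × V) = n + 2 := by
    rw [Module.finrank_prod, Module.finrank_prod, Module.finrank_self, hn]; omega
  rw [← card_hypPair (hypSum_nondeg hQ) hq hn',
    Nat.card_congr (MonoidHom.ofInjective (oExtend_injective Q)).toEquiv]
  let K := (oExtend Q).range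
  let f : oGroup (hypSum Q) → HypPair (hypSum Q) := fun g => ⟨(g.1 e₀, g.1 f₀), by
    rw [g.2, hypSum_apply]; simp [e₀], by rw [g.2, hypSum_apply]; simp [f₀], by
    rw [polar_oGroup, hypSum_polar]; simp [e₀, f₀]⟩
  have hrel : ∀ g h : oGroup (hypSum Q), g⁻¹ * h ∈ K ↔ f g = f h := by
    intro g h
    rw [mem_range_oExtend hQ]
    simp only [f, Subtype.mk.injEq, Prod.mk.injEq, Subgroup.coe_mul, Subgroup.coe_inv,
      LinearEquiv.mul_apply]
    exact and_congr (g.1.symm_apply_eq.trans eq_comm) (g.1.symm_apply_eq.trans eq_comm)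
  have hsurj : Function.Surjective f := by
    rintro ⟨⟨e, f'⟩, he, hf, hef⟩
    have hind : ∀ a b : (F × F) × V, hypSum Q a = 0 → hypSum Q b = 0 →
        polar (hypSum Q) a b = 1 → LinearIndependent F ![a, b] := by
      intro a b ha hb hab
      rw [LinearIndependent.pair_iff]
      intro s t hst
      have h1 := congrArg (fun x => polar (hypSum Q) a x) hst
      have h2 := congrArg (fun x => polar (hypSum Q) b x) hst
      simp only [polar_add_right, polar_smul_right, polar_zero_right, polar_self, ha, hb,
        smul_eq_mul, mul_zero, zero_add, add_zero, hab, polar_comm (⇑(hypSum Q)) b a,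
        smul_zero, mul_one] at h1 h2
      exact ⟨h2, h1⟩
    obtain ⟨g, hg, hgv⟩ := quad_exists_map_family (hypSum_nondeg hQ) ![e₀, f₀] ![e, f']
      (hind _ _ (by simp [hypSum_apply, e₀]) (by simp [hypSum_apply, f₀])
        (by simp [hypSum_polar, e₀, f₀]))
      (hind _ _ he hf hef)
      (fun i => by fin_cases i <;> simp [hypSum_apply, e₀, f₀, he, hf] at *)
      (fun i j => by
        have hfe : polar (hypSum Q) f' e = 1 := by rw [polar_comm]; exact hef
        fin_cases i <;> fin_cases j <;>
          simp [polar_self, hypSum_apply, hypSum_polar, e₀, f₀, he, hf, hef, hfe] at *)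
    exact ⟨⟨g, hg⟩, Subtype.ext (Prod.ext (hgv 0) (hgv 1))⟩
  let φ : oGroup (hypSum Q) ⧸ K ≃ HypPair (hypSum Q) :=
    Equiv.ofBijective (Quotient.lift f fun g h e => (hrel g h).mp (QuotientGroup.leftRel_apply.mp e))
      ⟨fun x y => by
        induction x using Quotient.inductionOn with | h g =>
        induction y using Quotient.inductionOn with | h g' =>
        exact fun h => QuotientGroup.eq.mpr ((hrel g g').mpr h),
       fun x => by obtain ⟨g, hg⟩ := hsurj x; exact ⟨QuotientGroup.mk g, hg⟩⟩
  rw [Subgroup.card_eq_card_quotient_mul_card_subgroup K, Nat.card_congr φ]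

theorem card_zero_hypSum [Finite F] [Finite V] (Q : QuadraticForm F V) {q : ℕ}
    (hq : Nat.card F = q) :
    (Nat.card {p : (F × F) × V // hypSum Q p = 0} : ℤ) =
      (q - 1) * Nat.card V + q * Nat.card {v : V // Q v = 0} := by
  classical
  haveI := Fintype.ofFinite F
  haveI := Fintype.ofFinite V
  have e : {p : (F × F) × V // hypSum Q p = 0} ≃
      Σ v : V, {p : F × F // p.1 * p.2 + Q v = 0} :=
    { toFun := fun p => ⟨p.1.2, p.1.1, p.2⟩
      invFun := fun p => ⟨(p.2.1, p.1), p.2.2⟩
      left_inv := fun p => rfl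
      right_inv := fun p => rfl }
  have hfib : ∀ c : F, (Nat.card {p : F × F // p.1 * p.2 + c = 0} : ℤ) =
      ((q : ℤ) - 1) + if c = 0 then (q : ℤ) else 0 := by
    intro c
    have e1 : {p : F × F // p.1 * p.2 + c = 0} ≃
        {y : F // c = 0} ⊕ {x : F // x ≠ 0} :=
      { toFun := fun p => if h : p.1.1 = 0 then Sum.inl ⟨p.1.2, by simpa [h] using p.2⟩
          else Sum.inr ⟨p.1.1, h⟩
        invFun := Sum.elim (fun y => ⟨(0, y.1), by simp [y.2]⟩)
          (fun x => ⟨(x.1, -c / x.1), by rw [mul_div_cancel₀ _ x.2]; simp⟩)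
        left_inv := fun p => by
          by_cases h : p.1.1 = 0
          · simp only [dif_pos h, Sum.elim_inl]; exact Subtype.ext (Prod.ext h.symm rfl)
          · simp only [dif_neg h, Sum.elim_inr]
            refine Subtype.ext (Prod.ext rfl ?_)
            change -c / p.1.1 = p.1.2
            rw [div_eq_iff h]; linear_combination -p.2
        right_inv := fun s => by
          rcases s with y | x
          · simp
          · simp [x.2] }
    have hx : (Nat.card {x : F // x ≠ 0} : ℤ) = (q : ℤ) - 1 := by
      have h1 : 1 ≤ q := hq ▸ Nat.card_pos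
      rw [Nat.card_eq_fintype_card, Fintype.card_subtype_compl, Fintype.card_subtype_eq,
        ← Nat.card_eq_fintype_card, hq]
      push_cast [h1]; ring
    have hy : (Nat.card {y : F // c = 0} : ℤ) = if c = 0 then (q : ℤ) else 0 := by
      split_ifs with h
      · rw [Nat.card_congr (Equiv.subtypeUnivEquiv fun _ => h), hq]
      · haveI : IsEmpty {y : F // c = 0} := ⟨fun y => h y.2⟩
        simp
    rw [Nat.card_congr e1, Nat.card_sum, Nat.cast_add, hx, hy, add_comm]
  rw [Nat.card_congr e, Nat.card_sigma]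
  push_cast
  rw [Finset.sum_congr rfl fun v _ => hfib (Q v), Finset.sum_add_distrib, Finset.sum_const,
    ← Finset.sum_filter, Finset.sum_const, Finset.card_univ, nsmul_eq_mul, nsmul_eq_mul,
    Nat.card_eq_fintype_card, Nat.card_eq_fintype_card, Fintype.card_subtype]
  ring

end general

/-! Matrices -/

section matrices

open Matrix

variable {F : Type*} [Field F] {ι : Type} [Fintype ι] [DecidableEq ι]

/-- The matrix isometry group as linear automorphisms. -/
noncomputable def isoGroupEquiv (Q : QuadraticForm F (ι → F)) :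
    Cfsg.isometryGroup F ⇑Q ≃* oGroup Q where
  toFun g := ⟨LinearMap.GeneralLinearGroup.generalLinearEquiv F _
    (Matrix.GeneralLinearGroup.toLin g.1), fun v => g.2 v 0⟩
  invFun g := ⟨Matrix.GeneralLinearGroup.toLin.symm
    ((LinearMap.GeneralLinearGroup.generalLinearEquiv F _).symm g.1), fun u _ => by
      change Q ((LinearMap.toMatrix' g.1.toLinearMap) *ᵥ u) = Q u
      rw [LinearMap.toMatrix'_mulVec]; exact g.2 u⟩
  left_inv g := Subtype.ext (by simp)
  right_inv g := Subtype.ext (by simp)
  map_mul' g h := Subtype.ext (by simp)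

theorem card_isometryGroup {V : Type*} [AddCommGroup V] [Module F V] (Q : QuadraticForm F (ι → F))
    (Q' : QuadraticForm F V) (e : (ι → F) ≃ₗ[F] V) (he : ∀ v, Q' (e v) = Q v) :
    Nat.card (Cfsg.isometryGroup F ⇑Q) = Nat.card (oGroup Q') :=
  Nat.card_congr ((isoGroupEquiv Q).trans (oGroupCongr e he)).toEquiv

end matrices

end CfsgLib.Quad
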