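import Cfsg.Agent.Quad.OmegaMem

/-!
Commutator subgroups of orthogonal groups of orthogonal sums.
-/

set_option autoImplicit false
set_option linter.style.haveILetI false

namespace CfsgLib.Quad

open QuadraticMap

variable {F : Type*} [Field F]

/-- The orthogonal sum on coordinates. -/
def sumQ {α β : Type} (Q₁ : QuadraticForm F (α → F)) (Q₂ : QuadraticForm F (β → F)) :
    QuadraticForm F (α ⊕ β → F) :=
  Q₁.comp (LinearMap.funLeft F F Sum.inl) + Q₂.comp (LinearMap.funLeft F F Sum.inr)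

theorem sumQ_coe {α β : Type} (Q₁ : QuadraticForm F (α → F)) (Q₂ : QuadraticForm F (β → F)) :
    ⇑(sumQ Q₁ Q₂) = fun v : α ⊕ β → F => Q₁ (v ∘ Sum.inl) + Q₂ (v ∘ Sum.inr) := rfl

theorem polar_sumQ {α β : Type} (Q₁ : QuadraticForm F (α → F)) (Q₂ : QuadraticForm F (β → F))
    (u v : α ⊕ β → F) : polar (sumQ Q₁ Q₂) u v =
      polar Q₁ (u ∘ Sum.inl) (v ∘ Sum.inl) + polar Q₂ (u ∘ Sum.inr) (v ∘ Sum.inr) := by
  simp only [polar, sumQ_coe]
  rw [show (u + v) ∘ Sum.inl = u ∘ Sum.inl + v ∘ Sum.inl from rfl,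
    show (u + v) ∘ Sum.inr = u ∘ Sum.inr + v ∘ Sum.inr from rfl]
  ring

theorem elim_add_zero {α β : Type} (u v : α → F) :
    Sum.elim (u + v) (0 : β → F) = Sum.elim u 0 + Sum.elim v 0 := by
  funext k; rcases k with k | k <;> simp

theorem sumQ_nondeg {α β : Type} {Q₁ : QuadraticForm F (α → F)} {Q₂ : QuadraticForm F (β → F)}
    (h₁ : (polarBilin Q₁).Nondegenerate) (h₂ : (polarBilin Q₂).Nondegenerate) :
    (polarBilin (sumQ Q₁ Q₂)).Nondegenerate := by
  have key : ∀ x, (∀ y, polar (sumQ Q₁ Q₂) x y = 0) → x = 0 := by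
    intro x hx
    have e1 : x ∘ Sum.inl = 0 := h₁.1 _ fun y => by
      have := hx (Sum.elim y 0)
      rw [polar_sumQ, Sum.elim_comp_inl, Sum.elim_comp_inr, polar_zero_right, add_zero] at this
      exact this
    have e2 : x ∘ Sum.inr = 0 := h₂.1 _ fun y => by
      have := hx (Sum.elim 0 y)
      rw [polar_sumQ, Sum.elim_comp_inl, Sum.elim_comp_inr, polar_zero_right, zero_add] at this
      exact this
    funext k
    rcases k with k | k
    · exact congrFun e1 k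
    · exact congrFun e2 k
  exact ⟨fun x hx => key x hx, fun y hy => key y fun z => by rw [polar_comm]; exact hy z⟩

variable {α β : Type} [Fintype α] [DecidableEq α] [Fintype β] [DecidableEq β]
  (Q₁ : QuadraticForm F (α → F)) (Q₂ : QuadraticForm F (β → F))

/-- Extending an isometry of the first summand by the identity. -/
def extendLeft : oGroup Q₁ →* oGroup (sumQ Q₁ Q₂) where
  toFun g := ⟨{
      toFun := fun v => Sum.elim (g.1 (v ∘ Sum.inl)) (v ∘ Sum.inr)
      invFun := fun v => Sum.elim (g.1.symm (v ∘ Sum.inl)) (v ∘ Sum.inr)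
      map_add' := fun u v => by
        rw [show (u + v) ∘ Sum.inl = u ∘ Sum.inl + v ∘ Sum.inl from rfl,
          show (u + v) ∘ Sum.inr = u ∘ Sum.inr + v ∘ Sum.inr from rfl, map_add]
        funext k; rcases k with k | k <;> simp
      map_smul' := fun c v => by
        rw [show (c • v) ∘ Sum.inl = c • (v ∘ Sum.inl) from rfl,
          show (c • v) ∘ Sum.inr = c • (v ∘ Sum.inr) from rfl, map_smul]
        funext k; rcases k with k | k <;> simp
      left_inv := fun v => by simp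
      right_inv := fun v => by simp }, fun v => by
    show sumQ Q₁ Q₂ (Sum.elim (g.1 (v ∘ Sum.inl)) (v ∘ Sum.inr)) = sumQ Q₁ Q₂ v
    simp only [sumQ_coe, Sum.elim_comp_inl, Sum.elim_comp_inr]
    rw [g.2]⟩
  map_one' := Subtype.ext (LinearEquiv.ext fun v => Sum.elim_comp_inl_inr v)
  map_mul' g h := Subtype.ext (LinearEquiv.ext fun v => by
    show Sum.elim ((g * h).1 (v ∘ Sum.inl)) (v ∘ Sum.inr) =
      Sum.elim (g.1 ((Sum.elim (h.1 (v ∘ Sum.inl)) (v ∘ Sum.inr)) ∘ Sum.inl))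
        ((Sum.elim (h.1 (v ∘ Sum.inl)) (v ∘ Sum.inr)) ∘ Sum.inr)
    simp)

theorem extendLeft_apply (g : oGroup Q₁) (v : α ⊕ β → F) :
    (extendLeft Q₁ Q₂ g).1 v = Sum.elim (g.1 (v ∘ Sum.inl)) (v ∘ Sum.inr) := rfl

theorem extendLeft_refl (d : α → F) :
    extendLeft Q₁ Q₂ (refl Q₁ d) = refl (sumQ Q₁ Q₂) (Sum.elim d 0) := by
  refine Subtype.ext (LinearEquiv.ext fun v => ?_)
  rw [extendLeft_apply, refl_apply, refl_apply, polar_sumQ]
  simp only [sumQ_coe, Sum.elim_comp_inl, Sum.elim_comp_inr, polar_zero_right, QuadraticMap.map_zero,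
    add_zero]
  funext k
  rcases k with k | k <;> simp

variable [Finite F]

theorem extendLeft_mem_iff (h₁ : (polarBilin Q₁).Nondegenerate) (h₂ : (polarBilin Q₂).Nondegenerate)
    (hgen₁ : (∃ t : F, t ≠ 0 ∧ t ≠ 1) ∨ Module.finrank F (α → F) ≠ 4)
    (hgen : (∃ t : F, t ≠ 0 ∧ t ≠ 1) ∨ Module.finrank F (α ⊕ β → F) ≠ 4) (g : oGroup Q₁) :
    extendLeft Q₁ Q₂ g ∈ commutator (oGroup (sumQ Q₁ Q₂)) ↔ g ∈ commutator (oGroup Q₁) := by
  obtain ⟨vs, hvs, rfl⟩ := exists_reflProd h₁ hgen₁ g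
  have hmap : extendLeft Q₁ Q₂ (reflProd Q₁ vs) =
      reflProd (sumQ Q₁ Q₂) (vs.map fun d => Sum.elim d 0) := by
    rw [reflProd, map_list_prod, reflProd, List.map_map, List.map_map]
    congr 1
    exact List.map_congr_left fun d _ => extendLeft_refl Q₁ Q₂ d
  have hQ : ∀ d : α → F, sumQ Q₁ Q₂ (Sum.elim d 0) = Q₁ d := fun d => by
    simp [sumQ_coe]
  rw [hmap, reflProd_mem_commutator_iff h₁ hgen₁ hvs,
    reflProd_mem_commutator_iff (sumQ_nondeg h₁ h₂) hgen (fun v hv => by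
      obtain ⟨d, hd, rfl⟩ := List.mem_map.1 hv
      rw [hQ]; exact hvs d hd), List.length_map, List.map_map]
  simp only [Function.comp_def, hQ]

theorem sq_mem_commutator {V : Type*} [AddCommGroup V] [Module F V] [FiniteDimensional F V]
    {Q : QuadraticForm F V} (hQ : (polarBilin Q).Nondegenerate)
    (hgen : (∃ t : F, t ≠ 0 ∧ t ≠ 1) ∨ Module.finrank F V ≠ 4) (g : oGroup Q) :
    g * g ∈ commutator (oGroup Q) := by
  obtain ⟨vs, hvs, rfl⟩ := exists_reflProd hQ hgen g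
  rw [← reflProd_append, reflProd_mem_commutator_iff hQ hgen (List.forall_mem_append.2 ⟨hvs, hvs⟩),
    List.length_append, List.map_append, List.prod_append]
  exact ⟨⟨_, rfl⟩, IsSquare.mul_self _⟩

theorem diag_mem_commutator {Q : QuadraticForm F (α → F)} (hQ : (polarBilin Q).Nondegenerate)
    (hgen : (∃ t : F, t ≠ 0 ∧ t ≠ 1) ∨ Module.finrank F (α ⊕ α → F) ≠ 4) (g : oGroup Q) :
    ∃ x : oGroup (sumQ Q Q), x ∈ commutator (oGroup (sumQ Q Q)) ∧
      ∀ v, x.1 v = Sum.elim (g.1 (v ∘ Sum.inl)) (g.1 (v ∘ Sum.inr)) := by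
  let τ : oGroup (sumQ Q Q) := ⟨LinearEquiv.funCongrLeft F F (Equiv.sumComm α α), fun v => by
    show sumQ Q Q (v ∘ Equiv.sumComm α α) = sumQ Q Q v
    simp only [sumQ_coe]
    rw [add_comm]
    rfl⟩
  set x₁ := extendLeft Q Q g with hx₁
  refine ⟨x₁ * (τ * x₁ * τ⁻¹), ?_, fun v => ?_⟩
  · rw [show x₁ * (τ * x₁ * τ⁻¹) = x₁ * x₁ * (x₁⁻¹ * τ * x₁ * τ⁻¹) by group]
    refine mul_mem (sq_mem_commutator (sumQ_nondeg hQ hQ) hgen x₁) ?_
    have := Subgroup.commutator_mem_commutator (Subgroup.mem_top x₁⁻¹) (Subgroup.mem_top τ)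
    rw [← commutator_def, commutatorElement_def, inv_inv] at this
    exact this
  · show x₁.1 (τ.1 (x₁.1 (τ.1.symm v))) = _
    funext k
    rcases k with k | k <;> rfl

end CfsgLib.Quad
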