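import Cfsg.Agent.Quad.IsoCriterion
import Cfsg.Agent.Quad.SmallIso

/-!
The Klein correspondence: alternating `4 × 4` matrices and `plusQ 3`.
-/

set_option autoImplicit false
set_option linter.style.haveILetI false
set_option linter.flexible false

namespace CfsgLib.Quad

open QuadraticMap Matrix CfsgLib.Forms

variable {K : Type*} [Field K]

/-- Plücker coordinates to alternating matrices. -/
def klein : (Fin 3 ⊕ Fin 3 → K) →ₗ[K] Matrix (Fin 4) (Fin 4) K where
  toFun p :=
    !![0, p (Sum.inl 0), p (Sum.inl 1), p (Sum.inl 2);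
      -p (Sum.inl 0), 0, p (Sum.inr 2), -p (Sum.inr 1);
      -p (Sum.inl 1), -p (Sum.inr 2), 0, p (Sum.inr 0);
      -p (Sum.inl 2), p (Sum.inr 1), -p (Sum.inr 0), 0]
  map_add' u v := by ext i j; fin_cases i <;> fin_cases j <;> simp [add_comm]
  map_smul' c v := by ext i j; fin_cases i <;> fin_cases j <;> simp

/-- Read the coordinates off a matrix. -/
def kleinInv (X : Matrix (Fin 4) (Fin 4) K) : Fin 3 ⊕ Fin 3 → K :=
  Sum.elim ![X 0 1, X 0 2, X 0 3] ![X 2 3, -X 1 3, X 1 2]

theorem kleinInv_klein (p : Fin 3 ⊕ Fin 3 → K) : kleinInv (klein p) = p := by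
  funext i; rcases i with i | i <;> fin_cases i <;> simp [klein, kleinInv]

theorem klein_injective : Function.Injective (klein (K := K)) :=
  Function.LeftInverse.injective kleinInv_klein

theorem klein_congr_mem (g : Matrix (Fin 4) (Fin 4) K) (p : Fin 3 ⊕ Fin 3 → K) :
    klein (kleinInv (g * klein p * gᵀ)) = g * klein p * gᵀ := by
  ext i j
  fin_cases i <;> fin_cases j <;>
    simp [klein, kleinInv, Matrix.mul_apply, Fin.sum_univ_four] <;> ring

/-- The Pfaffian is multiplied by the determinant. -/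
theorem plusQ_kleinInv_congr (g : Matrix (Fin 4) (Fin 4) K) (p : Fin 3 ⊕ Fin 3 → K) :
    plusQ 3 (kleinInv (g * klein p * gᵀ)) = g.det * plusQ 3 p := by
  simp [plusQ_coe, Cfsg.quadFormPlus, klein, kleinInv, Matrix.mul_apply, Fin.sum_univ_four,
    Fin.sum_univ_three, Matrix.det_succ_row_zero, Fin.succAbove]
  ring

theorem plusQ_of_klein_eq {g : Matrix (Fin 4) (Fin 4) K} (hg : g.det = 1)
    {p r : Fin 3 ⊕ Fin 3 → K} (h : klein r = g * klein p * gᵀ) : plusQ 3 r = plusQ 3 p := by
  rw [← kleinInv_klein r, h, plusQ_kleinInv_congr, hg, one_mul]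

theorem eq_pm_of_congr_klein {g : Matrix (Fin 4) (Fin 4) K}
    (h : ∀ p, g * klein p * gᵀ = klein p) : g = 1 ∨ g = -1 := by
  have hE : ∀ i j : Fin 4, i ≠ j → ∀ a b : Fin 4,
      g a i * g b j - g a j * g b i =
        (if a = i ∧ b = j then (1 : K) else 0) - (if a = j ∧ b = i then (1 : K) else 0) := by
    intro i j hij a b
    have hp : klein (kleinInv (Matrix.single i j (1 : K) - Matrix.single j i 1)) =
        Matrix.single i j (1 : K) - Matrix.single j i 1 := by
      ext k l
      fin_cases i <;> fin_cases j <;> first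
        | exact absurd rfl hij
        | (fin_cases k <;> fin_cases l <;> simp [klein, kleinInv, Matrix.single_apply])
    have h1 := h (kleinInv (Matrix.single i j (1 : K) - Matrix.single j i 1))
    rw [hp] at h1
    have h2 := congrFun (congrFun h1 a) b
    simp [Matrix.mul_sub, Matrix.sub_mul, Matrix.sub_apply, Matrix.mul_apply, Matrix.single_apply,
      ite_and, sub_mul, Finset.sum_sub_distrib, ite_mul, Finset.sum_ite_eq, Finset.sum_ite_eq'] at h2
    simp only [eq_comm (a := a), eq_comm (a := b), ite_and]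
    linear_combination h2
  have hoff : ∀ i k : Fin 4, k ≠ i → g k i = 0 := by
    intro i k hki
    obtain ⟨j, hji, hjk⟩ : ∃ j : Fin 4, j ≠ i ∧ j ≠ k := by
      revert i k; decide
    have e1 := hE i j (Ne.symm hji) i j
    have e2 := hE i j (Ne.symm hji) i k
    have e3 := hE i j (Ne.symm hji) j k
    simp [hji, Ne.symm hji, Ne.symm hjk, hki, Ne.symm hki] at e1 e2 e3
    linear_combination (-g k i) * e1 + g j i * e2 - g i i * e3
  have hd : ∀ i j : Fin 4, i ≠ j → g i i * g j j = 1 := by
    intro i j hij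
    have e1 := hE i j hij i j
    simp [hij, Ne.symm hij, hoff j i hij, hoff i j (Ne.symm hij)] at e1
    exact e1
  have heq : ∀ i, g i i = g 0 0 := by
    intro i
    rcases eq_or_ne i 0 with rfl | hi
    · rfl
    obtain ⟨j, hji, hj0⟩ : ∃ j : Fin 4, j ≠ i ∧ j ≠ 0 := by
      revert i; decide
    have h1 := hd i j (Ne.symm hji)
    have h3 := hd 0 j (Ne.symm hj0)
    have hne : g j j ≠ 0 := fun e => by rw [e, mul_zero] at h1; exact zero_ne_one h1
    exact mul_right_cancel₀ hne (h1.trans h3.symm)
  have hsq : g 0 0 * g 0 0 = 1 := by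
    have := hd 0 1 (by decide)
    rwa [heq 1] at this
  rcases mul_self_eq_one_iff.mp hsq with e | e
  · left; ext i j
    rcases eq_or_ne i j with rfl | hij
    · rw [heq, e, Matrix.one_apply_eq]
    · rw [hoff j i hij, Matrix.one_apply_ne hij]
  · right; ext i j
    rcases eq_or_ne i j with rfl | hij
    · rw [heq, e, Matrix.neg_apply, Matrix.one_apply_eq]
    · rw [hoff j i hij, Matrix.neg_apply, Matrix.one_apply_ne hij, neg_zero]

theorem congr_klein_of_pm {g : Matrix (Fin 4) (Fin 4) K} (h : g = 1 ∨ g = -1)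
    (X : Matrix (Fin 4) (Fin 4) K) : g * X * gᵀ = X := by
  rcases h with rfl | rfl <;> simp

variable (F : Type*) [Field F] [Finite F]

/-- The Klein homomorphism `SL_4(q) → O_6^+(q)`: image and kernel. -/
theorem exists_klein_hom :
    ∃ f : Matrix.SpecialLinearGroup (Fin 4) F →* oGroup (plusQ (F := F) 3),
      f.range = commutator (oGroup (plusQ (F := F) 3)) ∧ commutator (Matrix.SpecialLinearGroup (Fin 4) F) = ⊤ ∧
        ∀ g, f g = 1 → g ∈ Subgroup.center (Matrix.SpecialLinearGroup (Fin 4) F) ∧ g * g = 1 := by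
  classical
  haveI := Fintype.ofFinite F
  haveI := finite_oGroup (plusQ (F := F) 3)
  set S := Matrix.SpecialLinearGroup (Fin 4) F
  let act := congrAct (F := F) (slVal (Fin 4) F) (slVal (Fin 4) F)
  have hstab : ∀ g v, ∃ w, klein (K := F) w = act g (klein v) := fun g v =>
    ⟨_, klein_congr_mem g.1 v⟩
  have hQ : ∀ g v w, klein (K := F) w = act g (klein v) → plusQ 3 w = plusQ 3 v :=
    fun g v w e => plusQ_of_klein_eq g.2 e
  let f := repO act klein klein_injective hstab hQ
  have hker : ∀ g : S, f g = 1 ↔ ((g.1 : Matrix (Fin 4) (Fin 4) F) = 1 ∨ (g.1 : Matrix _ _ F) = -1) := by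
    intro g
    rw [repO_eq_one_iff]
    exact ⟨eq_pm_of_congr_klein, fun h v => congr_klein_of_pm h _⟩
  have hcenter : ∀ g, f g = 1 → g ∈ Subgroup.center S ∧ g * g = 1 := fun g hg =>
    mem_center_of_eq_pm ((hker g).mp hg)
  have hperf : commutator S = ⊤ := CfsgLib.Linear.commutator_SL_eq_top (Or.inl (by simp))
  have hneg : (-1 : Matrix (Fin 4) (Fin 4) F).det = 1 := by
    rw [Matrix.det_neg, Matrix.det_one, Fintype.card_fin]; norm_num
  have hcases : ∀ g : f.ker, g.1 = 1 ∨ g.1 = ⟨-1, hneg⟩ := fun g =>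
    ((hker g.1).mp g.2).imp (fun e => Subtype.ext e) fun e => Subtype.ext e
  have hq1 : 1 ≤ Fintype.card F := Fintype.card_pos
  have hSL := CfsgLib.Linear.card_SL_mul (F := F) rfl 4 (by norm_num)
  have hO := card_oGroup_plus (F := F) (q := Fintype.card F) Nat.card_eq_fintype_card 2
  have hmain : 2 * Nat.card S = Nat.card (oGroup (plusQ (F := F) 3)) := by
    set q := Fintype.card F with hqdef
    refine Nat.eq_of_mul_eq_mul_left (show 0 < q - 1 by
      have : 1 < q := Fintype.one_lt_card
      omega) ?_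
    rw [mul_left_comm, hSL]
    simp only [Fin.prod_univ_four, Fin.val_zero, Fin.val_one, Fin.val_two,
      show ((3 : Fin 4) : ℕ) = 3 from rfl]
    have h0 : q ^ 0 ≤ q ^ 4 := Nat.pow_le_pow_right hq1 (by norm_num)
    have h1 : q ^ 1 ≤ q ^ 4 := Nat.pow_le_pow_right hq1 (by norm_num)
    have h2 : q ^ 2 ≤ q ^ 4 := Nat.pow_le_pow_right hq1 (by norm_num)
    have h3 : q ^ 3 ≤ q ^ 4 := Nat.pow_le_pow_right hq1 (by norm_num)
    apply Nat.cast_injective (R := ℤ)
    push_cast [h0, h1, h2, h3, hq1]
    rw [hO, Finset.prod_range_succ, Finset.prod_range_one]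
    push_cast
    ring
  have hrange : f.range = commutator (oGroup (plusQ (F := F) 3)) := by
    by_cases h2 : (2 : F) = 0
    · refine range_eq_commutator_perfect f hperf ?_
      have hk : Nat.card f.ker = 1 := by
        rw [Subgroup.card_eq_one, Subgroup.eq_bot_iff_forall]
        intro g hg
        rcases hcases ⟨g, hg⟩ with e | e
        · exact e
        · refine (show g = _ from e).trans (Subtype.ext ?_)
          have h11 : (-1 : F) = 1 := by linear_combination -h2
          ext i j
          rcases eq_or_ne i j with rfl | hij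
          · simp [h11]
          · simp [Matrix.one_apply_ne hij]
      rw [hk, one_mul]; exact hmain
    · refine range_eq_commutator_odd (plusQ_nondeg 3) h2 (by simp) f (sqGen_of_perfect hperf) ?_
      have hk : Nat.card f.ker = 2 := by
        refine Nat.card_eq_two_iff.mpr ⟨1, ⟨⟨-1, hneg⟩, (hker _).mpr (Or.inr rfl)⟩, ?_, ?_⟩
        · intro e
          have := congrArg (fun g : f.ker => (g.1.1 : Matrix (Fin 4) (Fin 4) F) 0 0) e
          simp at this
          exact h2 (by linear_combination this)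
        · refine Set.eq_univ_iff_forall.mpr fun g => ?_
          rcases hcases g with e | e
          · exact Or.inl (Subtype.ext e)
          · exact Or.inr (Subtype.ext e)
      rw [hk, show 4 = 2 * 2 from rfl, mul_assoc, hmain]
  exact ⟨f, hrange, hperf, hcenter⟩

/-- `POmega_6^+(q) ≅ PSL_4(q)`. -/
theorem nonempty_pOmega_six_plus :
    Nonempty (Cfsg.POmega F ⇑(plusQ (F := F) 3) ≃*
      Matrix.ProjectiveSpecialLinearGroup (Fin 4) F) := by
  obtain ⟨f, hrange, hperf, hcenter⟩ := exists_klein_hom F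
  obtain ⟨e⟩ := nonempty_central_quotient f hrange (sqGen_of_perfect hperf) hcenter
  exact ⟨(pOmegaEquiv _).trans e⟩

end CfsgLib.Quad
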