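import Cfsg.Agent.Quad.IndexTwo

/-!
The parity homomorphism of an orthogonal group generated by reflections; characteristic two.
-/

set_option autoImplicit false
set_option linter.style.haveILetI false

namespace CfsgLib.Quad

open QuadraticMap CfsgLib.Forms

variable {F V : Type*} [Field F] [AddCommGroup V] [Module F V] [FiniteDimensional F V]
  {Q : QuadraticForm F V} (hQ : (polarBilin Q).Nondegenerate)

include hQ

theorem exists_parity (hgen : (∃ t : F, t ≠ 0 ∧ t ≠ 1) ∨ Module.finrank F V ≠ 4) :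
    ∃ ε : oGroup Q →* ℤˣ, ∀ v, Q v ≠ 0 → ε (refl Q v) = -1 := by
  set e : oGroup Q → ℤˣ := fun g =>
    (-1) ^ (Module.finrank F V + Module.finrank F (fixSp g)) with he
  have hone : e 1 = 1 := by
    have htop : fixSp (1 : oGroup Q) = ⊤ := Submodule.eq_top_iff'.mpr fun x => mem_fixSp.mpr rfl
    simp only [he]
    rw [show Module.finrank F (fixSp (1 : oGroup Q)) = Module.finrank F V by rw [htop, finrank_top]]
    exact Even.neg_one_pow ⟨_, rfl⟩
  have hstep : ∀ (d : V) (g : oGroup Q), Q d ≠ 0 → e (refl Q d * g) = -e g := by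
    intro d g hd
    simp only [he]
    rcases finrank_fixSp_refl_mul hQ g hd with h | h
    · rw [h, ← Nat.add_assoc, pow_succ, mul_neg_one]
    · rw [← h, ← Nat.add_assoc, pow_succ, mul_neg_one, neg_neg]
  have hrefl : ∀ d, Q d ≠ 0 → e (refl Q d) = -1 := fun d hd => by
    have := hstep d 1 hd
    rwa [mul_one, hone] at this
  have hmul : ∀ g h : oGroup Q, e (g * h) = e g * e h := by
    intro g h
    have hg : g ∈ reflGroup Q := by rw [reflGroup_eq_top hQ hgen]; trivial
    have key : ∀ d (y : oGroup Q), e (y * h) = e y * e h →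
        e (refl Q d * y * h) = e (refl Q d * y) * e h := by
      intro d y hy
      by_cases hd : Q d = 0
      · rwa [refl_eq_one hd, one_mul]
      · rw [mul_assoc, hstep d _ hd, hstep d y hd, hy, neg_mul]
    induction hg using Subgroup.closure_induction_left with
    | one => rw [one_mul, hone, one_mul]
    | mul_left x hx y _ hy => obtain ⟨d, rfl⟩ := hx; exact key d y hy
    | inv_mul_cancel x hx y _ hy => obtain ⟨d, rfl⟩ := hx; rw [refl_inv]; exact key d y hy
  exact ⟨MonoidHom.mk' e hmul, hrefl⟩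

omit [FiniteDimensional F V] hQ in
theorem isSquare_char_two [Finite F] [CharP F 2] (a : F) : IsSquare a :=
  FiniteField.isSquare_of_char_two (ringChar.eq F 2) a

theorem mem_commutator_char_two [Finite F] [CharP F 2] {ε : oGroup Q →* ℤˣ}
    (hgen : (∃ t : F, t ≠ 0 ∧ t ≠ 1) ∨ Module.finrank F V ≠ 4)
    (hε : ∀ v, Q v ≠ 0 → ε (refl Q v) = -1) {N : Subgroup (oGroup Q)}
    (hN : ∀ u v, Q u ≠ 0 → Q v ≠ 0 → refl Q u * refl Q v ∈ N) {g : oGroup Q}
    (hg : ε g = 1) : g ∈ N := by
  have hle : pairGroup Q ≤ N ⊓ ε.ker := by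
    refine (Subgroup.closure_le _).mpr ?_
    rintro _ ⟨u, v, hu, hv, rfl⟩
    refine ⟨hN u v hu hv, ?_⟩
    change ε _ = 1
    rw [map_mul, hε u hu, hε v hv, Int.units_mul_self]
  have hg' : g ∈ reflGroup Q := by rw [reflGroup_eq_top hQ hgen]; trivial
  rcases mem_pairs_or hg' with h | ⟨v, hv, h⟩
  · exact (hle h).1
  · exfalso
    have : ε (refl Q v * g) = 1 := (hle h).2
    rw [map_mul, hε v hv, hg] at this
    exact absurd this (by decide)

theorem commutator_char_two [Finite F] [CharP F 2] {ε : oGroup Q →* ℤˣ}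
    (hgen : (∃ t : F, t ≠ 0 ∧ t ≠ 1) ∨ Module.finrank F V ≠ 4)
    (hε : ∀ v, Q v ≠ 0 → ε (refl Q v) = -1) : commutator (oGroup Q) = ε.ker :=
  le_antisymm (Abelianization.commutator_subset_ker ε) fun _ hg =>
    mem_commutator_char_two hQ hgen hε
      (fun _ _ hu hv => refl_pair_mem_commutator hQ hu hv (isSquare_char_two _)) hg

theorem index_commutator_char_two [Finite F] [CharP F 2] (hn : 1 ≤ Module.finrank F V)
    (hgen : (∃ t : F, t ≠ 0 ∧ t ≠ 1) ∨ Module.finrank F V ≠ 4) :
    (commutator (oGroup Q)).index = 2 := by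
  obtain ⟨ε, hε⟩ := exists_parity hQ hgen
  obtain ⟨v, hv⟩ := exists_aniso hQ hn
  rw [commutator_char_two hQ hgen hε]
  exact index_ker_units ε (g := refl Q v) (by rw [hε v hv]; decide)

theorem existsUnique_index_two_char_two [Finite F] [CharP F 2] (hn : 1 ≤ Module.finrank F V)
    (hgen : (∃ t : F, t ≠ 0 ∧ t ≠ 1) ∨ Module.finrank F V ≠ 4) :
    ∃! H : Subgroup ↥(detO Q).ker, H.index = 2 := by
  obtain ⟨ε, hε⟩ := exists_parity hQ hgen
  obtain ⟨v, hv⟩ := exists_aniso hQ hn
  have htop : (detO Q).ker = ⊤ := by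
    refine eq_top_iff.mpr fun g _ => Units.ext ?_
    rcases detO_eq_or hQ g with h | h
    · rw [h]; rfl
    · rw [h, CharTwo.neg_eq]; rfl
  refine existsUnique_index_two_congr ((MulEquiv.subgroupCongr htop).trans Subgroup.topEquiv) ?_
  have hk : ε.ker.index = 2 := index_ker_units ε (g := refl Q v) (by rw [hε v hv]; decide)
  refine ⟨ε.ker, hk, fun H hH => eq_of_le_index_two hH hk fun g hg => ?_⟩
  refine mem_commutator_char_two hQ hgen hε (fun a b ha hb => ?_) hg
  obtain ⟨c, hc⟩ := exists_conj_refl hQ ha hb (isSquare_char_two _)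
  haveI : H.Normal := Subgroup.normal_of_index_eq_two hH
  rw [Subgroup.mul_mem_iff_of_index_two hH]
  exact ⟨fun h => hc ▸ Subgroup.Normal.conj_mem inferInstance _ h c, fun h => by
    have := Subgroup.Normal.conj_mem (H := H) inferInstance _ h c⁻¹
    rw [← hc] at this; simpa [mul_assoc] using this⟩

end CfsgLib.Quad
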