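import Cfsg.Agent.Quad.Spinor
import Mathlib.GroupTheory.Commutator.Basic

/-!
The commutator subgroup of a finite orthogonal group and the subgroups of index two.
-/

set_option autoImplicit false
set_option linter.style.haveILetI false

namespace CfsgLib.Quad

open QuadraticMap CfsgLib.Forms

theorem commutator_map_equiv {G G' : Type*} [Group G] [Group G'] (e : G ≃* G') :
    (commutator G).map e.toMonoidHom = commutator G' := by
  rw [map_commutator_eq, MonoidHom.range_eq_top.mpr e.surjective, commutator_def]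

theorem mem_commutator_equiv {G G' : Type*} [Group G] [Group G'] (e : G ≃* G') (g : G) :
    e g ∈ commutator G' ↔ g ∈ commutator G := by
  rw [← commutator_map_equiv e]
  exact Subgroup.mem_map_iff_mem e.injective

theorem index_commutator_equiv {G G' : Type*} [Group G] [Group G'] (e : G ≃* G') :
    (commutator G).index = (commutator G').index := by
  rw [← commutator_map_equiv e]
  exact (Subgroup.index_map_equiv _ e).symm

theorem existsUnique_index_two_congr {G G' : Type*} [Group G] [Group G'] (e : G ≃* G')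
    (h : ∃! H : Subgroup G', H.index = 2) : ∃! H : Subgroup G, H.index = 2 := by
  obtain ⟨H, hH, huniq⟩ := h
  refine ⟨H.map e.symm.toMonoidHom, (Subgroup.index_map_equiv H e.symm).trans hH, fun K hK => ?_⟩
  rw [← huniq (K.map e.toMonoidHom) ((Subgroup.index_map_equiv K e).trans hK), Subgroup.map_map]
  convert (Subgroup.map_id K).symm
  exact MonoidHom.ext fun x => e.symm_apply_apply x

/-- A hom onto `±1` has kernel of index two. -/
theorem index_ker_units {G : Type*} [Group G] (φ : G →* ℤˣ) {g : G} (hg : φ g ≠ 1) :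
    φ.ker.index = 2 := by
  rw [Subgroup.index_ker, MonoidHom.range_eq_top.mpr fun x => ?_, Subgroup.card_top]
  · rw [Nat.card_eq_fintype_card]; rfl
  · rcases Int.units_eq_one_or x with rfl | rfl
    · exact ⟨1, map_one φ⟩
    · exact ⟨g, (Int.units_eq_one_or (φ g)).resolve_left hg⟩

/-- A subgroup of index two inside one of the same index equals it. -/
theorem eq_of_le_index_two {G : Type*} [Group G] {H K : Subgroup G} (hH : H.index = 2)
    (hK : K.index = 2) (h : K ≤ H) : H = K := by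
  have h1 := Subgroup.relIndex_mul_index h
  rw [hH, hK] at h1
  exact le_antisymm (Subgroup.relIndex_eq_one.mp (by omega)) h

variable {F V : Type*} [Field F] [AddCommGroup V] [Module F V] [FiniteDimensional F V] [Finite F]
  {Q : QuadraticForm F V} (hQ : (polarBilin Q).Nondegenerate)

include hQ

omit [Finite F] in
theorem refl_pair_mem_commutator {u v : V} (hu : Q u ≠ 0) (hv : Q v ≠ 0)
    (h : IsSquare (Q u * Q v)) : refl Q u * refl Q v ∈ commutator (oGroup Q) := by
  obtain ⟨g, hg⟩ := exists_conj_refl hQ hv hu (by rwa [mul_comm])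
  rw [← hg]
  have := Subgroup.commutator_mem_commutator (Subgroup.mem_top g) (Subgroup.mem_top (refl Q v))
  rw [← commutator_def, commutatorElement_def, refl_inv] at this
  exact this

theorem mem_commutator_iff (h2 : (2 : F) ≠ 0) (hn : 2 ≤ Module.finrank F V) {θ : oGroup Q →* ℤˣ}
    (hθ : ∀ v, Q v ≠ 0 → (θ (refl Q v) = 1 ↔ IsSquare (Q v))) (g : oGroup Q) :
    g ∈ commutator (oGroup Q) ↔ detO Q g = 1 ∧ θ g = 1 := by
  have hle : commutator (oGroup Q) ≤ (detSign hQ h2).ker ⊓ θ.ker :=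
    le_inf (Abelianization.commutator_subset_ker _) (Abelianization.commutator_subset_ker _)
  refine ⟨fun hg => ⟨detSign_eq_one.mp (hle hg).1, (hle hg).2⟩, fun h => ?_⟩
  exact mem_of_pairs hQ h2 hn hθ (fun u v hu hv huv => refl_pair_mem_commutator hQ hu hv huv) hle
    h.1 h.2

/-- Vectors with square and non-square values. -/
theorem exists_classes (h2 : (2 : F) ≠ 0) (hn : 2 ≤ Module.finrank F V) :
    ∃ a b, Q a ≠ 0 ∧ Q b ≠ 0 ∧ IsSquare (Q a) ∧ ¬IsSquare (Q b) := by
  haveI := Fintype.ofFinite F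
  obtain ⟨ν, hν⟩ := FiniteField.exists_nonsquare (F := F) (fun e => h2 (by
    have := ringChar.Nat.cast_ringChar (R := F)
    rw [e] at this
    exact_mod_cast this))
  obtain ⟨a, ha⟩ := exists_value hQ h2 hn (1 : F)
  obtain ⟨b, hb⟩ := exists_value hQ h2 hn ν
  exact ⟨a, b, ha ▸ one_ne_zero, hb ▸ fun e => hν (e ▸ ⟨0, by ring⟩), ha ▸ IsSquare.one, hb ▸ hν⟩

theorem index_commutator_odd (h2 : (2 : F) ≠ 0) (hn : 2 ≤ Module.finrank F V) :
    (commutator (oGroup Q)).index = 4 := by
  obtain ⟨θ, hθ⟩ := exists_spinor hQ h2 hn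
  obtain ⟨a, b, ha, hb, haS, hbS⟩ := exists_classes hQ h2 hn
  have ta : θ (refl Q a) = 1 := (hθ a ha).mpr haS
  have tb : θ (refl Q b) = -1 :=
    (Int.units_eq_one_or _).resolve_left fun e => hbS ((hθ b hb).mp e)
  set φ : oGroup Q →* ℤˣ × ℤˣ := (detSign hQ h2).prod θ with hφ
  have hker : commutator (oGroup Q) = φ.ker := by
    ext g
    rw [mem_commutator_iff hQ h2 hn hθ, MonoidHom.mem_ker, hφ, MonoidHom.prod_apply,
      Prod.mk_eq_one, detSign_eq_one]
  rw [hker, Subgroup.index_ker, MonoidHom.range_eq_top.mpr ?_, Subgroup.card_top, Nat.card_prod,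
    Nat.card_eq_fintype_card]
  · rfl
  rintro ⟨x, y⟩
  rcases Int.units_eq_one_or x with rfl | rfl <;> rcases Int.units_eq_one_or y with rfl | rfl
  · exact ⟨1, map_one φ⟩
  · exact ⟨refl Q a * refl Q b, by simp [hφ, detSign_refl, ha, hb, ta, tb]⟩
  · exact ⟨refl Q a, by simp [hφ, detSign_refl, ha, ta]⟩
  · exact ⟨refl Q b, by simp [hφ, detSign_refl, hb, tb]⟩

omit [Finite F] in
/-- A product of two reflections of one class is the square of such a product. -/
theorem exists_sq_eq (h2 : (2 : F) ≠ 0) {u v : V} (hu : Q u ≠ 0) (hv : Q v ≠ 0)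
    (h : IsSquare (Q u * Q v)) :
    ∃ x, detO Q x = 1 ∧ x * x = refl Q u * refl Q v := by
  obtain ⟨r, hr⟩ := h
  have hr0 : r ≠ 0 := fun e => mul_ne_zero hu hv (by rw [hr, e, mul_zero])
  set v1 := (r / Q v) • v with hv1
  have hQv1 : Q v1 = Q u := by
    rw [hv1, quad_smul]; field_simp; rw [pow_two, ← hr]; ring
  have hrv : refl Q v = refl Q v1 := (refl_smul (div_ne_zero hr0 hv) v).symm
  obtain ⟨w, hw, hwu⟩ : ∃ w, Q w ≠ 0 ∧ refl Q w * refl Q u * refl Q w = refl Q v1 := by
    have hconj : ∀ w, refl Q w * refl Q u * refl Q w = refl Q ((refl Q w).1 u) := fun w => by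
      conv_rhs => rw [← refl_conj, refl_inv]
    by_cases h1 : Q (v1 - u) = 0
    · have h3 : Q (v1 - -u) ≠ 0 := by
        intro h3
        refine hu ((mul_eq_zero.mp (?_ : (2 * 2 : F) * Q u = 0)).resolve_left (mul_ne_zero h2 h2))
        rw [sub_neg_eq_add, quad_add] at h3
        rw [sub_eq_add_neg, quad_add, QuadraticMap.map_neg, polar_neg_right] at h1
        linear_combination h1 + h3 - 2 * hQv1
      refine ⟨v1 - -u, h3, ?_⟩
      have h4 := refl_map (Q := Q) (show Q (-u) = Q v1 by rw [QuadraticMap.map_neg, hQv1]) h3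
      have h5 : (refl Q (v1 - -u)).1 u = (-1 : F) • v1 := by
        rw [map_neg] at h4
        rw [neg_one_smul]; exact neg_eq_iff_eq_neg.mp h4
      rw [hconj, h5, refl_smul (neg_ne_zero.mpr one_ne_zero)]
    · exact ⟨v1 - u, h1, by rw [hconj, refl_map hQv1.symm h1]⟩
  refine ⟨refl Q u * refl Q w, ?_, ?_⟩
  · exact Units.ext (by rw [map_mul, Units.val_mul, detO_refl hu, detO_refl hw]; simp)
  · rw [hrv, ← hwu]; simp only [mul_assoc]

theorem existsUnique_index_two_odd (h2 : (2 : F) ≠ 0) (hn : 2 ≤ Module.finrank F V) :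
    ∃! H : Subgroup ↥(detO Q).ker, H.index = 2 := by
  obtain ⟨θ, hθ⟩ := exists_spinor hQ h2 hn
  obtain ⟨a, b, ha, hb, haS, hbS⟩ := exists_classes hQ h2 hn
  set ψ : (detO Q).ker →* ℤˣ := θ.comp (detO Q).ker.subtype with hψ
  have hab : refl Q a * refl Q b ∈ (detO Q).ker := MonoidHom.mem_ker.mpr
    (Units.ext (by rw [map_mul, Units.val_mul, detO_refl ha, detO_refl hb]; simp))
  have hψab : ψ ⟨_, hab⟩ ≠ 1 := by
    change θ (refl Q a * refl Q b) ≠ 1
    rw [map_mul, (hθ a ha).mpr haS, one_mul]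
    exact fun e => hbS ((hθ b hb).mp e)
  refine ⟨ψ.ker, index_ker_units ψ hψab, fun H hH => eq_of_le_index_two hH (index_ker_units ψ hψab) ?_⟩
  intro x hx
  set N := H.map (detO Q).ker.subtype ⊓ θ.ker with hN
  have hsq : ∀ u v, Q u ≠ 0 → Q v ≠ 0 → IsSquare (Q u * Q v) → refl Q u * refl Q v ∈ N := by
    intro u v hu hv huv
    obtain ⟨y, hy, hy2⟩ := exists_sq_eq hQ h2 hu hv huv
    refine ⟨⟨⟨y, MonoidHom.mem_ker.mpr hy⟩ ^ 2, Subgroup.sq_mem_of_index_two hH _, ?_⟩, ?_⟩
    · rw [pow_two]; exact hy2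
    · change θ (refl Q u * refl Q v) = 1
      rw [← hy2, map_mul, Int.units_mul_self]
  have hNle : N ≤ (detSign hQ h2).ker ⊓ θ.ker := by
    rintro g ⟨⟨y, -, rfl⟩, hg⟩
    exact ⟨detSign_eq_one.mpr y.2, hg⟩
  obtain ⟨y, hyH, hy⟩ := (mem_of_pairs hQ h2 hn hθ hsq hNle x.2 (MonoidHom.mem_ker.mp hx)).1
  rwa [← Subtype.ext hy]

theorem card_index_two_odd (h2 : (2 : F) ≠ 0) (hn : 2 ≤ Module.finrank F V) :
    Nat.card {H : Subgroup (oGroup Q) // H.index = 2} = 3 := by
  obtain ⟨θ, hθ⟩ := exists_spinor hQ h2 hn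
  obtain ⟨a, b, ha, hb, haS, hbS⟩ := exists_classes hQ h2 hn
  have ta : θ (refl Q a) = 1 := (hθ a ha).mpr haS
  have tb : θ (refl Q b) = -1 :=
    (Int.units_eq_one_or _).resolve_left fun e => hbS ((hθ b hb).mp e)
  set σ := detSign hQ h2
  have sa : σ (refl Q a) = -1 := detSign_refl ha
  have sb : σ (refl Q b) = -1 := detSign_refl hb
  have hneg : (-1 : ℤˣ) ≠ 1 := by decide
  have k1 : σ.ker.index = 2 := index_ker_units σ (g := refl Q a) (by rw [sa]; exact hneg)
  have k2 : θ.ker.index = 2 := index_ker_units θ (g := refl Q b) (by rw [tb]; exact hneg)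
  have k3 : (σ * θ).ker.index = 2 :=
    index_ker_units (σ * θ) (g := refl Q a) (by rw [MonoidHom.mul_apply, sa, ta]; decide)
  have key : ∀ H : Subgroup (oGroup Q), H.index = 2 →
      ¬(refl Q a ∈ H ∧ refl Q b ∈ H) := by
    rintro H hH ⟨h1, h2'⟩
    have hN : ∀ u v, Q u ≠ 0 → Q v ≠ 0 → IsSquare (Q u * Q v) → refl Q u * refl Q v ∈ H := by
      intro u v hu hv huv
      obtain ⟨y, -, hy⟩ := exists_sq_eq hQ h2 hu hv huv
      rw [← hy, ← pow_two]; exact Subgroup.sq_mem_of_index_two hH y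
    have htop : H = ⊤ := by
      refine eq_top_iff.mpr fun g _ => ?_
      rcases mem_or_of_pairs hQ h2 hN ha hb haS hbS g with h | h | h | h
      · exact h
      · exact (mul_mem_cancel_left h1).mp h
      · exact (mul_mem_cancel_left h2').mp h
      · exact (mul_mem_cancel_left (mul_mem h1 h2')).mp h
    rw [htop, Subgroup.index_top] at hH
    omega
  have agree : ∀ H K : Subgroup (oGroup Q), H.index = 2 → K.index = 2 →
      (refl Q a ∈ H ↔ refl Q a ∈ K) → (refl Q b ∈ H ↔ refl Q b ∈ K) → H = K := by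
    intro H K hH hK ea eb
    have hN : ∀ u v, Q u ≠ 0 → Q v ≠ 0 → IsSquare (Q u * Q v) → refl Q u * refl Q v ∈ H ⊓ K := by
      intro u v hu hv huv
      obtain ⟨y, -, hy⟩ := exists_sq_eq hQ h2 hu hv huv
      rw [← hy, ← pow_two]
      exact ⟨Subgroup.sq_mem_of_index_two hH y, Subgroup.sq_mem_of_index_two hK y⟩
    ext g
    have hd : ∀ x, x * g ∈ H ⊓ K → ((x ∈ H ↔ x ∈ K) → (g ∈ H ↔ g ∈ K)) := by
      rintro x ⟨h1, h3⟩ e
      have a1 := (Subgroup.mul_mem_iff_of_index_two hH).mp h1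
      have a2 := (Subgroup.mul_mem_iff_of_index_two hK).mp h3
      rw [← a1, ← a2, e]
    rcases mem_or_of_pairs hQ h2 hN ha hb haS hbS g with h | h | h | h
    · exact iff_of_true h.1 h.2
    · exact hd _ h ea
    · exact hd _ h eb
    · exact hd _ h (by
        rw [Subgroup.mul_mem_iff_of_index_two hH, Subgroup.mul_mem_iff_of_index_two hK, ea, eb])
  have hset : {H : Subgroup (oGroup Q) | H.index = 2} = {σ.ker, θ.ker, (σ * θ).ker} := by
    ext H
    constructor
    · intro hH
      by_cases h1 : refl Q a ∈ H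
      · have h3 : refl Q b ∉ H := fun h => key H hH ⟨h1, h⟩
        exact Or.inr (Or.inl (agree H _ hH k2 (iff_of_true h1 ta)
          (iff_of_false h3 fun h => hneg (tb.symm.trans h))))
      · by_cases h3 : refl Q b ∈ H
        · refine Or.inr (Or.inr (agree H _ hH k3 (iff_of_false h1 fun h => ?_)
            (iff_of_true h3 (by rw [MonoidHom.mem_ker, MonoidHom.mul_apply, sb, tb]; decide))))
          rw [MonoidHom.mem_ker, MonoidHom.mul_apply, sa, ta, mul_one] at h
          exact hneg h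
        · exact Or.inl (agree H _ hH k1 (iff_of_false h1 fun h => hneg (sa.symm.trans h))
            (iff_of_false h3 fun h => hneg (sb.symm.trans h)))
    · rintro (rfl | rfl | rfl) <;> assumption
  have d12 : σ.ker ≠ θ.ker := fun e => hneg (sa.symm.trans (e ▸ ta : refl Q a ∈ σ.ker))
  have d13 : σ.ker ≠ (σ * θ).ker := fun e => hneg (sb.symm.trans
    (e ▸ (by rw [MonoidHom.mem_ker, MonoidHom.mul_apply, sb, tb]; decide) : refl Q b ∈ σ.ker))
  have d23 : θ.ker ≠ (σ * θ).ker := fun e => hneg (tb.symm.trans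
    (e ▸ (by rw [MonoidHom.mem_ker, MonoidHom.mul_apply, sb, tb]; decide) : refl Q b ∈ θ.ker))
  exact (Nat.card_coe_set_eq {H : Subgroup (oGroup Q) | H.index = 2}).trans
    (Set.ncard_eq_three.mpr ⟨_, _, _, d12, d13, d23, hset⟩)

end CfsgLib.Quad
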