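import Cfsg.Agent.Quad.Matrices
import Mathlib.FieldTheory.Finite.Basic

/-!
Small transports for the matrix orthogonal groups.
-/

set_option autoImplicit false
set_option linter.style.haveILetI false

namespace CfsgLib.Quad

variable {F : Type*} [Field F]

theorem hgen_of_card [Fintype F] {n : ℕ} (h : Fintype.card F ≠ 2 ∨ n ≠ 4) :
    (∃ t : F, t ≠ 0 ∧ t ≠ 1) ∨ Module.finrank F (Fin n → F) ≠ 4 := by
  rw [Module.finrank_fin_fun]
  rcases h with h | h
  · left
    classical
    have h3 : 2 < Fintype.card F := lt_of_le_of_ne Fintype.one_lt_card (Ne.symm h)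
    by_contra! hc
    have hle : Fintype.card F ≤ 2 := by
      rw [← Finset.card_univ]
      refine le_trans (Finset.card_le_card (t := ({0, 1} : Finset F)) fun t _ => ?_) Finset.card_le_two
      by_cases ht : t = 0
      · simp [ht]
      · simp [hc t ht]
    omega
  · exact Or.inr h

variable {ι : Type} [Fintype ι] [DecidableEq ι]

theorem mem_special_iff (Q : QuadraticForm F (ι → F)) (g : Cfsg.isometryGroup F ⇑Q) :
    g ∈ Cfsg.specialIsometryGroup F ⇑Q ↔ isoGroupEquiv Q g ∈ (detO Q).ker := by
  rw [MonoidHom.mem_ker, ← Units.val_inj, det_isoGroupEquiv, Units.val_one,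
    Cfsg.specialIsometryGroup, MonoidHom.mem_ker, ← Units.val_inj, MonoidHom.comp_apply,
    Matrix.GeneralLinearGroup.val_det_apply, Units.val_one]
  rfl

/-- The determinant-one isometries, in both languages. -/
noncomputable def specialEquiv (Q : QuadraticForm F (ι → F)) :
    Cfsg.specialIsometryGroup F ⇑Q ≃* (detO Q).ker :=
  ((isoGroupEquiv Q).subgroupMap _).trans (MulEquiv.subgroupCongr (by
    ext x
    refine ⟨?_, fun hx => ⟨(isoGroupEquiv Q).symm x, ?_, (isoGroupEquiv Q).apply_symm_apply x⟩⟩
    · rintro ⟨g, hg, rfl⟩; exact (mem_special_iff Q g).mp hg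
    · exact (mem_special_iff Q _).mpr (by rwa [MulEquiv.apply_symm_apply])))

end CfsgLib.Quad
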