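import Cfsg.Agent.Quad.Parity
import Cfsg.Agent.Quad.Transport
import Cfsg.Agent.Quad.POmega

/-!
Membership in the commutator subgroup of an orthogonal group, uniformly in the characteristic.
-/

set_option autoImplicit false
set_option linter.style.haveILetI false

namespace CfsgLib.Quad

open QuadraticMap CfsgLib.Forms

variable {F V : Type*} [Field F] [AddCommGroup V] [Module F V] [FiniteDimensional F V]
  {Q : QuadraticForm F V}

/-- The product of the reflections in a list of vectors. -/
def reflProd (Q : QuadraticForm F V) (vs : List V) : oGroup Q := (vs.map (refl Q)).prod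

omit [FiniteDimensional F V] in
theorem reflProd_nil : reflProd Q [] = 1 := rfl

omit [FiniteDimensional F V] in
theorem reflProd_cons (v : V) (vs : List V) : reflProd Q (v :: vs) = refl Q v * reflProd Q vs := by
  simp [reflProd]

omit [FiniteDimensional F V] in
theorem reflProd_append (vs ws : List V) :
    reflProd Q (vs ++ ws) = reflProd Q vs * reflProd Q ws := by
  simp [reflProd]

omit [FiniteDimensional F V] in
theorem prod_ne_zero_of_forall {vs : List V} (hvs : ∀ v ∈ vs, Q v ≠ 0) :
    (vs.map fun v => Q v).prod ≠ 0 := List.prod_ne_zero fun h => by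
  obtain ⟨v, hv, e⟩ := List.mem_map.1 h
  exact hvs v hv e

theorem exists_reflProd (hQ : (polarBilin Q).Nondegenerate)
    (hgen : (∃ t : F, t ≠ 0 ∧ t ≠ 1) ∨ Module.finrank F V ≠ 4) (g : oGroup Q) :
    ∃ vs : List V, (∀ v ∈ vs, Q v ≠ 0) ∧ g = reflProd Q vs := by
  have hg : g ∈ reflGroup Q := by rw [reflGroup_eq_top hQ hgen]; trivial
  have step : ∀ d (y : oGroup Q), (∃ vs : List V, (∀ v ∈ vs, Q v ≠ 0) ∧ y = reflProd Q vs) →
      ∃ vs : List V, (∀ v ∈ vs, Q v ≠ 0) ∧ refl Q d * y = reflProd Q vs := by
    rintro d y ⟨vs, hvs, rfl⟩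
    by_cases hd : Q d = 0
    · exact ⟨vs, hvs, by rw [refl_eq_one hd, one_mul]⟩
    · exact ⟨d :: vs, List.forall_mem_cons.2 ⟨hd, hvs⟩, (reflProd_cons _ _).symm⟩
  refine Subgroup.closure_induction_left ⟨[], by simp, rfl⟩ ?_ ?_ hg
  · rintro _ ⟨d, rfl⟩ y _ hy; exact step d y hy
  · rintro _ ⟨d, rfl⟩ y _ hy; rw [refl_inv]; exact step d y hy

/-- The number of reflections has the parity of the codimension of the fixed space. -/
theorem even_reflProd (hQ : (polarBilin Q).Nondegenerate) : ∀ {vs : List V}, (∀ v ∈ vs, Q v ≠ 0) →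
    Even (vs.length + Module.finrank F V + Module.finrank F (fixSp (reflProd Q vs)))
  | [], _ => by
    have htop : fixSp (1 : oGroup Q) = ⊤ := Submodule.eq_top_iff'.mpr fun x => mem_fixSp.mpr rfl
    rw [reflProd_nil, htop, finrank_top]
    exact ⟨Module.finrank F V, by simp⟩
  | v :: vs, h => by
    have ih := even_reflProd hQ (vs := vs) fun w hw => h w (List.mem_cons_of_mem _ hw)
    rw [reflProd_cons, List.length_cons, Nat.even_iff]
    rw [Nat.even_iff] at ih
    rcases finrank_fixSp_refl_mul hQ (reflProd Q vs) (h v List.mem_cons_self) with e | e <;> omega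

theorem detO_reflProd : ∀ {vs : List V}, (∀ v ∈ vs, Q v ≠ 0) →
    (detO Q (reflProd Q vs) : F) = (-1) ^ vs.length
  | [], _ => by simp [reflProd_nil]
  | v :: vs, h => by
    rw [reflProd_cons, map_mul, Units.val_mul, detO_refl (h v List.mem_cons_self),
      detO_reflProd fun w hw => h w (List.mem_cons_of_mem _ hw), List.length_cons, pow_succ']

theorem exists_refl_mem_span {x : V} (hspan : ∀ y : V, ∃ a : F, y = a • x) (hx : Q x ≠ 0) :
    ∀ {vs : List V}, (∀ v ∈ vs, Q v ≠ 0) →
      reflProd Q vs = refl Q x ^ vs.length ∧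
        ∃ r : F, (vs.map fun v => Q v).prod = r * r * Q x ^ vs.length
  | [], _ => ⟨by simp [reflProd_nil], 1, by simp⟩
  | v :: vs, h => by
    obtain ⟨e, r, hr⟩ := exists_refl_mem_span hspan hx (vs := vs)
      fun w hw => h w (List.mem_cons_of_mem _ hw)
    obtain ⟨a, rfl⟩ := hspan v
    have ha : a ≠ 0 := fun ea => h _ List.mem_cons_self (by rw [ea, zero_smul, QuadraticMap.map_zero])
    refine ⟨by rw [reflProd_cons, refl_smul ha, e, List.length_cons, pow_succ'], a * r, ?_⟩
    rw [List.map_cons, List.prod_cons, hr, quad_smul, List.length_cons, pow_succ']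
    ring

variable [Finite F]

omit [FiniteDimensional F V] in
theorem two_ne_zero_or_charP : (2 : F) ≠ 0 ∨ CharP F 2 := by
  by_cases h : (2 : F) = 0
  · exact Or.inr (CharTwo.of_one_ne_zero_of_two_eq_zero one_ne_zero h)
  · exact Or.inl h

/-- A product of reflections is in the commutator subgroup iff it has even length and square
spinor norm. -/
theorem reflProd_mem_commutator_iff (hQ : (polarBilin Q).Nondegenerate)
    (hgen : (∃ t : F, t ≠ 0 ∧ t ≠ 1) ∨ Module.finrank F V ≠ 4) {vs : List V}
    (hvs : ∀ v ∈ vs, Q v ≠ 0) :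
    reflProd Q vs ∈ commutator (oGroup Q) ↔
      Even vs.length ∧ IsSquare ((vs.map fun v => Q v).prod) := by
  rcases two_ne_zero_or_charP (F := F) with h2 | h2
  · have hneg : ∀ k : ℕ, ((-1 : F) ^ k = 1 ↔ Even k) := fun k => by
      refine ⟨fun e => Nat.not_odd_iff_even.1 fun ho => ?_, fun he => he.neg_one_pow⟩
      rw [ho.neg_one_pow] at e
      exact h2 (by linear_combination -e)
    rcases Nat.lt_or_ge (Module.finrank F V) 2 with hn | hn
    · rcases vs with _ | ⟨x, vs⟩
      · simp [reflProd_nil, one_mem]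
      have hx := hvs x List.mem_cons_self
      have hx0 : x ≠ 0 := fun e => hx (by rw [e, QuadraticMap.map_zero])
      have hspan : ∀ y : V, ∃ a : F, y = a • x := fun y => by
        have h1 : Module.finrank F V = 1 := by
          have := (Module.finrank_pos_iff_exists_ne_zero (R := F) (M := V)).2 ⟨x, hx0⟩
          omega
        obtain ⟨a, ha⟩ := exists_smul_eq_of_finrank_eq_one h1 hx0 y
        exact ⟨a, ha.symm⟩
      obtain ⟨e, r, hr⟩ := exists_refl_mem_span hspan hx hvs
      have hdet : detO Q (reflProd Q (x :: vs)) = 1 ↔ Even (x :: vs).length := by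
        rw [← Units.val_inj, detO_reflProd hvs, Units.val_one, hneg]
      constructor
      · intro h
        have he : Even (x :: vs).length :=
          hdet.1 (Abelianization.commutator_subset_ker (detO Q) h)
        refine ⟨he, ?_⟩
        obtain ⟨k, hk⟩ := he
        rw [hr, hk, pow_add]
        exact (IsSquare.mul_self r).mul (IsSquare.mul_self _)
      · rintro ⟨⟨k, hk⟩, -⟩
        rw [e, hk, pow_add, ← (Commute.refl (refl Q x)).mul_pow, refl_mul_self, one_pow]
        exact one_mem _
    obtain ⟨θ, hθ⟩ := exists_spinor hQ h2 hn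
    have hth : ∀ {ws : List V}, (∀ v ∈ ws, Q v ≠ 0) →
        (θ (reflProd Q ws) = 1 ↔ IsSquare ((ws.map fun v => Q v).prod)) := by
      intro ws hws
      induction ws with
      | nil => simp [reflProd_nil]
      | cons v ws ih =>
        have h' : ∀ w ∈ ws, Q w ≠ 0 := fun w hw => hws w (List.mem_cons_of_mem _ hw)
        have hv := hws v List.mem_cons_self
        have hunits : ∀ x y : ℤˣ, x * y = 1 ↔ (x = 1 ↔ y = 1) := by decide
        rw [reflProd_cons, map_mul, hunits, hθ v hv, ih h', List.map_cons, List.prod_cons,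
          isSquare_mul_iff h2 hv (prod_ne_zero_of_forall h')]
    rw [mem_commutator_iff hQ h2 hn hθ, hth hvs, ← Units.val_inj, detO_reflProd hvs, Units.val_one, hneg]
  · obtain ⟨ε, hε⟩ := exists_parity hQ hgen
    rw [commutator_char_two hQ hgen hε, MonoidHom.mem_ker]
    simp only [isSquare_char_two, and_true]
    have key : ∀ {ws : List V}, (∀ v ∈ ws, Q v ≠ 0) → ε (reflProd Q ws) = (-1) ^ ws.length := by
      intro ws hws
      induction ws with
      | nil => simp [reflProd_nil]
      | cons v ws ih =>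
        rw [reflProd_cons, map_mul, hε v (hws v List.mem_cons_self),
          ih fun w hw => hws w (List.mem_cons_of_mem _ hw), List.length_cons, pow_succ']
    rw [key hvs]
    refine ⟨fun e => Nat.not_odd_iff_even.1 fun ho => ?_, fun he => he.neg_one_pow⟩
    rw [ho.neg_one_pow] at e
    exact absurd e (by decide)

/-- In characteristic two the commutator subgroup is given by the parity of the fixed space. -/
theorem mem_commutator_iff_fixSp [CharP F 2] (hQ : (polarBilin Q).Nondegenerate)
    (hgen : (∃ t : F, t ≠ 0 ∧ t ≠ 1) ∨ Module.finrank F V ≠ 4) (g : oGroup Q) :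
    g ∈ commutator (oGroup Q) ↔ Even (Module.finrank F V + Module.finrank F (fixSp g)) := by
  obtain ⟨vs, hvs, rfl⟩ := exists_reflProd hQ hgen g
  rw [reflProd_mem_commutator_iff hQ hgen hvs]
  simp only [isSquare_char_two, and_true]
  have h := even_reflProd hQ hvs
  rw [Nat.add_assoc] at h
  exact ((Nat.even_add).1 h)

/-- An even product with square spinor norm after a correction by elements of a subgroup that
contains an odd product and an even product of non-square spinor norm. -/
theorem exists_mul_mem_commutator (hQ : (polarBilin Q).Nondegenerate)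
    (hgen : (∃ t : F, t ≠ 0 ∧ t ≠ 1) ∨ Module.finrank F V ≠ 4) {S : Subgroup (oGroup Q)}
    {g : oGroup Q} {as : List V} (has : ∀ v ∈ as, Q v ≠ 0) (hodd : Odd as.length)
    (haS : reflProd Q as ∈ S)
    (hb : (2 : F) ≠ 0 → ∃ bs : List V, (∀ v ∈ bs, Q v ≠ 0) ∧ Even bs.length ∧
      ¬ IsSquare ((bs.map fun v => Q v).prod) ∧ reflProd Q bs ∈ S) :
    ∃ s ∈ S, s * g ∈ commutator (oGroup Q) := by
  obtain ⟨vs, hvs, rfl⟩ := exists_reflProd hQ hgen g
  obtain ⟨ws, hws, hwS, hev⟩ : ∃ ws : List V, (∀ v ∈ ws, Q v ≠ 0) ∧ reflProd Q ws ∈ S ∧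
      Even (ws ++ vs).length := by
    rcases Nat.even_or_odd vs.length with he | ho
    · exact ⟨[], by simp, by simp [reflProd_nil, one_mem], by simpa using he⟩
    · exact ⟨as, has, haS, by rw [List.length_append]; exact hodd.add_odd ho⟩
  have hall : ∀ v ∈ ws ++ vs, Q v ≠ 0 := List.forall_mem_append.2 ⟨hws, hvs⟩
  by_cases hsq : IsSquare (((ws ++ vs).map fun v => Q v).prod)
  · exact ⟨_, hwS, by rw [← reflProd_append, reflProd_mem_commutator_iff hQ hgen hall]; exact ⟨hev, hsq⟩⟩
  · rcases two_ne_zero_or_charP (F := F) with h2 | h2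
    · obtain ⟨bs, hbs, hbev, hbsq, hbS⟩ := hb h2
      refine ⟨reflProd Q bs * reflProd Q ws, mul_mem hbS hwS, ?_⟩
      rw [mul_assoc, ← reflProd_append, ← reflProd_append,
        reflProd_mem_commutator_iff hQ hgen (List.forall_mem_append.2 ⟨hbs, hall⟩)]
      refine ⟨by rw [List.length_append]; exact hbev.add hev, ?_⟩
      rw [List.map_append, List.prod_append,
        isSquare_mul_iff h2 (prod_ne_zero_of_forall hbs) (prod_ne_zero_of_forall hall)]
      rw [List.map_append, List.prod_append] at hsq
      simp [hbsq, hsq]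
    · exact absurd (isSquare_char_two _) hsq

section matrix

variable {ι : Type} [Fintype ι] [DecidableEq ι]

theorem mem_omega_iff (Q : QuadraticForm F (ι → F)) (g : Cfsg.isometryGroup F ⇑Q) :
    g ∈ Cfsg.Omega F ⇑Q ↔ isoGroupEquiv Q g ∈ commutator (oGroup Q) :=
  (mem_commutator_equiv (isoGroupEquiv Q) g).symm

theorem exists_omega_iff (Q : QuadraticForm F (ι → F)) (M : Matrix ι ι F) (h : oGroup Q)
    (hM : ∀ x, M.mulVec x = h.1 x) :
    (∃ g : Cfsg.isometryGroup F ⇑Q, g ∈ Cfsg.Omega F ⇑Q ∧
      ((g : Matrix.GeneralLinearGroup ι F) : Matrix ι ι F) = M) ↔ h ∈ commutator (oGroup Q) := by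
  constructor
  · rintro ⟨g, hg, e⟩
    have : isoGroupEquiv Q g = h :=
      (isoGroupEquiv_eq_iff Q g h).2 fun x => by rw [e, hM]
    rw [← this, ← mem_omega_iff]
    exact hg
  · intro hh
    refine ⟨(isoGroupEquiv Q).symm h, by rw [mem_omega_iff, MulEquiv.apply_symm_apply]; exact hh, ?_⟩
    refine Matrix.ext_iff_smul.mpr fun x => ?_
    rw [Matrix.smul_eq_mulVec, Matrix.smul_eq_mulVec, hM, ← isoGroupEquiv_apply,
      MulEquiv.apply_symm_apply]

omit [Finite F] in
theorem reflProd_apply (Q : QuadraticForm F (ι → F)) : ∀ (vs : List (ι → F)) (x : ι → F),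
    ((vs.map fun v => Cfsg.reflectionMatrix (⇑Q) v).prod).mulVec x = (reflProd Q vs).1 x
  | [], x => by rw [List.map_nil, List.prod_nil, Matrix.one_mulVec]; rfl
  | v :: vs, x => by
    rw [List.map_cons, List.prod_cons, ← Matrix.mulVec_mulVec, reflProd_apply Q vs,
      reflectionMatrix_mulVec, reflProd_cons]
    rfl

end matrix

end CfsgLib.Quad
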