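import Cfsg.Agent.Quad.OmegaMem
import Cfsg.Agent.Classical.MaxSingular

/-!
Transitivity of `Ω` on subspaces and the action on the two classes of maximal singular subspaces.
-/

set_option autoImplicit false
set_option linter.style.haveILetI false

namespace CfsgLib.Quad

open QuadraticMap CfsgLib.Forms Module

variable {F V : Type*} [Field F] [AddCommGroup V] [Module F V] [FiniteDimensional F V]
  {Q : QuadraticForm F V}

/-- The stabiliser of a subspace. -/
def stabW (Q : QuadraticForm F V) (W : Submodule F V) : Subgroup (oGroup Q) where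
  carrier := {g | W.map g.1.toLinearMap = W}
  one_mem' := Submodule.map_id W
  mul_mem' := by
    intro g h hg hh
    show W.map (g.1.toLinearMap ∘ₗ h.1.toLinearMap) = W
    rw [Submodule.map_comp, hh, hg]
  inv_mem' := by
    intro g hg
    show W.map (g⁻¹).1.toLinearMap = W
    calc W.map (g⁻¹).1.toLinearMap = (W.map g.1.toLinearMap).map (g⁻¹).1.toLinearMap := by rw [hg]
      _ = W.map ((g⁻¹ * g).1.toLinearMap) := (Submodule.map_comp _ _ _).symm
      _ = W := by rw [inv_mul_cancel]; exact Submodule.map_id W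

theorem mem_stabW_of_le {W : Submodule F V} {g : oGroup Q} (h : ∀ x ∈ W, g.1 x ∈ W) :
    g ∈ stabW Q W := by
  refine Submodule.eq_of_le_of_finrank_eq ?_ ?_
  · rintro _ ⟨x, hx, rfl⟩
    exact h x hx
  · exact LinearEquiv.finrank_map_eq g.1 W

theorem reflProd_mem_stabW {W : Submodule F V} : ∀ {vs : List V},
    (∀ v ∈ vs, ∀ x ∈ W, (refl Q v).1 x ∈ W) → reflProd Q vs ∈ stabW Q W
  | [], _ => by rw [reflProd_nil]; exact one_mem _
  | v :: vs, h => by
    rw [reflProd_cons]
    exact mul_mem (mem_stabW_of_le (h v List.mem_cons_self))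
      (reflProd_mem_stabW fun w hw => h w (List.mem_cons_of_mem _ hw))

theorem refl_mem_of_mem {W : Submodule F V} {v : V} (hv : v ∈ W) {x : V} (hx : x ∈ W) :
    (refl Q v).1 x ∈ W := by
  rw [refl_apply]
  exact add_mem hx (W.smul_mem _ hv)

theorem refl_mem_of_perp {W : Submodule F V} {v : V} (hv : v ∈ perpS Q W) {x : V} (hx : x ∈ W) :
    (refl Q v).1 x ∈ W := by
  rw [refl_fix (hv x hx)]
  exact hx

theorem finrank_le_of_singular (hQ : (polarBilin Q).Nondegenerate) {W : Submodule F V}
    (hW : ∀ w ∈ W, Q w = 0) : 2 * finrank F W ≤ finrank F V := by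
  have h1 := Submodule.finrank_mono (show W ≤ perpS Q W from fun x hx h hh => by
    rw [polar, hW _ (add_mem hh hx), hW h hh, hW x hx]; ring)
  have h2 := finrank_perpS hQ W
  omega

/-- An aniso vector orthogonal to a small totally singular subspace. -/
theorem exists_aniso_perp_singular (hQ : (polarBilin Q).Nondegenerate) {W : Submodule F V}
    (hk : 2 * finrank F W < finrank F V) : ∃ v ∈ perpS Q W, Q v ≠ 0 := by
  by_contra hc
  push Not at hc
  have h1 := finrank_le_of_singular hQ hc
  have h2 := finrank_perpS hQ W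
  omega

/-- The torus of a singular vector stabilises each totally singular subspace containing it. -/
theorem exists_torus_stab (hQ : (polarBilin Q).Nondegenerate) {W : Submodule F V}
    (hW : ∀ w ∈ W, Q w = 0) {e : V} (heW : e ∈ W) (he : e ≠ 0) {t : F} (ht : t ≠ 0) :
    ∃ bs : List V, (∀ v ∈ bs, Q v ≠ 0) ∧ Even bs.length ∧ (bs.map fun v => Q v).prod = t ∧
      reflProd Q bs ∈ stabW Q W := by
  obtain ⟨y, hy⟩ := exists_polar_ne hQ he
  set y' := (polar Q e y)⁻¹ • y with hy'
  have hy1 : polar Q e y' = 1 := by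
    rw [hy', polar_smul_right, smul_eq_mul, inv_mul_cancel₀ hy]
  have hee : polar Q e e = 0 := by rw [QuadraticMap.polar_self, hW e heW, nsmul_zero]
  set f := y' + (-Q y') • e with hfdef
  have hef : polar Q e f = 1 := by rw [hfdef, polar_add_right, hy1, polar_smul_right, hee, smul_zero, add_zero]
  have hf : Q f = 0 := by
    rw [hfdef, quad_add, quad_smul Q (-Q y') e, hW e heW, polar_smul_right, polar_comm (⇑Q) y' e, hy1, smul_eq_mul]
    ring
  have h1 : Q (e + f) = 1 := by
    have := quad_add Q e f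
    rw [hW e heW, hf, hef, zero_add, zero_add] at this
    exact this
  have ht' : Q (e + t • f) = t := by
    rw [quad_add, quad_smul, polar_smul_right, hW e heW, hf, hef, mul_zero, zero_add, zero_add,
      smul_eq_mul, mul_one]
  refine ⟨[e + f, e + t • f], ?_, even_two, by simp [h1, ht'], mem_stabW_of_le fun x hx => ?_⟩
  · intro v hv
    simp only [List.mem_cons, List.not_mem_nil, or_false] at hv
    rcases hv with rfl | rfl
    · rw [h1]; exact one_ne_zero
    · rw [ht']; exact ht
  · have hxe : polar Q x e = 0 := by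
      rw [polar, hW _ (add_mem hx heW), hW x hx, hW e heW]; ring
    rw [reflProd_cons, reflProd_cons, reflProd_nil, mul_one]
    show (refl Q (e + f)).1 ((refl Q (e + t • f)).1 x) ∈ W
    have hkey : (refl Q (e + f)).1 ((refl Q (e + t • f)).1 x) = x + ((t - 1) * polar Q x f) • e := by
      rw [refl_apply, refl_apply, h1, ht']
      have hfe : polar Q f e = 1 := by rw [polar_comm, hef]
      have hff : polar Q f f = 0 := by rw [QuadraticMap.polar_self, hf, nsmul_zero]
      simp only [polar_add_left, polar_add_right, polar_smul_left, polar_smul_right, hee, hff, hef, hfe,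
        hxe, smul_eq_mul]
      match_scalars <;> field_simp <;> ring
    rw [hkey]
    exact add_mem hx (W.smul_mem _ heW)

variable [Finite F]

omit [FiniteDimensional F V] in
theorem exists_nonsquare_ne_zero (h2 : (2 : F) ≠ 0) : ∃ t : F, t ≠ 0 ∧ ¬ IsSquare t := by
  haveI := Fintype.ofFinite F
  obtain ⟨ν, hν⟩ := FiniteField.exists_nonsquare (F := F) (fun e => h2 (by
    have := ringChar.Nat.cast_ringChar (R := F)
    rw [e] at this
    exact_mod_cast this))
  exact ⟨ν, fun e => hν (e ▸ ⟨0, by ring⟩), hν⟩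

/-- Correcting an isometry `g₀` with `g₀ U = W` into the commutator subgroup. -/
theorem exists_map_of_stab (hQ : (polarBilin Q).Nondegenerate)
    (hgen : (∃ t : F, t ≠ 0 ∧ t ≠ 1) ∨ finrank F V ≠ 4) {U W : Submodule F V} {g₀ : oGroup Q}
    (hg₀ : U.map g₀.1.toLinearMap = W) {as : List V} (has : ∀ v ∈ as, Q v ≠ 0)
    (hodd : Odd as.length) (haS : reflProd Q as ∈ stabW Q W)
    (hb : (2 : F) ≠ 0 → ∃ bs : List V, (∀ v ∈ bs, Q v ≠ 0) ∧ Even bs.length ∧
      ¬ IsSquare ((bs.map fun v => Q v).prod) ∧ reflProd Q bs ∈ stabW Q W) :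
    ∃ g ∈ commutator (oGroup Q), U.map g.1.toLinearMap = W := by
  obtain ⟨s, hs, hsg⟩ := exists_mul_mem_commutator hQ hgen (g := g₀) has hodd haS hb
  exact ⟨s * g₀, hsg, (Submodule.map_comp g₀.1.toLinearMap s.1.toLinearMap U).trans (by rw [hg₀]; exact hs)⟩

/-- The torus supplies the non-square correction. -/
theorem exists_nonsquare_stab (hQ : (polarBilin Q).Nondegenerate) {W : Submodule F V}
    (hW : ∀ w ∈ W, Q w = 0) (hne : W ≠ ⊥) (h2 : (2 : F) ≠ 0) :
    ∃ bs : List V, (∀ v ∈ bs, Q v ≠ 0) ∧ Even bs.length ∧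
      ¬ IsSquare ((bs.map fun v => Q v).prod) ∧ reflProd Q bs ∈ stabW Q W := by
  obtain ⟨e, heW, he⟩ := Submodule.exists_mem_ne_zero_of_ne_bot hne
  obtain ⟨t, ht, hts⟩ := exists_nonsquare_ne_zero h2
  obtain ⟨bs, h1, h2', h3, h4⟩ := exists_torus_stab hQ hW heW he ht
  exact ⟨bs, h1, h2', by rw [h3]; exact hts, h4⟩

omit [Finite F] in
theorem exists_witt_map (hQ : (polarBilin Q).Nondegenerate) {U W : Submodule F V}
    (e : U ≃ₗ[F] W) (he : ∀ u : U, Q (e u : V) = Q (u : V)) :
    ∃ g : oGroup Q, U.map g.1.toLinearMap = W := by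
  obtain ⟨g, hg, hgU⟩ := quad_witt hQ U (W.subtype ∘ₗ e.toLinearMap)
    (Subtype.val_injective.comp e.injective) he
  refine ⟨⟨g, hg⟩, le_antisymm ?_ fun w hw => ?_⟩
  · rintro _ ⟨x, hx, rfl⟩
    show g x ∈ W
    rw [show g x = g ((⟨x, hx⟩ : U) : V) from rfl, hgU]
    exact (e _).2
  · refine ⟨(e.symm ⟨w, hw⟩ : V), (e.symm ⟨w, hw⟩).2, ?_⟩
    show g _ = w
    rw [hgU]
    simp

/-- Transitivity on small totally singular subspaces. -/
theorem exists_map_singular (hQ : (polarBilin Q).Nondegenerate)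
    (hgen : (∃ t : F, t ≠ 0 ∧ t ≠ 1) ∨ finrank F V ≠ 4) {U W : Submodule F V}
    (hU0 : ∀ u ∈ U, Q u = 0) (hW0 : ∀ w ∈ W, Q w = 0) (hUW : finrank F U = finrank F W)
    (hk : 2 * finrank F W < finrank F V) :
    ∃ g ∈ commutator (oGroup Q), U.map g.1.toLinearMap = W := by
  by_cases hW : W = ⊥
  · subst hW
    rw [finrank_bot] at hUW
    exact ⟨1, one_mem _, by rw [Submodule.finrank_eq_zero.1 hUW, Submodule.map_bot]⟩
  obtain ⟨g₀, hg₀⟩ := exists_witt_map hQ (LinearEquiv.ofFinrankEq U W hUW)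
    fun u => by rw [hU0 _ u.2, hW0 _ (LinearEquiv.ofFinrankEq U W hUW u).2]
  obtain ⟨v, hv, hQv⟩ := exists_aniso_perp_singular hQ hk
  exact exists_map_of_stab hQ hgen hg₀ (as := [v]) (by simpa using hQv) odd_one
    (reflProd_mem_stabW fun w hw x hx => by
      rw [List.mem_singleton.1 hw]; exact refl_mem_of_perp hv hx)
    (exists_nonsquare_stab hQ hW0 hW)

/-- Transitivity on non-degenerate subspaces of an isometry type. -/
theorem exists_map_nondeg (hQ : (polarBilin Q).Nondegenerate)
    (hgen : (∃ t : F, t ≠ 0 ∧ t ≠ 1) ∨ finrank F V ≠ 4) (hn : 3 ≤ finrank F V) {U W : Submodule F V}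
    (hW : W ⊓ perpS Q W = ⊥) (e : U ≃ₗ[F] W) (he : ∀ u : U, Q (e u : V) = Q (u : V)) :
    ∃ g ∈ commutator (oGroup Q), U.map g.1.toLinearMap = W := by
  obtain ⟨g₀, hg₀⟩ := exists_witt_map hQ e he
  have hsum : W ⊔ perpS Q W = ⊤ := by
    refine Submodule.eq_top_of_finrank_eq ?_
    have h := Submodule.finrank_sup_add_finrank_inf_eq W (perpS Q W)
    rw [hW, finrank_bot, finrank_perpS hQ W] at h
    omega
  obtain ⟨v, hvm, hQv⟩ : ∃ v, (v ∈ W ∨ v ∈ perpS Q W) ∧ Q v ≠ 0 := by
    by_contra hc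
    push Not at hc
    obtain ⟨x, hx⟩ := exists_aniso hQ (by omega : 1 ≤ finrank F V)
    obtain ⟨a, ha, b, hb, rfl⟩ := Submodule.mem_sup.1 (hsum ▸ Submodule.mem_top : x ∈ W ⊔ perpS Q W)
    rw [quad_add, hc a (Or.inl ha), hc b (Or.inr hb), hb a ha] at hx
    exact hx (by ring)
  refine exists_map_of_stab hQ hgen hg₀ (as := [v]) (by simpa using hQv) odd_one
    (reflProd_mem_stabW fun w hw x hx => ?_) fun h2 => ?_
  · rw [List.mem_singleton.1 hw]
    exact hvm.elim (fun h => refl_mem_of_mem h hx) (fun h => refl_mem_of_perp h hx)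
  obtain ⟨X, hX, hXd, hXW⟩ : ∃ X : Submodule F V, X ⊓ perpS Q X = ⊥ ∧ 2 ≤ finrank F X ∧
      (∀ w ∈ X, ∀ x ∈ W, (refl Q w).1 x ∈ W) := by
    have h := finrank_perpS hQ W
    rcases Nat.lt_or_ge (finrank F W) 2 with hlt | hge
    · exact ⟨perpS Q W, by rw [perpS_perpS hQ, inf_comm]; exact hW, by omega,
        fun w hw x hx => refl_mem_of_perp hw hx⟩
    · exact ⟨W, hW, hge, fun w hw x hx => refl_mem_of_mem hw hx⟩
  have hnd : (polarBilin (Q.comp X.subtype)).Nondegenerate := by
    have key : ∀ x : X, (∀ y : X, polar (Q.comp X.subtype) x y = 0) → x = 0 := by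
      intro x hx
      have h1 : (x : V) ∈ X ⊓ perpS Q X := ⟨x.2, fun y hy => by
        rw [polar_comm]
        exact hx ⟨y, hy⟩⟩
      rw [hX, Submodule.mem_bot] at h1
      exact Subtype.ext h1
    exact ⟨fun x hx => key x hx, fun y hy => key y fun z => by rw [polar_comm]; exact hy z⟩
  obtain ⟨a, b, ha, hb, haS, hbS⟩ := exists_classes hnd h2 hXd
  refine ⟨[(a : V), b], ?_, even_two, ?_, reflProd_mem_stabW fun w hw x hx => hXW w ?_ x hx⟩
  · intro w hw
    simp only [List.mem_cons, List.not_mem_nil, or_false] at hw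
    rcases hw with rfl | rfl
    · exact ha
    · exact hb
  · simp only [List.map_cons, List.map_nil, List.prod_cons, List.prod_nil, mul_one]
    intro h
    exact hbS (((isSquare_mul_iff h2 ha hb).1 h).1 haS)
  · simp only [List.mem_cons, List.not_mem_nil, or_false] at hw
    rcases hw with rfl | rfl <;> exact Subtype.mem _

/-- Transitivity on non-singular lines in characteristic two. -/
theorem exists_map_line [CharP F 2] (hQ : (polarBilin Q).Nondegenerate)
    (hgen : (∃ t : F, t ≠ 0 ∧ t ≠ 1) ∨ finrank F V ≠ 4) {u v : V} (hu : Q u ≠ 0) (hv : Q v ≠ 0) :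
    ∃ g ∈ commutator (oGroup Q), (F ∙ g.1 u) = F ∙ v := by
  obtain ⟨c, hc⟩ := isSquare_char_two (Q u / Q v)
  have hc0 : c ≠ 0 := fun e => by
    rw [e, mul_zero] at hc
    exact div_ne_zero hu hv hc
  obtain ⟨g₀, hg₀⟩ := exists_apply_eq hQ (u := u) (v := c • v)
    (by rw [quad_smul, ← hc, div_mul_cancel₀ _ hv]) hu
  have hspan : (F ∙ (c • v)) = F ∙ v := Submodule.span_singleton_smul_eq (IsUnit.mk0 c hc0) v
  by_cases hmem : g₀ ∈ commutator (oGroup Q)
  · exact ⟨g₀, hmem, by rw [hg₀, hspan]⟩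
  · obtain ⟨vs, hvs, rfl⟩ := exists_reflProd hQ hgen g₀
    rw [reflProd_mem_commutator_iff hQ hgen hvs] at hmem
    simp only [isSquare_char_two, and_true] at hmem
    have h' : ∀ w ∈ v :: vs, Q w ≠ 0 := List.forall_mem_cons.2 ⟨hv, hvs⟩
    refine ⟨reflProd Q (v :: vs), (reflProd_mem_commutator_iff hQ hgen h').2
      ⟨by rw [List.length_cons, Nat.even_add_one]; exact hmem, isSquare_char_two _⟩, ?_⟩
    rw [reflProd_cons]
    show (F ∙ (refl Q v).1 ((reflProd Q vs).1 u)) = F ∙ v
    rw [hg₀, map_smul, refl_self hv, smul_neg, ← neg_smul,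
      Submodule.span_singleton_smul_eq (IsUnit.mk0 _ (neg_ne_zero.2 hc0))]

open CfsgLib.Linear.MaxSing in
omit [Finite F] in
/-- The codimension parity against the image is the parity of the number of reflections. -/
theorem even_codim_iff (hQ : (polarBilin Q).Nondegenerate) {m : ℕ} (hV : finrank F V = 2 * m)
    {U : Submodule F V} (hU : IsMax Q m U) : ∀ {vs : List V}, (∀ v ∈ vs, Q v ≠ 0) →
      (Even (m - finrank F ↥(U ⊓ U.map (reflProd Q vs).1.toLinearMap)) ↔ Even vs.length)
  | [], _ => by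
    rw [reflProd_nil, show U.map ((1 : oGroup Q).1.toLinearMap) = U from Submodule.map_id U, inf_idem,
      hU.1, Nat.sub_self]
    simp
  | v :: vs, h => by
    have hv := h v List.mem_cons_self
    have ih := even_codim_iff hQ hV hU (vs := vs) fun w hw => h w (List.mem_cons_of_mem _ hw)
    have hmap : ∀ g : oGroup Q, ∀ X : Submodule F V, IsMax Q m X → IsMax Q m (X.map g.1.toLinearMap) :=
      fun g X hX => ⟨by
        have e : finrank F (X.map g.1.toLinearMap) = finrank F X := LinearEquiv.finrank_map_eq g.1 X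
        rw [e]
        exact hX.1, by
        rintro _ ⟨x, hx, rfl⟩
        exact (g.2 x).trans (hX.2 x hx)⟩
    set X := U.map (reflProd Q vs).1.toLinearMap with hX
    have hXm := hmap (reflProd Q vs) U hU
    set W := X.map (refl Q v).1.toLinearMap with hW
    have hWm := hmap (refl Q v) X hXm
    have hWX : U.map (reflProd Q (v :: vs)).1.toLinearMap = W := by
      rw [reflProd_cons, hW, hX]
      exact Submodule.map_comp _ _ _
    have hone : m - finrank F ↥(W ⊓ X) = 1 := by
      have hle : finrank F ↥(W ⊓ X) ≤ finrank F W := Submodule.finrank_mono inf_le_left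
      rw [hWm.1] at hle
      have hne : W ≠ X := by
        intro e
        obtain ⟨x, hx, hxv⟩ : ∃ x ∈ X, polar Q x v ≠ 0 := by
          by_contra hc
          push Not at hc
          apply hv
          have : v ∈ perp Q X := (CfsgLib.Linear.MaxSing.mem_perp Q).2 hc
          rw [perp_eq_self hQ hV hXm] at this
          exact hXm.2 v this
        have h1 : (refl Q v).1 x ∈ W := ⟨x, hx, rfl⟩
        rw [e, refl_apply] at h1
        have h2 := sub_mem h1 hx
        rw [add_sub_cancel_left] at h2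
        have hcf : -(Q v)⁻¹ * polar Q x v ≠ 0 := mul_ne_zero (neg_ne_zero.2 (inv_ne_zero hv)) hxv
        exact hv (hXm.2 v (by
          have h3 := X.smul_mem (-(Q v)⁻¹ * polar Q x v)⁻¹ h2
          rwa [smul_smul, inv_mul_cancel₀ hcf, one_smul] at h3))
      have hker : X ⊓ LinearMap.ker (polarFun Q v) ≤ W ⊓ X := fun x hx => by
        refine ⟨⟨x, hx.1, ?_⟩, hx.1⟩
        exact refl_fix (by simpa [polarFun_apply] using hx.2)
      have h1 := Submodule.finrank_mono hker
      have h2 := Submodule.finrank_sup_add_finrank_inf_eq X (LinearMap.ker (polarFun Q v))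
      have h3 := Submodule.finrank_le (X ⊔ LinearMap.ker (polarFun Q v))
      have h4 : finrank F V ≤ finrank F (LinearMap.ker (polarFun Q v)) + 1 := by
        have h5 := (polarFun Q v).finrank_range_add_finrank_ker
        have h6 := Submodule.finrank_le (LinearMap.range (polarFun Q v))
        rw [Module.finrank_self] at h6
        omega
      rw [hXm.1] at h2
      have h7 : finrank F ↥(W ⊓ X) ≠ m := fun e => hne ((Submodule.eq_of_le_of_finrank_eq inf_le_left
        (e.trans hWm.1.symm)).symm.trans (Submodule.eq_of_le_of_finrank_eq inf_le_right (e.trans hXm.1.symm)))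
      omega
    have hpar := parity hQ hV hU hXm 1 W hWm hone
    rw [hWX, List.length_cons, Nat.even_iff, Nat.even_iff]
    rw [Nat.even_iff, Nat.even_iff] at ih
    rw [Nat.even_iff] at hpar
    rw [show U.map (reflProd Q vs).1.toLinearMap = X from rfl] at hpar
    omega

/-- Transitivity on a class of maximal totally singular subspaces. -/
theorem exists_map_class (hQ : (polarBilin Q).Nondegenerate)
    (hgen : (∃ t : F, t ≠ 0 ∧ t ≠ 1) ∨ finrank F V ≠ 4) {m : ℕ} (hm : 1 ≤ m)
    (hV : finrank F V = 2 * m) {U W : Submodule F V} (hU : CfsgLib.Linear.MaxSing.IsMax Q m U)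
    (hW : CfsgLib.Linear.MaxSing.IsMax Q m W) (he : Even (m - finrank F ↥(U ⊓ W))) :
    ∃ g ∈ commutator (oGroup Q), U.map g.1.toLinearMap = W := by
  have hUW : finrank F U = finrank F W := hU.1.trans hW.1.symm
  obtain ⟨g₀, hg₀⟩ := exists_witt_map hQ (LinearEquiv.ofFinrankEq U W hUW)
    fun u => by rw [hU.2 _ u.2, hW.2 _ (LinearEquiv.ofFinrankEq U W hUW u).2]
  obtain ⟨vs, hvs, rfl⟩ := exists_reflProd hQ hgen g₀
  have hev : Even vs.length := (even_codim_iff hQ hV hU hvs).1 (by rwa [hg₀])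
  by_cases hsq : IsSquare ((vs.map fun v => Q v).prod)
  · exact ⟨_, (reflProd_mem_commutator_iff hQ hgen hvs).2 ⟨hev, hsq⟩, hg₀⟩
  rcases two_ne_zero_or_charP (F := F) with h2 | h2
  · have hWne : W ≠ ⊥ := fun e => by
      have := hW.1
      rw [e, finrank_bot] at this
      omega
    obtain ⟨bs, hbs, hbev, hbsq, hbS⟩ := exists_nonsquare_stab hQ hW.2 hWne h2
    have hall : ∀ v ∈ bs ++ vs, Q v ≠ 0 := List.forall_mem_append.2 ⟨hbs, hvs⟩
    refine ⟨reflProd Q (bs ++ vs), (reflProd_mem_commutator_iff hQ hgen hall).2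
      ⟨by rw [List.length_append]; exact hbev.add hev, ?_⟩, ?_⟩
    · rw [List.map_append, List.prod_append,
        isSquare_mul_iff h2 (prod_ne_zero_of_forall hbs) (prod_ne_zero_of_forall hvs)]
      simp [hbsq, hsq]
    · rw [reflProd_append]
      refine (Submodule.map_comp _ _ _).trans ?_
      rw [hg₀]
      exact hbS
  · exact absurd (isSquare_char_two _) hsq

section matrix

variable {ι : Type} [Fintype ι] [DecidableEq ι]

theorem exists_omega_map (Q : QuadraticForm F (ι → F)) {U W : Submodule F (ι → F)}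
    (h : ∃ g ∈ commutator (oGroup Q), U.map g.1.toLinearMap = W) :
    ∃ g : Cfsg.isometryGroup F ⇑Q, g ∈ Cfsg.Omega F ⇑Q ∧
      U.map (Matrix.mulVecLin ((g : Matrix.GeneralLinearGroup ι F) : Matrix ι ι F)) = W := by
  obtain ⟨g, hg, rfl⟩ := h
  refine ⟨(isoGroupEquiv Q).symm g, by rw [mem_omega_iff, MulEquiv.apply_symm_apply]; exact hg, ?_⟩
  congr 1
  refine LinearMap.ext fun x => ?_
  show _ = g.1 x
  rw [Matrix.mulVecLin_apply, ← isoGroupEquiv_apply, MulEquiv.apply_symm_apply]

omit [Finite F] in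
theorem map_mulVecLin_eq (Q : QuadraticForm F (ι → F)) (U : Submodule F (ι → F))
    (g : Cfsg.isometryGroup F ⇑Q) :
    U.map (Matrix.mulVecLin ((g : Matrix.GeneralLinearGroup ι F) : Matrix ι ι F)) =
      U.map (isoGroupEquiv Q g).1.toLinearMap := rfl

end matrix

end CfsgLib.Quad
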