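import Cfsg.Agent.Quad.POmega
import Cfsg.Agent.Classical.Transvections

/-!
Recognising the commutator subgroup of an orthogonal group as a representation image.
-/

set_option autoImplicit false
set_option linter.style.haveILetI false

namespace CfsgLib.Quad

open QuadraticMap CfsgLib.Forms
open scoped commutatorElement

/-- Generation by squares. -/
def SqGen (G : Type*) [Group G] : Prop := Subgroup.closure (Set.range fun x : G => x * x) = ⊤

theorem sqGen_of_perfect {G : Type*} [Group G] (h : commutator G = ⊤) : SqGen G := by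
  refine eq_top_iff.mpr (h.symm.le.trans ?_)
  rw [commutator_eq_closure]
  refine (Subgroup.closure_le _).mpr ?_
  rintro _ ⟨a, b, rfl⟩
  have : ⁅a, b⁆ = (a * a) * ((a⁻¹ * b) * (a⁻¹ * b)) * (b⁻¹ * b⁻¹) := by
    rw [commutatorElement_def]; group
  rw [this]
  exact mul_mem (mul_mem (Subgroup.subset_closure ⟨a, rfl⟩) (Subgroup.subset_closure ⟨_, rfl⟩))
    (Subgroup.subset_closure ⟨b⁻¹, rfl⟩)

theorem hom_eq_one_of_sqGen {G M : Type*} [Group G] [Monoid M] (h : SqGen G) (φ : G →* M)
    (hφ : ∀ x, φ x * φ x = 1) (g : G) : φ g = 1 := by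
  have hg : g ∈ Subgroup.closure (Set.range fun x : G => x * x) := by rw [h]; trivial
  induction hg using Subgroup.closure_induction with
  | mem x hx => obtain ⟨y, rfl⟩ := hx; rw [map_mul, hφ]
  | one => exact map_one φ
  | mul x y _ _ hx hy => rw [map_mul, hx, hy, mul_one]
  | inv x _ hx =>
    have := map_mul φ x x⁻¹
    rw [mul_inv_cancel, map_one, hx, one_mul] at this
    exact this.symm

theorem sqGen_prod {G H : Type*} [Group G] [Group H] (hG : SqGen G) (hH : SqGen H) :
    SqGen (G × H) := by
  refine eq_top_iff.mpr fun p _ => ?_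
  have h1 : ((p.1, 1) : G × H) ∈ Subgroup.closure (Set.range fun x : G × H => x * x) := by
    have hp : p.1 ∈ Subgroup.closure (Set.range fun x : G => x * x) := by rw [hG]; trivial
    have := Subgroup.mem_map_of_mem (MonoidHom.inl G H) hp
    rw [MonoidHom.map_closure] at this
    refine Subgroup.closure_mono ?_ this
    rintro _ ⟨_, ⟨x, rfl⟩, rfl⟩
    exact ⟨(x, 1), by simp⟩
  have h2 : ((1, p.2) : G × H) ∈ Subgroup.closure (Set.range fun x : G × H => x * x) := by
    have hp : p.2 ∈ Subgroup.closure (Set.range fun x : H => x * x) := by rw [hH]; trivial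
    have := Subgroup.mem_map_of_mem (MonoidHom.inr G H) hp
    rw [MonoidHom.map_closure] at this
    refine Subgroup.closure_mono ?_ this
    rintro _ ⟨_, ⟨x, rfl⟩, rfl⟩
    exact ⟨(1, x), by simp⟩
  simpa using mul_mem h1 h2

variable {F : Type*} [Field F] [Finite F]

theorem sqGen_SL {ι : Type*} [Fintype ι] [DecidableEq ι] [Nontrivial ι]
    (h : (2 : F) ≠ 0 ∨ 3 ≤ Fintype.card ι ∨ ∃ x : F, x ≠ 0 ∧ x ^ 2 ≠ 1) :
    SqGen (Matrix.SpecialLinearGroup ι F) := by
  by_cases h2 : (2 : F) = 0
  · exact sqGen_of_perfect (CfsgLib.Linear.commutator_SL_eq_top (h.resolve_left fun e => e h2))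
  refine eq_top_iff.mpr fun A _ => CfsgLib.Linear.transvection_induction _ (fun i j hij c => ?_)
    (fun _ _ => mul_mem) A
  refine Subgroup.subset_closure ⟨Matrix.SpecialLinearGroup.transvection hij (c / 2), ?_⟩
  change Matrix.SpecialLinearGroup.transvection hij (c / 2) *
    Matrix.SpecialLinearGroup.transvection hij (c / 2) = _
  rw [← Matrix.SpecialLinearGroup.transvection_add hij]
  congr 1
  field_simp
  ring

variable {V : Type*} [AddCommGroup V] [Module F V] [FiniteDimensional F V] {Q : QuadraticForm F V}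
  (hQ : (polarBilin Q).Nondegenerate) {G : Type*} [Group G] [Finite G]

include hQ in
theorem range_eq_commutator_odd (h2 : (2 : F) ≠ 0) (hn : 2 ≤ Module.finrank F V)
    (f : G →* oGroup Q) (hsq : SqGen G)
    (hcard : 4 * Nat.card G = Nat.card f.ker * Nat.card (oGroup Q)) :
    f.range = commutator (oGroup Q) := by
  haveI : Finite V := Module.finite_of_finite F
  haveI : Finite (oGroup Q) := Finite.of_injective (fun g : oGroup Q => (g.1 : V → V))
    fun g h e => Subtype.ext (LinearEquiv.ext fun v => congrFun e v)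
  obtain ⟨θ, hθ⟩ := exists_spinor hQ h2 hn
  have hle : f.range ≤ commutator (oGroup Q) := by
    rintro _ ⟨g, rfl⟩
    refine (mem_commutator_iff hQ h2 hn hθ _).mpr ⟨?_, ?_⟩
    · exact (detSign_eq_one (hQ := hQ) (h2 := h2)).mp (hom_eq_one_of_sqGen hsq ((detSign hQ h2).comp f)
        (fun x => Int.units_mul_self _) g)
    · exact hom_eq_one_of_sqGen hsq (θ.comp f) (fun x => Int.units_mul_self _) g
  refine Subgroup.eq_of_le_of_card_ge hle ?_
  have h1 := Subgroup.index_mul_card (commutator (oGroup Q))
  rw [index_commutator_odd hQ h2 hn] at h1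
  have h3 := Subgroup.card_eq_card_quotient_mul_card_subgroup f.ker
  rw [Nat.card_congr (QuotientGroup.quotientKerEquivRange f).toEquiv] at h3
  have hk : 0 < Nat.card f.ker := Nat.card_pos
  rw [← h1, h3] at hcard
  nlinarith

omit [Finite F] in
theorem range_eq_commutator_perfect [Finite (oGroup Q)] (f : G →* oGroup Q)
    (hperf : commutator G = ⊤) (hcard : 2 * Nat.card G = Nat.card f.ker * Nat.card (oGroup Q)) :
    f.range = commutator (oGroup Q) := by
  have hle : f.range ≤ commutator (oGroup Q) := by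
    rw [MonoidHom.range_eq_map, ← hperf, map_commutator_eq]
    exact Subgroup.commutator_mono le_top le_top
  refine le_antisymm hle ?_
  have h1 := Subgroup.index_mul_card f.range
  have h3 := Subgroup.card_eq_card_quotient_mul_card_subgroup f.ker
  rw [Nat.card_congr (QuotientGroup.quotientKerEquivRange f).toEquiv] at h3
  have hk : 0 < Nat.card f.ker := Nat.card_pos
  have hr : 0 < Nat.card f.range := Nat.card_pos
  rw [h3, ← h1] at hcard
  have hidx : f.range.index = 2 := by
    have : (f.range.index * Nat.card f.range) * Nat.card f.ker =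
        (2 * Nat.card f.range) * Nat.card f.ker := by linarith
    exact Nat.eq_of_mul_eq_mul_right hr (Nat.eq_of_mul_eq_mul_right hk this)
  rw [commutator_eq_closure]
  refine (Subgroup.closure_le _).mpr ?_
  rintro _ ⟨a, b, rfl⟩
  rw [SetLike.mem_coe, commutatorElement_def, Subgroup.mul_mem_iff_of_index_two hidx,
    Subgroup.mul_mem_iff_of_index_two hidx, Subgroup.mul_mem_iff_of_index_two hidx, inv_mem_iff,
    inv_mem_iff]
  tauto

omit [Finite F] [Finite G] [FiniteDimensional F V] in
/-- The central quotient of the source is the central quotient of the image. -/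
theorem nonempty_central_quotient (f : G →* oGroup Q) (hrange : f.range = commutator (oGroup Q))
    (hsq : SqGen G) (hker : ∀ g, f g = 1 → g ∈ Subgroup.center G ∧ g * g = 1) :
    Nonempty (↥(commutator (oGroup Q)) ⧸ Subgroup.center ↥(commutator (oGroup Q)) ≃*
      G ⧸ Subgroup.center G) := by
  let f' : G →* commutator (oGroup Q) := f.codRestrict _ fun g => hrange ▸ ⟨g, rfl⟩
  have hsurj : Function.Surjective f' := by
    rintro ⟨y, hy⟩
    rw [← hrange] at hy
    obtain ⟨g, rfl⟩ := hy
    exact ⟨g, rfl⟩
  let φ : G →* ↥(commutator (oGroup Q)) ⧸ Subgroup.center ↥(commutator (oGroup Q)) :=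
    (QuotientGroup.mk' _).comp f'
  have hφ : φ.ker = Subgroup.center G := by
    ext g
    rw [MonoidHom.mem_ker]
    change QuotientGroup.mk (f' g) = 1 ↔ _
    rw [QuotientGroup.eq_one_iff]
    constructor
    · intro hg
      have hk : ∀ x, f (g * x * g⁻¹ * x⁻¹) = 1 := fun x => by
        have h := Subgroup.mem_center_iff.mp hg (f' x)
        have h' : f x * f g = f g * f x := congrArg Subtype.val h
        rw [map_mul, map_mul, map_mul, map_inv, map_inv, ← h', mul_inv_cancel_right, mul_inv_cancel]
      let ψ : G →* G := MonoidHom.mk' (fun x => g * x * g⁻¹ * x⁻¹) fun x y => by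
        have hc := Subgroup.mem_center_iff.mp (hker _ (hk y)).1
        calc g * (x * y) * g⁻¹ * (x * y)⁻¹
            = g * x * g⁻¹ * ((g * y * g⁻¹ * y⁻¹) * x⁻¹) := by group
          _ = g * x * g⁻¹ * (x⁻¹ * (g * y * g⁻¹ * y⁻¹)) := by rw [← hc x⁻¹]
          _ = _ := by group
      refine Subgroup.mem_center_iff.mpr fun x => ?_
      have h1 : g * x * g⁻¹ * x⁻¹ = 1 :=
        hom_eq_one_of_sqGen hsq ψ (fun y => (hker _ (hk y)).2) x
      calc x * g = (g * x * g⁻¹ * x⁻¹) * x * g := by rw [h1, one_mul]
        _ = g * x := by group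
    · intro hg
      refine Subgroup.mem_center_iff.mpr fun y => ?_
      obtain ⟨x, rfl⟩ := hsurj y
      rw [← map_mul, ← map_mul, Subgroup.mem_center_iff.mp hg x]
  exact ⟨((QuotientGroup.quotientMulEquivOfEq hφ.symm).trans
    (QuotientGroup.quotientKerEquivOfSurjective φ
      ((QuotientGroup.mk'_surjective _).comp hsurj))).symm⟩

/-- Central quotients of products. -/
theorem nonempty_quotient_prod {A B : Type*} [Group A] [Group B] :
    Nonempty ((A × B) ⧸ Subgroup.center (A × B) ≃*
      (A ⧸ Subgroup.center A) × (B ⧸ Subgroup.center B)) := by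
  let φ : A × B →* (A ⧸ Subgroup.center A) × (B ⧸ Subgroup.center B) :=
    (QuotientGroup.mk' _).prodMap (QuotientGroup.mk' _)
  have hφ : φ.ker = Subgroup.center (A × B) := by
    ext ⟨a, b⟩
    rw [MonoidHom.mem_ker]
    change (QuotientGroup.mk a, QuotientGroup.mk b) = (1 : (A ⧸ _) × (B ⧸ _)) ↔ _
    rw [Prod.mk_eq_one, QuotientGroup.eq_one_iff, QuotientGroup.eq_one_iff,
      Subgroup.mem_center_iff, Subgroup.mem_center_iff, Subgroup.mem_center_iff]
    exact ⟨fun h p => Prod.ext (h.1 p.1) (h.2 p.2), fun h =>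
      ⟨fun x => congrArg Prod.fst (h (x, b)), fun y => congrArg Prod.snd (h (a, y))⟩⟩
  exact ⟨(QuotientGroup.quotientMulEquivOfEq hφ.symm).trans
    (QuotientGroup.quotientKerEquivOfSurjective φ
      (fun p => by
        obtain ⟨a, ha⟩ := QuotientGroup.mk'_surjective (Subgroup.center A) p.1
        obtain ⟨b, hb⟩ := QuotientGroup.mk'_surjective (Subgroup.center B) p.2
        exact ⟨(a, b), Prod.ext ha hb⟩))⟩

end CfsgLib.Quad
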