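import Cfsg.Agent.Quad.Parity

/-!
Siegel transformations generate the commutator subgroup in dimension at least five.
-/

set_option autoImplicit false
set_option linter.style.haveILetI false

namespace CfsgLib.Quad

open QuadraticMap CfsgLib.Forms

variable {F V : Type*} [Field F] [AddCommGroup V] [Module F V]

/-- The linear map of a Siegel transformation. -/
def siegelMap (Q : QuadraticForm F V) (e a : V) : V →ₗ[F] V where
  toFun x := x + polar Q x e • a - (polar Q x a + Q a * polar Q x e) • e
  map_add' x y := by simp only [polar_add_left]; module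
  map_smul' c x := by simp only [polar_smul_left, smul_eq_mul, RingHom.id_apply]; module

theorem siegelMap_preserves {Q : QuadraticForm F V} {e a : V} (he : Q e = 0)
    (hea : polar Q e a = 0) (x : V) : Q (siegelMap Q e a x) = Q x := by
  change Q (x + polar Q x e • a - (polar Q x a + Q a * polar Q x e) • e) = Q x
  rw [sub_eq_add_neg, ← neg_smul, quad_add, quad_add, quad_smul, quad_smul, polar_add_left,
    polar_smul_right, polar_smul_right, polar_smul_left, polar_smul_right, he,
    polar_comm (⇑Q) a e, hea]
  simp only [smul_eq_mul]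
  ring

theorem siegelMap_comp {Q : QuadraticForm F V} {e a b : V} (he : Q e = 0) (hea : polar Q e a = 0)
    (heb : polar Q e b = 0) (x : V) :
    siegelMap Q e a (siegelMap Q e b x) = siegelMap Q e (a + b) x := by
  change x + polar Q x e • b - (polar Q x b + Q b * polar Q x e) • e +
      polar Q (x + polar Q x e • b - (polar Q x b + Q b * polar Q x e) • e) e • a -
      (polar Q (x + polar Q x e • b - (polar Q x b + Q b * polar Q x e) • e) a +
        Q a * polar Q (x + polar Q x e • b - (polar Q x b + Q b * polar Q x e) • e) e) • e =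
    x + polar Q x e • (a + b) - (polar Q x (a + b) + Q (a + b) * polar Q x e) • e
  simp only [polar_sub_left, polar_add_left, polar_smul_left, polar_add_right, polar_self, he,
    hea, polar_comm (⇑Q) b e, heb, smul_zero, smul_eq_mul, mul_zero, add_zero, sub_zero, quad_add,
    polar_comm (⇑Q) b a]
  module

theorem siegelMap_zero (Q : QuadraticForm F V) (e x : V) : siegelMap Q e 0 x = x := by
  change x + polar Q x e • 0 - (polar Q x 0 + Q 0 * polar Q x e) • e = x
  simp

/-- The Siegel transformation (the identity unless `e` is singular and orthogonal to `a`). -/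
noncomputable def siegel (Q : QuadraticForm F V) (e a : V) : oGroup Q :=
  haveI := Classical.propDecidable (Q e = 0 ∧ polar Q e a = 0)
  if h : Q e = 0 ∧ polar Q e a = 0 then
    ⟨LinearEquiv.ofLinearMap (siegelMap Q e a) (siegelMap Q e (-a))
        (LinearMap.ext fun x => by
          rw [LinearMap.comp_apply, LinearMap.id_apply,
            siegelMap_comp h.1 h.2 (by rw [polar_neg_right, h.2, neg_zero]), add_neg_cancel,
            siegelMap_zero])
        (LinearMap.ext fun x => by
          rw [LinearMap.comp_apply, LinearMap.id_apply,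
            siegelMap_comp h.1 (by rw [polar_neg_right, h.2, neg_zero]) h.2, neg_add_cancel,
            siegelMap_zero]),
      siegelMap_preserves h.1 h.2⟩
  else 1

variable {Q : QuadraticForm F V}

theorem siegel_apply {e a : V} (he : Q e = 0) (hea : polar Q e a = 0) (x : V) :
    (siegel Q e a).1 x = x + polar Q x e • a - (polar Q x a + Q a * polar Q x e) • e := by
  rw [siegel, dif_pos ⟨he, hea⟩]
  rfl

theorem siegel_mul {e a b : V} (he : Q e = 0) (hea : polar Q e a = 0) (heb : polar Q e b = 0) :
    siegel Q e a * siegel Q e b = siegel Q e (a + b) := by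
  refine Subtype.ext (LinearEquiv.ext fun x => ?_)
  change (siegel Q e a).1 ((siegel Q e b).1 x) = (siegel Q e (a + b)).1 x
  rw [siegel_apply he hea, siegel_apply he heb,
    siegel_apply he (by rw [polar_add_right, hea, heb, add_zero])]
  exact siegelMap_comp he hea heb x

theorem siegel_zero {e : V} (he : Q e = 0) : siegel Q e 0 = 1 := by
  refine Subtype.ext (LinearEquiv.ext fun x => ?_)
  rw [siegel_apply he (polar_zero_right Q e)]
  exact siegelMap_zero Q e x

theorem siegel_inv {e a : V} (he : Q e = 0) (hea : polar Q e a = 0) :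
    (siegel Q e a)⁻¹ = siegel Q e (-a) :=
  inv_eq_of_mul_eq_one_right (by
    rw [siegel_mul he hea (by rw [polar_neg_right, hea, neg_zero]), add_neg_cancel, siegel_zero he])

theorem siegel_conj (g : oGroup Q) {e a : V} (he : Q e = 0) (hea : polar Q e a = 0) :
    g * siegel Q e a * g⁻¹ = siegel Q (g.1 e) (g.1 a) := by
  refine Subtype.ext (LinearEquiv.ext fun x => ?_)
  change g.1 ((siegel Q e a).1 (g.1.symm x)) = _
  rw [siegel_apply he hea, siegel_apply (by rw [g.2, he]) (by rw [polar_oGroup, hea]), map_sub,
    map_add, map_smul, map_smul, LinearEquiv.apply_symm_apply, g.2]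
  conv_rhs => rw [← LinearEquiv.apply_symm_apply g.1 x, polar_oGroup, polar_oGroup]
  rw [LinearEquiv.apply_symm_apply]

theorem siegel_smul {e a : V} (he : Q e = 0) (hea : polar Q e a = 0) (t : F) :
    siegel Q (t • e) a = siegel Q e (t • a) := by
  refine Subtype.ext (LinearEquiv.ext fun x => ?_)
  rw [siegel_apply (by rw [quad_smul, he, mul_zero])
      (by rw [polar_smul_left, hea, smul_zero]),
    siegel_apply he (by rw [polar_smul_right, hea, smul_zero])]
  simp only [polar_smul_right, quad_smul, smul_eq_mul]
  module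

theorem siegel_add_smul {e a : V} (he : Q e = 0) (hea : polar Q e a = 0) (t : F) :
    siegel Q e (a + t • e) = siegel Q e a := by
  have hee : polar Q e e = 0 := by rw [polar_self, he, smul_zero]
  refine Subtype.ext (LinearEquiv.ext fun x => ?_)
  rw [siegel_apply he hea,
    siegel_apply he (by rw [polar_add_right, polar_smul_right, hee, hea, smul_zero, add_zero])]
  simp only [polar_add_right, polar_smul_right, quad_add, quad_smul, he, polar_comm (⇑Q) a e, hea,
    smul_eq_mul]
  module

theorem siegel_eq_refl_mul {e a : V} (he : Q e = 0) (hea : polar Q e a = 0) (ha : Q a ≠ 0) :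
    siegel Q e a = refl Q a * refl Q (a + Q a • e) := by
  have hae : polar Q a e = 0 := by rw [polar_comm, hea]
  have hb : Q (a + Q a • e) = Q a := by
    rw [quad_add, quad_smul, he, polar_smul_right, hae, smul_zero, mul_zero, add_zero, add_zero]
  refine Subtype.ext (LinearEquiv.ext fun x => ?_)
  change _ = (refl Q a).1 ((refl Q (a + Q a • e)).1 x)
  rw [siegel_apply he hea, refl_apply (a + Q a • e), hb, map_add, map_smul, map_add, map_smul,
    refl_self ha, refl_fix (show polar Q e a = 0 from hea), refl_apply,
    polar_add_right, polar_smul_right, smul_eq_mul]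
  match_scalars <;> field_simp <;> ring

/-- The group generated by all Siegel transformations. -/
def siegelGroup (Q : QuadraticForm F V) : Subgroup (oGroup Q) :=
  Subgroup.closure {g | ∃ e a, Q e = 0 ∧ polar Q e a = 0 ∧ g = siegel Q e a}

theorem siegel_mem_group {e a : V} (he : Q e = 0) (hea : polar Q e a = 0) :
    siegel Q e a ∈ siegelGroup Q := Subgroup.subset_closure ⟨e, a, he, hea, rfl⟩

theorem siegelGroup_conj (g : oGroup Q) {h : oGroup Q} (hh : h ∈ siegelGroup Q) :
    g * h * g⁻¹ ∈ siegelGroup Q := by
  induction hh using Subgroup.closure_induction with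
  | mem x hx =>
    obtain ⟨e, a, he, hea, rfl⟩ := hx
    rw [siegel_conj g he hea]
    exact siegel_mem_group (by rw [g.2, he]) (by rw [polar_oGroup, hea])
  | one => rw [mul_one, mul_inv_cancel]; exact one_mem _
  | mul x y _ _ hx hy =>
    rw [show g * (x * y) * g⁻¹ = (g * x * g⁻¹) * (g * y * g⁻¹) by group]
    exact mul_mem hx hy
  | inv x _ hx =>
    rw [show g * x⁻¹ * g⁻¹ = (g * x * g⁻¹)⁻¹ by group]
    exact inv_mem hx

variable [FiniteDimensional F V] (hQ : (polarBilin Q).Nondegenerate)

include hQ

/-- A subspace of dimension more than half is not totally singular. -/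
theorem exists_aniso_of_finrank {K : Submodule F V}
    (h : Module.finrank F V < 2 * Module.finrank F K) : ∃ x ∈ K, Q x ≠ 0 := by
  by_contra hc
  push Not at hc
  have hle : K ≤ perpS Q K := fun a ha b hb => by
    simp only [polar, hc _ (K.add_mem hb ha), hc a ha, hc b hb, sub_zero]
  have h1 := finrank_perpS hQ K
  have h2 := Submodule.finrank_mono hle
  omega

/-- A subspace with a singular vector outside its radical is spanned by its singular vectors. -/
theorem span_singular_eq {X : Submodule F V} {z y : V} (hz : z ∈ X) (hy : y ∈ X) (hQz : Q z = 0)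
    (hzy : polar Q z y ≠ 0) :
    Submodule.span F {x | x ∈ X ∧ Q x = 0} = X := by
  set S := Submodule.span F {x | x ∈ X ∧ Q x = 0}
  have hzS : z ∈ S := Submodule.subset_span ⟨hz, hQz⟩
  have key : ∀ x ∈ X, polar Q z x ≠ 0 → x ∈ S := fun x hx hzx => by
    set t := -(Q x / polar Q z x) with ht
    have h1 : x + t • z ∈ S := Submodule.subset_span ⟨X.add_mem hx (X.smul_mem _ hz), by
      rw [quad_add, quad_smul, hQz, polar_smul_right, polar_comm (⇑Q) x z, smul_eq_mul, ht]
      field_simp; ring⟩
    have := S.sub_mem h1 (S.smul_mem t hzS)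
    rwa [add_sub_cancel_right] at this
  refine le_antisymm (Submodule.span_le.mpr fun x hx => hx.1) fun x hx => ?_
  by_cases h : polar Q z x = 0
  · have := S.sub_mem (key (x + y) (X.add_mem hx hy) (by rwa [polar_add_right, h, zero_add]))
      (key y hy hzy)
    rwa [add_sub_cancel_right] at this
  · exact key x hx h

variable [Finite F]

omit hQ in
theorem exists_singular_of_three (K : Submodule F V) (hK : 3 ≤ Module.finrank F K) :
    ∃ z ∈ K, z ≠ 0 ∧ Q z = 0 := by
  by_cases h2 : (2 : F) = 0
  · haveI : CharP F 2 := CharTwo.of_one_ne_zero_of_two_eq_zero one_ne_zero h2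
    obtain ⟨z, hz0, hz⟩ := exists_singular (Q.comp K.subtype) hK
    exact ⟨z, z.2, fun e => hz0 (Subtype.ext e), hz⟩
  by_contra hc
  push Not at hc
  have hns : ∀ z ∈ K, z ≠ 0 → Q z ≠ 0 := fun z hz hz0 e => hc z hz hz0 e
  haveI : Nontrivial K := Module.nontrivial_of_finrank_pos (R := F) (by omega)
  obtain ⟨⟨x, hxK⟩, hx⟩ := exists_ne (0 : K)
  have hx0 : x ≠ 0 := fun e => hx (Subtype.ext e)
  have hperp : ∀ l : List V, l.length ≤ 2 → ∃ y ∈ K, y ≠ 0 ∧ ∀ w ∈ l, polar Q y w = 0 := by
    intro l hl
    let φ : K →ₗ[F] (Fin l.length → F) :=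
      LinearMap.pi fun i => (polarFun Q (l.get i)).comp K.subtype
    obtain ⟨y, hy, hy0⟩ := Submodule.exists_mem_ne_zero_of_ne_bot
      (LinearMap.ker_ne_bot_of_finrank_lt (f := φ) (by simp; omega))
    refine ⟨y, y.2, fun e => hy0 (Subtype.ext e), fun w hw => ?_⟩
    obtain ⟨i, rfl⟩ := List.get_of_mem hw
    exact congrFun (LinearMap.mem_ker.mp hy) i
  obtain ⟨y, hyK, hy0, hy⟩ := hperp [x] (by simp)
  obtain ⟨z, hzK, hz0, hz⟩ := hperp [x, y] (by simp)
  have hyx : polar Q y x = 0 := hy x (by simp)
  have hzx : polar Q z x = 0 := hz x (by simp)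
  have hzy : polar Q z y = 0 := hz y (by simp)
  obtain ⟨s, t, hst⟩ := exists_binary h2 (hns x hxK hx0) (hns y hyK hy0) (-Q z)
  refine hns (s • x + t • y + z) (K.add_mem (K.add_mem (K.smul_mem _ hxK) (K.smul_mem _ hyK)) hzK)
    (fun e => ?_) ?_
  · have h := congrArg (fun v => polar Q z v) e
    simp only [polar_add_right, polar_smul_right, hzx, hzy, smul_zero, zero_add, polar_self,
      polar_zero_right, nsmul_eq_mul, Nat.cast_ofNat] at h
    exact hns z hzK hz0 ((mul_eq_zero.mp h).resolve_left h2)
  · simp only [quad_add, quad_smul, polar_add_left, polar_smul_left, polar_smul_right,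
      polar_comm (⇑Q) x y, polar_comm (⇑Q) x z, polar_comm (⇑Q) y z, hyx, hzx, hzy, smul_zero]
    linear_combination hst

variable (hn : 5 ≤ Module.finrank F V)

include hn

/-- Every vector orthogonal to a singular `e` is, modulo `e`, a sum of singular such vectors. -/
theorem mem_of_singular_gen {e a : V} (he : Q e = 0) (hea : polar Q e a = 0) {N : Subgroup (oGroup Q)}
    (hN : ∀ b, Q b = 0 → polar Q e b = 0 → siegel Q e b ∈ N) : siegel Q e a ∈ N := by
  rcases eq_or_ne e 0 with rfl | he0
  · have : siegel Q 0 a = 1 := Subtype.ext (LinearEquiv.ext fun x => by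
      rw [siegel_apply he hea]; simp)
    rw [this]; exact one_mem _
  set L := Submodule.span F {e}
  have heP : e ∈ perpS Q L := fun h hh => by
    obtain ⟨t, rfl⟩ := Submodule.mem_span_singleton.mp hh
    rw [polar_smul_left, polar_self, he, smul_zero, smul_zero]
  obtain ⟨f, hf⟩ := exists_polar_ne hQ he0
  set K := perpS Q (L ⊔ Submodule.span F {f})
  have hKdim : 3 ≤ Module.finrank F K := by
    have h1 := finrank_perpS hQ (L ⊔ Submodule.span F {f})
    have h2 := (Submodule.finrank_add_le_finrank_add_finrank L (Submodule.span F {f}))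
    have h3 : Module.finrank F L ≤ 1 := (finrank_span_le_card ({e} : Set V)).trans (by simp)
    have h4 : Module.finrank F (Submodule.span F {f}) ≤ 1 :=
      (finrank_span_le_card ({f} : Set V)).trans (by simp)
    change 3 ≤ Module.finrank F ↥(perpS Q (L ⊔ Submodule.span F {f}))
    omega
  obtain ⟨z, hzK, hz0, hQz⟩ := exists_singular_of_three (Q := Q) K hKdim
  have hzL : z ∈ perpS Q L := fun h hh => hzK h (Submodule.mem_sup_left hh)
  obtain ⟨y, hyL, hzy⟩ : ∃ y ∈ perpS Q L, polar Q z y ≠ 0 := by
    by_contra hc
    push Not at hc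
    have hzz : z ∈ perpS Q (perpS Q L) := fun h hh => by rw [polar_comm]; exact hc h hh
    rw [perpS_perpS hQ] at hzz
    obtain ⟨t, rfl⟩ := Submodule.mem_span_singleton.mp hzz
    have := hzK f (Submodule.mem_sup_right (Submodule.mem_span_singleton_self f))
    rw [polar_smul_right, polar_comm (⇑Q) f e, smul_eq_mul, mul_eq_zero] at this
    exact hz0 (by rw [this.resolve_right hf, zero_smul])
  have key : ∀ x ∈ Submodule.span F {x | x ∈ perpS Q L ∧ Q x = 0},
      polar Q e x = 0 ∧ siegel Q e x ∈ N := by
    intro x hx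
    induction hx using Submodule.span_induction with
    | mem x hx =>
      have hex : polar Q e x = 0 := hx.1 e (Submodule.mem_span_singleton_self e)
      exact ⟨hex, hN x hx.2 hex⟩
    | zero => exact ⟨polar_zero_right Q e, by rw [siegel_zero he]; exact one_mem _⟩
    | add x y _ _ hx hy =>
      exact ⟨by rw [polar_add_right, hx.1, hy.1, add_zero],
        by rw [← siegel_mul he hx.1 hy.1]; exact mul_mem hx.2 hy.2⟩
    | smul t x hx hx' =>
      have hex := hx'.1
      refine ⟨by rw [polar_smul_right, hex, smul_zero], ?_⟩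
      clear hx'
      revert hex
      induction hx using Submodule.span_induction generalizing t with
      | mem x hx =>
        intro hex
        exact hN _ (by rw [quad_smul, hx.2, mul_zero]) (by rw [polar_smul_right, hex, smul_zero])
      | zero => intro _; rw [smul_zero, siegel_zero he]; exact one_mem _
      | add x y hx hy ihx ihy =>
        intro _
        have hperp : ∀ w ∈ Submodule.span F {x | x ∈ perpS Q L ∧ Q x = 0}, polar Q e w = 0 :=
          fun w hw => (Submodule.span_le.mpr fun x hx => hx.1) hw e
            (Submodule.mem_span_singleton_self e)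
        rw [smul_add, ← siegel_mul he (by rw [polar_smul_right, hperp x hx, smul_zero])
          (by rw [polar_smul_right, hperp y hy, smul_zero])]
        exact mul_mem (ihx t (hperp x hx)) (ihy t (hperp y hy))
      | smul s x hx ihx =>
        intro _
        have hperp : polar Q e x = 0 := (Submodule.span_le.mpr fun x hx => hx.1) hx e
          (Submodule.mem_span_singleton_self e)
        rw [smul_smul]; exact ihx (t * s) hperp
  refine (key a ?_).2
  rw [span_singular_eq hQ hzL hyL hQz hzy]
  intro h hh
  obtain ⟨t, rfl⟩ := Submodule.mem_span_singleton.mp hh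
  rw [polar_smul_left, hea, smul_zero]

/-- The generators with two singular vectors suffice. -/
theorem siegelGroup_eq_closure_singular :
    siegelGroup Q = Subgroup.closure
      {g | ∃ e a, Q e = 0 ∧ Q a = 0 ∧ polar Q e a = 0 ∧ g = siegel Q e a} := by
  refine le_antisymm ((Subgroup.closure_le _).mpr ?_) ((Subgroup.closure_le _).mpr ?_)
  · rintro _ ⟨e, a, he, hea, rfl⟩
    exact mem_of_singular_gen hQ hn he hea fun b hb heb =>
      Subgroup.subset_closure ⟨e, b, he, hb, heb, rfl⟩
  · rintro _ ⟨e, a, he, -, hea, rfl⟩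
    exact siegel_mem_group he hea

/-- Siegel transformations are products of two reflections with equal values. -/
theorem siegelGroup_le_commutator : siegelGroup Q ≤ commutator (oGroup Q) := by
  rw [siegelGroup_eq_closure_singular hQ hn]
  refine (Subgroup.closure_le _).mpr ?_
  rintro _ ⟨e, a, he, ha, hea, rfl⟩
  have hmem : ∀ b, polar Q e b = 0 → Q b ≠ 0 → siegel Q e b ∈ commutator (oGroup Q) := by
    intro b heb hb
    have hv : Q (b + Q b • e) = Q b := by
      rw [quad_add, quad_smul, he, polar_smul_right, polar_comm (⇑Q) b e, heb, smul_zero, mul_zero,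
        add_zero, add_zero]
    rw [siegel_eq_refl_mul he heb hb]
    exact refl_pair_mem_commutator hQ hb (by rw [hv]; exact hb) (by rw [hv]; exact IsSquare.mul_self _)
  set U := Submodule.span F (Set.range ![e, a])
  have hU : Module.finrank F U ≤ 2 := (finrank_range_le_card _).trans (by simp)
  have h1 := finrank_perpS hQ U
  obtain ⟨b, hb, hQb⟩ := exists_aniso_of_finrank hQ (K := perpS Q U) (by omega)
  have heb : polar Q e b = 0 := hb e (Submodule.subset_span ⟨0, rfl⟩)
  have hab : polar Q a b = 0 := hb a (Submodule.subset_span ⟨1, rfl⟩)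
  have hQab : Q (a + b) ≠ 0 := by rw [quad_add, ha, hab, zero_add, add_zero]; exact hQb
  have h2 : siegel Q e a = siegel Q e (a + b) * (siegel Q e b)⁻¹ := by
    rw [← siegel_mul he hea heb, mul_inv_cancel_right]
  rw [SetLike.mem_coe, h2]
  exact mul_mem (hmem _ (by rw [polar_add_right, hea, heb, add_zero]) hQab)
    (inv_mem (hmem b heb hQb))

/-- The Siegel group is transitive on vectors of a given non-zero value. -/
theorem exists_siegel_apply_eq {u v : V} (huv : Q u = Q v) (hu : Q u ≠ 0) :
    ∃ h ∈ siegelGroup Q, h.1 u = v := by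
  have hu0 : ∀ u, Q u ≠ 0 → u ≠ 0 := fun u hu e => hu (by rw [e, QuadraticMap.map_zero])
  have hadj : ∀ u d, Q u ≠ 0 → Q d = 0 → polar Q u d = 0 → ∃ h ∈ siegelGroup Q, h.1 u = u + d := by
    intro u d hu hd hud
    obtain ⟨y, hy, huy⟩ : ∃ y ∈ perpS Q (Submodule.span F {d}), polar Q u y ≠ 0 := by
      by_contra hc
      push Not at hc
      have huu : u ∈ perpS Q (perpS Q (Submodule.span F {d})) := fun h hh => by
        rw [polar_comm]; exact hc h hh
      rw [perpS_perpS hQ] at huu
      obtain ⟨t, rfl⟩ := Submodule.mem_span_singleton.mp huu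
      exact hu (by rw [quad_smul, hd, mul_zero])
    have hdy : polar Q d y = 0 := hy d (Submodule.mem_span_singleton_self d)
    set a := (-(polar Q u y)⁻¹) • y
    have hda : polar Q d a = 0 := by rw [polar_smul_right, hdy, smul_zero]
    refine ⟨siegel Q d a, siegel_mem_group hd hda, ?_⟩
    rw [siegel_apply hd hda, hud, polar_smul_right, smul_eq_mul, neg_mul, inv_mul_cancel₀ huy]
    module
  have hperpDim : ∀ u, Q u ≠ 0 →
      Module.finrank F V - 1 ≤ Module.finrank F (perpS Q (Submodule.span F {u})) := fun u hu => by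
    have h1 := finrank_perpS hQ (Submodule.span F {u})
    rw [finrank_span_singleton (hu0 u hu)] at h1
    omega
  have hindep : ∀ u v, Q u = Q v → Q u ≠ 0 → (∀ t : F, v ≠ t • u) →
      ∃ h ∈ siegelGroup Q, h.1 u = v := by
    intro u v huv hu hind
    set δ := Q (v - u) with hδ
    by_cases hδ0 : δ = 0
    · have hud : polar Q u (v - u) = 0 := by
        have h := quad_add Q u (v - u)
        rw [add_sub_cancel, ← hδ, hδ0, ← huv] at h
        linear_combination -h
      obtain ⟨h, hh, he⟩ := hadj u (v - u) hu hδ0 hud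
      exact ⟨h, hh, by rw [he, add_sub_cancel]⟩
    set X := perpS Q (Submodule.span F {u})
    have hXdim := hperpDim u hu
    obtain ⟨z, hzX, hz0, hQz⟩ := exists_singular_of_three (Q := Q) X (by
      change 3 ≤ Module.finrank F ↥(perpS Q (Submodule.span F {u})); omega)
    obtain ⟨y, hyX, hzy⟩ : ∃ y ∈ X, polar Q z y ≠ 0 := by
      by_contra hc
      push Not at hc
      have hzz : z ∈ perpS Q X := fun h hh => by rw [polar_comm]; exact hc h hh
      rw [perpS_perpS hQ] at hzz
      obtain ⟨t, rfl⟩ := Submodule.mem_span_singleton.mp hzz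
      rw [quad_smul, mul_eq_zero] at hQz
      exact hz0 (by rw [(mul_self_eq_zero.mp (hQz.resolve_right hu)), zero_smul])
    obtain ⟨d, ⟨hdX, hQd⟩, hvd⟩ : ∃ d ∈ {x | x ∈ X ∧ Q x = 0}, polar Q v d ≠ 0 := by
      by_contra hc
      push Not at hc
      have hvX : v ∈ perpS Q X := fun h hh => by
        rw [← span_singular_eq hQ hzX hyX hQz hzy] at hh
        induction hh using Submodule.span_induction with
        | mem x hx => rw [polar_comm]; exact hc x hx
        | zero => rw [polar_zero_left]
        | add x y _ _ hx hy => rw [polar_add_left, hx, hy, add_zero]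
        | smul t x _ hx => rw [polar_smul_left, hx, smul_zero]
      rw [perpS_perpS hQ] at hvX
      obtain ⟨t, ht⟩ := Submodule.mem_span_singleton.mp hvX
      exact hind t ht.symm
    set d' := (δ / polar Q v d) • d
    have hQd' : Q d' = 0 := by rw [quad_smul, hQd, mul_zero]
    have hud' : polar Q u d' = 0 := by
      rw [polar_smul_right, hdX u (Submodule.mem_span_singleton_self u), smul_zero]
    have hvd' : polar Q v d' = δ := by
      rw [polar_smul_right, smul_eq_mul, div_mul_cancel₀ _ hvd]
    obtain ⟨h1, m1, e1⟩ := hadj u d' hu hQd' hud'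
    set w := u + d'
    have hQw : Q w = Q u := by rw [quad_add, hQd', hud', add_zero, add_zero]
    have hQvw : Q (v - w) = 0 := by
      rw [show v - w = (v - u) + (-d') by simp only [w]; abel, quad_add, QuadraticMap.map_neg,
        hQd', polar_neg_right, polar_sub_left, hud', hvd', sub_zero, ← hδ]
      ring
    have hwd : polar Q w (v - w) = 0 := by
      have h := quad_add Q w (v - w)
      rw [add_sub_cancel, hQw, hQvw, ← huv] at h
      linear_combination -h
    obtain ⟨h2, m2, e2⟩ := hadj w (v - w) (hQw ▸ hu) hQvw hwd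
    refine ⟨h2 * h1, mul_mem m2 m1, ?_⟩
    change h2.1 (h1.1 u) = v
    rw [e1, e2, add_sub_cancel]
  by_cases hdep : ∀ t : F, v ≠ t • u
  · exact hindep u v huv hu hdep
  push Not at hdep
  obtain ⟨t, rfl⟩ := hdep
  obtain ⟨d, hdX, hd0, hQd⟩ := exists_singular_of_three (Q := Q) (perpS Q (Submodule.span F {u}))
    (by have := hperpDim u hu; omega)
  have hud : polar Q u d = 0 := hdX u (Submodule.mem_span_singleton_self u)
  obtain ⟨h1, m1, e1⟩ := hadj u d hu hQd hud
  have hQw : Q (u + d) = Q u := by rw [quad_add, hQd, hud, add_zero, add_zero]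
  obtain ⟨h2, m2, e2⟩ := hindep (u + d) (t • u) (hQw.trans huv) (hQw ▸ hu) fun s hs => by
    have hQs := congrArg Q hs
    rw [quad_smul Q s, hQw, ← huv] at hQs
    have hs0 : s ≠ 0 := fun e => hu (by rw [hQs, e]; ring)
    have hds : s • d = (t - s) • u := by rw [sub_smul, hs]; module
    have := congrArg Q hds
    rw [quad_smul, hQd, mul_zero, quad_smul, eq_comm, mul_eq_zero] at this
    have hts : t - s = 0 := mul_self_eq_zero.mp (this.resolve_right hu)
    rw [hts, zero_smul] at hds
    exact hd0 ((smul_eq_zero.mp hds).resolve_left hs0)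
  refine ⟨h2 * h1, mul_mem m2 m1, ?_⟩
  change h2.1 (h1.1 u) = t • u
  rw [e1, e2]

/-- Siegel transformations generate the commutator subgroup. -/
theorem siegelGroup_eq_commutator : siegelGroup Q = commutator (oGroup Q) := by
  refine le_antisymm (siegelGroup_le_commutator hQ hn) fun g hg => ?_
  have hpair : ∀ u v, Q u ≠ 0 → Q v ≠ 0 → IsSquare (Q u * Q v) →
      refl Q u * refl Q v ∈ siegelGroup Q := by
    intro u v hu hv huv
    obtain ⟨r, hr⟩ := huv
    have hr0 : r ≠ 0 := fun e => mul_ne_zero hu hv (by rw [hr, e, mul_zero])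
    have hQ' : Q ((r / Q v) • v) = Q u := by
      rw [quad_smul]; field_simp; rw [pow_two, ← hr]; ring
    obtain ⟨h, hh, he⟩ := exists_siegel_apply_eq hQ hn hQ'.symm hu
    have hrv : refl Q v = h * refl Q u * h⁻¹ := by
      rw [refl_conj, he, refl_smul (div_ne_zero hr0 hv)]
    rw [hrv, show refl Q u * (h * refl Q u * h⁻¹) = (refl Q u * h * (refl Q u)⁻¹) * h⁻¹ by
      rw [refl_inv]; simp only [mul_assoc]]
    exact mul_mem (siegelGroup_conj _ hh) (inv_mem hh)
  by_cases h2 : (2 : F) = 0
  · haveI : CharP F 2 := CharTwo.of_one_ne_zero_of_two_eq_zero one_ne_zero h2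
    have hgen : (∃ t : F, t ≠ 0 ∧ t ≠ 1) ∨ Module.finrank F V ≠ 4 := Or.inr (by omega)
    obtain ⟨ε, hε⟩ := exists_parity hQ hgen
    exact mem_commutator_char_two hQ hgen hε
      (fun u v hu hv => hpair u v hu hv (isSquare_char_two _))
      (by rwa [commutator_char_two hQ hgen hε] at hg)
  · obtain ⟨θ, hθ⟩ := exists_spinor hQ h2 (by omega)
    obtain ⟨hd, ht⟩ := (mem_commutator_iff hQ h2 (by omega) hθ g).mp hg
    refine mem_of_pairs hQ h2 (by omega) hθ hpair ?_ hd ht
    exact (siegelGroup_le_commutator hQ hn).trans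
      (le_inf (Abelianization.commutator_subset_ker _) (Abelianization.commutator_subset_ker _))

end CfsgLib.Quad
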