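import Cfsg.Agent.Quad.Hyp
import Cfsg.Prelude.Def_ClassicalGeometry
import Mathlib.LinearAlgebra.Transvection.Basic

/-!
Reflections: Cartan–Dieudonné and the parity of the fixed space, in every characteristic.
-/

set_option autoImplicit false
set_option linter.style.haveILetI false

namespace CfsgLib.Quad

open QuadraticMap CfsgLib.Forms

variable {F V : Type*} [Field F] [AddCommGroup V] [Module F V] {Q : QuadraticForm F V}

/-- Polar value against a vector, as a functional. -/
def polarFun (Q : QuadraticForm F V) (d : V) : Module.Dual F V where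
  toFun x := polar Q x d
  map_add' x y := polar_add_left Q x y d
  map_smul' c x := by simp [polar_smul_left]

theorem polarFun_apply (d x : V) : polarFun Q d x = polar Q x d := rfl

/-- The linear map underlying a reflection. -/
def reflMap (Q : QuadraticForm F V) (d : V) : V →ₗ[F] V :=
  LinearMap.transvection (-(Q d)⁻¹ • polarFun Q d) d

theorem reflMap_apply (d x : V) :
    reflMap Q d x = x + (-(Q d)⁻¹ * polar Q x d) • d := rfl

theorem reflMap_preserves (d x : V) : Q (reflMap Q d x) = Q x := by
  rw [reflMap_apply, quad_add, quad_smul, polar_smul_right, smul_eq_mul]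
  by_cases h : Q d = 0
  · rw [h]; simp
  · field_simp
    ring

theorem reflMap_involutive (d : V) : Function.Involutive (reflMap Q d) := by
  intro x
  simp only [reflMap_apply, polar_add_left, polar_smul_left, polar_self, smul_eq_mul, nsmul_eq_mul,
    Nat.cast_ofNat, add_assoc, ← add_smul]
  by_cases h : Q d = 0
  · rw [h]; simp
  · rw [show -(Q d)⁻¹ * polar Q x d + -(Q d)⁻¹ *
      (polar Q x d + -(Q d)⁻¹ * polar Q x d * (2 * Q d)) = 0 by field_simp; ring]
    simp

/-- The reflection in `d` (the identity if `Q d = 0`). -/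
def refl (Q : QuadraticForm F V) (d : V) : oGroup Q :=
  ⟨LinearEquiv.ofInvolutive (reflMap Q d) (reflMap_involutive d), reflMap_preserves d⟩

theorem refl_apply (d x : V) : (refl Q d).1 x = x + (-(Q d)⁻¹ * polar Q x d) • d := rfl

theorem refl_toLinearMap (d : V) : (refl Q d).1.toLinearMap = reflMap Q d := rfl

theorem refl_mul_self (d : V) : refl Q d * refl Q d = 1 :=
  Subtype.ext (LinearEquiv.ext fun x => reflMap_involutive d x)

theorem refl_inv (d : V) : (refl Q d)⁻¹ = refl Q d :=
  inv_eq_of_mul_eq_one_right (refl_mul_self d)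

theorem refl_self {d : V} (hd : Q d ≠ 0) : (refl Q d).1 d = -d := by
  rw [refl_apply, polar_self, nsmul_eq_mul, Nat.cast_ofNat, ← mul_assoc, mul_comm _ (2 : F),
    mul_assoc, neg_mul, inv_mul_cancel₀ hd]
  module

theorem refl_fix {d x : V} (h : polar Q x d = 0) : (refl Q d).1 x = x := by
  rw [refl_apply, h, mul_zero, zero_smul, add_zero]

theorem refl_smul {t : F} (ht : t ≠ 0) (d : V) : refl Q (t • d) = refl Q d := by
  refine Subtype.ext (LinearEquiv.ext fun x => ?_)
  rw [refl_apply, refl_apply, quad_smul, polar_smul_right, smul_eq_mul, smul_smul]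
  congr 2
  by_cases h : Q d = 0
  · rw [h]; simp
  · field_simp

theorem refl_conj (g : oGroup Q) (d : V) : g * refl Q d * g⁻¹ = refl Q (g.1 d) := by
  refine Subtype.ext (LinearEquiv.ext fun x => ?_)
  change g.1 ((refl Q d).1 (g.1.symm x)) = _
  rw [refl_apply, refl_apply, map_add, map_smul, g.2, LinearEquiv.apply_symm_apply]
  congr 3
  conv_rhs => rw [← LinearEquiv.apply_symm_apply g.1 x, polar_oGroup]

theorem refl_map {x y : V} (hxy : Q x = Q y) (hd : Q (y - x) ≠ 0) :
    (refl Q (y - x)).1 x = y := by
  have h : Q (y - x) = -polar Q x (y - x) := by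
    have := quad_add Q x (y - x)
    rw [add_sub_cancel, hxy] at this
    linear_combination -this
  rw [refl_apply, h, inv_neg, neg_neg, inv_mul_cancel₀ (fun e => hd (by rw [h, e, neg_zero])),
    one_smul, add_sub_cancel]

variable [FiniteDimensional F V]

theorem det_refl {d : V} (hd : Q d ≠ 0) : LinearMap.det (refl Q d).1.toLinearMap = -1 := by
  rw [refl_toLinearMap, reflMap, LinearMap.transvection.det]
  simp only [LinearMap.smul_apply, polarFun_apply, polar_self, nsmul_eq_mul, smul_eq_mul]
  push_cast
  field_simp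
  ring

/-- The subgroup generated by reflections. -/
def reflGroup (Q : QuadraticForm F V) : Subgroup (oGroup Q) := Subgroup.closure (Set.range (refl Q))

theorem refl_mem (d : V) : refl Q d ∈ reflGroup Q := Subgroup.subset_closure ⟨d, rfl⟩

/-- Vectors orthogonal to a subspace. -/
def perpS (Q : QuadraticForm F V) (H : Submodule F V) : Submodule F V where
  carrier := {x | ∀ h ∈ H, polar Q h x = 0}
  zero_mem' := fun h _ => polar_zero_right Q h
  add_mem' := fun {x y} hx hy h hh => by rw [polar_add_right, hx h hh, hy h hh, add_zero]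
  smul_mem' := fun c x hx h hh => by rw [polar_smul_right, hx h hh, smul_zero]

theorem mem_perpS {H : Submodule F V} {x : V} : x ∈ perpS Q H ↔ ∀ h ∈ H, polar Q h x = 0 := Iff.rfl

/-- The fixed space. -/
def fixSp (g : oGroup Q) : Submodule F V := LinearMap.ker (g.1.toLinearMap - LinearMap.id)

theorem mem_fixSp {g : oGroup Q} {x : V} : x ∈ fixSp g ↔ g.1 x = x := by
  simp [fixSp, sub_eq_zero]

variable (hQ : (polarBilin Q).Nondegenerate)

include hQ in
theorem exists_polar_ne {x : V} (hx : x ≠ 0) : ∃ y, polar Q x y ≠ 0 := by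
  by_contra h
  push Not at h
  exact hx (hQ.1 x h)

include hQ in
theorem mem_of_no_singular {H : Submodule F V} (hH : H ⊔ perpS Q H = ⊤)
    (hns : ∀ x ∈ perpS Q H, Q x = 0 → x = 0) (g : oGroup Q) (hg : ∀ x ∈ H, g.1 x = x) :
    g ∈ reflGroup Q := by
  induction hk : Module.finrank F V - Module.finrank F (fixSp g) using Nat.strong_induction_on
    generalizing g with
  | _ k ih =>
  by_cases hP : ∀ x ∈ perpS Q H, g.1 x = x
  · have : g = 1 := Subtype.ext (LinearEquiv.ext fun x => by
      obtain ⟨a, ha, b, hb, rfl⟩ := Submodule.mem_sup.mp (hH ▸ Submodule.mem_top : x ∈ H ⊔ perpS Q H)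
      rw [map_add, hg a ha, hP b hb]; rfl)
    rw [this]; exact one_mem _
  push Not at hP
  obtain ⟨x, hx, hgx⟩ := hP
  set d := x - g.1 x with hd
  have hgxP : g.1 x ∈ perpS Q H := fun h hh => by
    rw [← hg h hh, polar_oGroup]; exact hx h hh
  have hd0 : Q d ≠ 0 := fun e => hgx (sub_eq_zero.mp
    (hns d (Submodule.sub_mem _ hx hgxP) e)).symm
  set g' := refl Q d * g with hg'
  have hfixle : ∀ y, g.1 y = y → g'.1 y = y := by
    intro y hy
    change (refl Q d).1 (g.1 y) = y
    rw [hy]
    refine refl_fix ?_
    rw [hd, polar_sub_right, sub_eq_zero]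
    conv_rhs => rw [← hy, polar_oGroup]
  have hx' : g'.1 x = x := refl_map (g.2 x) hd0
  have hlt : fixSp g < fixSp g' := by
    refine lt_of_le_of_ne (fun y hy => mem_fixSp.mpr (hfixle y (mem_fixSp.mp hy))) fun e => ?_
    exact hgx (mem_fixSp.mp (e ▸ mem_fixSp.mpr hx' : x ∈ fixSp g))
  have h1 := Submodule.finrank_lt_finrank_of_lt hlt
  have h2 := Submodule.finrank_le (fixSp g')
  have := ih _ (by omega) g' (fun y hy => hfixle y (hg y hy)) rfl
  have := mul_mem (refl_mem (Q := Q) d) this
  rwa [hg', ← mul_assoc, refl_mul_self, one_mul] at this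

include hQ in
theorem mem_reflGroup_of_fix (hgen : (∃ t : F, t ≠ 0 ∧ t ≠ 1) ∨ Module.finrank F V ≠ 4) :
    ∀ (k : ℕ) (H : Submodule F V), Module.finrank F (perpS Q H) ≤ k → H ⊔ perpS Q H = ⊤ →
      ∀ g : oGroup Q, (∀ x ∈ H, g.1 x = x) → g ∈ reflGroup Q := by
  intro k
  induction k with
  | zero =>
    intro H hk hH g hg
    refine mem_of_no_singular hQ hH (fun x hx _ => ?_) g hg
    have : perpS Q H = ⊥ := Submodule.finrank_eq_zero.mp (Nat.le_zero.mp hk)
    rw [this] at hx
    exact hx
  | succ k ih =>
    intro H hk hH g hg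
    by_cases hns : ∀ x ∈ perpS Q H, Q x = 0 → x = 0
    · exact mem_of_no_singular hQ hH hns g hg
    push Not at hns
    obtain ⟨e, heP, he, he0⟩ := hns
    set P := perpS Q H
    have hdec : ∀ x, ∃ h ∈ H, ∃ p ∈ P, h + p = x := fun x =>
      Submodule.mem_sup.mp (hH ▸ Submodule.mem_top : x ∈ H ⊔ P)
    -- partners inside `P`
    have hpart : ∀ a ∈ P, a ≠ 0 → ∃ y ∈ P, polar Q a y = 1 := by
      intro a ha ha0
      obtain ⟨y, hy⟩ := exists_polar_ne hQ ha0
      obtain ⟨h, hh, p, hp, rfl⟩ := hdec y
      rw [polar_add_right, polar_comm (⇑Q) a h, ha h hh, zero_add] at hy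
      exact ⟨(polar Q a p)⁻¹ • p, P.smul_mem _ hp, by
        rw [polar_smul_right, smul_eq_mul, inv_mul_cancel₀ hy]⟩
    have hmoveD : ∀ a b, a ∈ P → b ∈ P → Q a = Q b → Q (b - a) ≠ 0 →
        ∃ r ∈ reflGroup Q, (∀ x ∈ H, r.1 x = x) ∧ r.1 a = b := fun a b ha hb hab hd =>
      ⟨refl Q (b - a), refl_mem _, fun x hx => refl_fix (P.sub_mem hb ha x hx), refl_map hab hd⟩
    -- transitivity on singular vectors of `P`
    have hsing : ∀ a b, a ∈ P → b ∈ P → Q a = 0 → Q b = 0 → a ≠ 0 → b ≠ 0 →
        ∃ r ∈ reflGroup Q, (∀ x ∈ H, r.1 x = x) ∧ r.1 a = b := by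
      intro a b ha hb hQa hQb ha0 hb0
      have hd : ∀ c d : V, Q c = 0 → Q d = 0 → polar Q c d ≠ 0 → Q (d - c) ≠ 0 := by
        intro c d hc hd hcd h
        rw [sub_eq_add_neg, quad_add, hd, QuadraticMap.map_neg, hc, polar_neg_right,
          polar_comm] at h
        exact hcd (by linear_combination -h)
      by_cases hab : polar Q a b = 0
      swap
      · exact hmoveD a b ha hb (by rw [hQa, hQb]) (hd a b hQa hQb hab)
      obtain ⟨y, hyP, hay, hby⟩ : ∃ y ∈ P, polar Q a y ≠ 0 ∧ polar Q b y ≠ 0 := by
        obtain ⟨y1, h1, e1⟩ := hpart a ha ha0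
        obtain ⟨y2, h2, e2⟩ := hpart b hb hb0
        by_cases c1 : polar Q b y1 = 0
        swap
        · exact ⟨y1, h1, by rw [e1]; exact one_ne_zero, c1⟩
        by_cases c2 : polar Q a y2 = 0
        swap
        · exact ⟨y2, h2, c2, by rw [e2]; exact one_ne_zero⟩
        refine ⟨y1 + y2, P.add_mem h1 h2, ?_, ?_⟩
        · rw [polar_add_right, e1, c2, add_zero]; exact one_ne_zero
        · rw [polar_add_right, c1, e2, zero_add]; exact one_ne_zero
      set z := y + (-(Q y / polar Q a y)) • a with hz
      have hzP : z ∈ P := P.add_mem hyP (P.smul_mem _ ha)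
      have hQz : Q z = 0 := by
        rw [hz, quad_add, quad_smul, hQa, polar_smul_right, smul_eq_mul, polar_comm (⇑Q) y a]
        field_simp
        ring
      have haz : polar Q a z ≠ 0 := by
        rw [hz, polar_add_right, polar_smul_right, polar_self, hQa, smul_zero, smul_zero, add_zero]
        exact hay
      have hbz : polar Q z b ≠ 0 := by
        rw [polar_comm, hz, polar_add_right, polar_smul_right, polar_comm (⇑Q) b a, hab, smul_zero,
          add_zero]
        exact hby
      obtain ⟨r1, m1, f1, e1⟩ := hmoveD a z ha hzP (by rw [hQa, hQz]) (hd a z hQa hQz haz)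
      obtain ⟨r2, m2, f2, e2⟩ := hmoveD z b hzP hb (by rw [hQb, hQz]) (hd z b hQz hQb hbz)
      refine ⟨r2 * r1, mul_mem m2 m1, fun x hx => ?_, ?_⟩
      · change r2.1 (r1.1 x) = x
        rw [f1 x hx, f2 x hx]
      · change r2.1 (r1.1 a) = b
        rw [e1, e2]
    obtain ⟨y, hyP, hey⟩ := hpart e heP he0
    set f := y + (-Q y) • e with hf
    have hfP : f ∈ P := P.add_mem hyP (P.smul_mem _ heP)
    have hQf : Q f = 0 := by
      rw [hf, quad_add, quad_smul, he, polar_smul_right, smul_eq_mul, polar_comm (⇑Q) y e, hey]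
      ring
    have hef : polar Q e f = 1 := by
      rw [hf, polar_add_right, polar_smul_right, polar_self, he, smul_zero, smul_zero, add_zero, hey]
    have hee : polar Q e e = 0 := by rw [polar_self, he, smul_zero]
    have hff : polar Q f f = 0 := by rw [polar_self, hQf, smul_zero]
    have hfe : polar Q f e = 1 := by rw [polar_comm, hef]
    -- transitivity on partners of `e`
    have hpartner : ∀ f', f' ∈ P → Q f' = 0 → polar Q e f' = 1 →
        ∃ r ∈ reflGroup Q, (∀ x ∈ H, r.1 x = x) ∧ r.1 e = e ∧ r.1 f = f' := by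
      intro f' hf'P hQf' hef'
      have hmoveE : ∀ a b, a ∈ P → b ∈ P → Q a = Q b → polar Q e a = polar Q e b →
          Q (b - a) ≠ 0 →
          ∃ r ∈ reflGroup Q, (∀ x ∈ H, r.1 x = x) ∧ r.1 e = e ∧ r.1 a = b :=
        fun a b ha hb hab hpe hd => ⟨refl Q (b - a), refl_mem _,
          fun x hx => refl_fix (P.sub_mem hb ha x hx),
          refl_fix (by rw [polar_sub_right, hpe, sub_self]), refl_map hab hd⟩
      set u := f' - f with hu
      by_cases hQu : Q u = 0
      swap
      · exact hmoveE f f' hfP hf'P (by rw [hQf, hQf']) (by rw [hef, hef']) hQu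
      have huP : u ∈ P := P.sub_mem hf'P hfP
      have heu : polar Q e u = 0 := by rw [hu, polar_sub_right, hef, hef', sub_self]
      have hfu : polar Q f u = 0 := by
        have h := quad_add Q f u
        rw [show f + u = f' by rw [hu]; abel, hQf, hQu, hQf'] at h
        linear_combination -h
      rcases eq_or_ne u 0 with hu0 | hu0
      · exact ⟨1, one_mem _, fun x _ => rfl, rfl, (sub_eq_zero.mp hu0).symm⟩
      obtain ⟨v0, hv0P, huv0⟩ := hpart u huP hu0
      set v1 := v0 + (-polar Q v0 f) • e + (-polar Q v0 e) • f with hv1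
      have hv1P : v1 ∈ P := P.add_mem (P.add_mem hv0P (P.smul_mem _ heP)) (P.smul_mem _ hfP)
      have huv1 : polar Q u v1 = 1 := by
        simp only [hv1, polar_add_right, polar_smul_right, smul_eq_mul, polar_comm (⇑Q) u e,
          polar_comm (⇑Q) u f, heu, hfu, huv0]
        ring
      have hev1 : polar Q e v1 = 0 := by
        simp only [hv1, polar_add_right, polar_smul_right, smul_eq_mul, hef, hee,
          polar_comm (⇑Q) e v0]
        ring
      have hfv1 : polar Q f v1 = 0 := by
        simp only [hv1, polar_add_right, polar_smul_right, smul_eq_mul, hfe, hff,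
          polar_comm (⇑Q) f v0]
        ring
      have huu : polar Q u u = 0 := by rw [polar_self, hQu, smul_zero]
      by_cases ht : ∃ t : F, t ≠ 0 ∧ t ≠ 1
      · obtain ⟨t, ht0, ht1⟩ := ht
        set w := v1 + (t - Q v1) • u with hw
        have hQw : Q w = t := by
          rw [hw, quad_add, quad_smul, hQu, polar_smul_right, smul_eq_mul, polar_comm (⇑Q) v1 u,
            huv1]
          ring
        have hew : polar Q e w = 0 := by
          rw [hw, polar_add_right, polar_smul_right, hev1, heu, smul_zero, add_zero]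
        have hfw : polar Q f w = 0 := by
          rw [hw, polar_add_right, polar_smul_right, hfv1, hfu, smul_zero, add_zero]
        have huw : polar Q u w = 1 := by
          rw [hw, polar_add_right, polar_smul_right, huv1, huu, smul_zero, add_zero]
        set g0 := f + w + (-t) • e with hg0
        have hg0P : g0 ∈ P := P.add_mem (P.add_mem hfP (P.add_mem hv1P (P.smul_mem _ huP)))
          (P.smul_mem _ heP)
        have hQg0 : Q g0 = 0 := by
          simp only [hg0, quad_add, quad_smul, hQf, hQw, he, polar_add_left, polar_smul_right,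
            smul_eq_mul, hfw, hfe, polar_comm (⇑Q) w e, hew]
          ring
        have heg : polar Q e g0 = 1 := by
          simp only [hg0, polar_add_right, polar_smul_right, smul_eq_mul, hef, hew, hee]; ring
        have h1 : Q (g0 - f) ≠ 0 := by
          have h : Q (g0 - f) = t := by
            rw [show g0 - f = w + (-t) • e by rw [hg0]; abel, quad_add, quad_smul, he,
              polar_smul_right, smul_eq_mul, polar_comm (⇑Q) w e, hew, hQw]
            ring
          rw [h]; exact ht0
        have h2 : Q (f' - g0) ≠ 0 := by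
          have h : Q (f' - g0) = t - 1 := by
            rw [show f' - g0 = u + (-(1 : F)) • (w + (-t) • e) by rw [hg0, hu]; module]
            simp only [quad_add, quad_smul, hQu, he, hQw, polar_add_right, polar_smul_right,
              smul_eq_mul, huw, polar_comm (⇑Q) w e, hew, polar_comm (⇑Q) u e, heu]
            ring
          rw [h]; exact sub_ne_zero.mpr ht1
        obtain ⟨r1, m1, f1, g1, e1⟩ := hmoveE f g0 hfP hg0P (by rw [hQf, hQg0]) (by rw [hef, heg]) h1
        obtain ⟨r2, m2, f2, g2, e2⟩ :=
          hmoveE g0 f' hg0P hf'P (by rw [hQf', hQg0]) (by rw [hef', heg]) h2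
        refine ⟨r2 * r1, mul_mem m2 m1, fun x hx => ?_, ?_, ?_⟩
        · change r2.1 (r1.1 x) = x; rw [f1 x hx, f2 x hx]
        · change r2.1 (r1.1 e) = e; rw [g1, g2]
        · change r2.1 (r1.1 f) = f'; rw [e1, e2]
      -- the field with two elements
      push Not at ht
      have hn4 : Module.finrank F V ≠ 4 := hgen.resolve_left (fun ⟨t, a, b⟩ => b (ht t a))
      have h2 : (2 : F) = 0 := by
        by_contra h
        exact one_ne_zero (α := F) (by linear_combination ht (2 : F) h)
      set v2 := v1 + (-Q v1) • u with hv2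
      have huv2 : polar Q u v2 = 1 := by
        rw [hv2, polar_add_right, polar_smul_right, huv1, huu, smul_zero, add_zero]
      have hev2 : polar Q e v2 = 0 := by
        rw [hv2, polar_add_right, polar_smul_right, hev1, heu, smul_zero, add_zero]
      have hfv2 : polar Q f v2 = 0 := by
        rw [hv2, polar_add_right, polar_smul_right, hfv1, hfu, smul_zero, add_zero]
      have hQv2 : Q v2 = 0 := by
        rw [hv2, quad_add, quad_smul, hQu, polar_smul_right, smul_eq_mul, polar_comm (⇑Q) v1 u,
          huv1]
        ring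
      have hli : LinearIndependent F ![e, f, u, v2] := by
        rw [Fintype.linearIndependent_iff]
        intro c hc
        simp [Fin.sum_univ_four] at hc
        have he' := congrArg (fun x => polar Q e x) hc
        have hf' := congrArg (fun x => polar Q f x) hc
        have hu' := congrArg (fun x => polar Q u x) hc
        have hv' := congrArg (fun x => polar Q v2 x) hc
        simp only [polar_add_right, polar_smul_right, smul_eq_mul, hef, hee, heu, hev2, hfe, hff,
          hfu, hfv2, polar_comm (⇑Q) u e, polar_comm (⇑Q) u f, huu, huv2, polar_comm (⇑Q) v2 e,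
          polar_comm (⇑Q) v2 f, polar_comm (⇑Q) v2 u, polar_self Q v2, hQv2, smul_zero,
          polar_zero_right, mul_zero, mul_one, add_zero, zero_add] at he' hf' hu' hv'
        intro i
        fin_cases i
        exacts [hf', he', hv', hu']
      have h5 : 5 ≤ Module.finrank F V := by
        have := hli.fintype_card_le_finrank
        rw [Fintype.card_fin] at this
        omega
      -- an anisotropic vector orthogonal to `e` and `u`
      obtain ⟨w, hwe, hwu, hQw⟩ : ∃ w, polar Q w e = 0 ∧ polar Q w u = 0 ∧ Q w ≠ 0 := by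
        by_contra hc
        push Not at hc
        let φ : V →ₗ[F] (Fin 4 → F) :=
          LinearMap.pi ![polarFun Q e, polarFun Q f, polarFun Q u, polarFun Q v2]
        obtain ⟨z, hz, hz0⟩ := Submodule.exists_mem_ne_zero_of_ne_bot
          (LinearMap.ker_ne_bot_of_finrank_lt (f := φ) (by simp; omega))
        have hzz := congrFun (LinearMap.mem_ker.mp hz)
        have hze : polar Q z e = 0 := hzz 0
        have hzf : polar Q z f = 0 := hzz 1
        have hzu : polar Q z u = 0 := hzz 2
        have hzv : polar Q z v2 = 0 := hzz 3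
        refine hz0 (hQ.1 z fun x => ?_)
        rw [polarBilin_apply_apply]
        set k := x + (-polar Q x e) • f + (-polar Q x u) • v2 with hk
        have hke : polar Q k e = 0 := by
          simp only [hk, polar_add_left, polar_smul_left, smul_eq_mul, hfe, polar_comm (⇑Q) v2 e,
            hev2]
          ring
        have hku : polar Q k u = 0 := by
          simp only [hk, polar_add_left, polar_smul_left, smul_eq_mul, hfu, polar_comm (⇑Q) v2 u,
            huv2]
          ring
        have h := hc (z + k) (by rw [polar_add_left, hze, hke, add_zero])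
          (by rw [polar_add_left, hzu, hku, add_zero])
        rw [quad_add, hc z hze hzu, hc k hke hku] at h
        rw [hk] at h
        simp only [polar_add_right, polar_smul_right, smul_eq_mul, hzf, hzv] at h
        linear_combination h
      have hw1 : Q w = 1 := ht _ hQw
      have hee' : polar Q e e = 0 := hee
      have hQd : Q (w + u) = 1 ∧ Q (w + e) = 1 ∧ Q (w + e + u) = 1 := by
        refine ⟨?_, ?_, ?_⟩ <;>
          simp only [quad_add, hw1, hQu, he, hwe, hwu, heu, polar_add_left, add_zero]
      set r := refl Q w * refl Q (w + u) * refl Q (w + e) * refl Q (w + e + u) with hr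
      have hrx : ∀ x, r.1 x = x + polar Q x e • u + polar Q x u • e := by
        intro x
        change (refl Q w).1 ((refl Q (w + u)).1 ((refl Q (w + e)).1 ((refl Q (w + e + u)).1 x))) = _
        simp only [refl_apply, hQd.1, hQd.2.1, hQd.2.2, hw1, polar_add_left, polar_add_right,
          polar_smul_left, polar_smul_right, smul_eq_mul, polar_self, nsmul_eq_mul, hQu, he,
          hwe, hwu, heu, polar_comm (⇑Q) e w, polar_comm (⇑Q) u w, polar_comm (⇑Q) u e, inv_one]
        match_scalars <;> grind
      refine ⟨r, mul_mem (mul_mem (mul_mem (refl_mem _) (refl_mem _)) (refl_mem _)) (refl_mem _),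
        fun x hx => ?_, ?_, ?_⟩
      · rw [hrx, heP x hx, huP x hx]; simp
      · rw [hrx, hee, heu]; simp
      · rw [hrx, hfe, hfu, zero_smul, add_zero, one_smul, hu]; abel
    have hgfix : ∀ p ∈ P, g.1 p ∈ P := fun p hp h hh => by
      rw [← hg h hh, polar_oGroup]; exact hp h hh
    obtain ⟨r1, m1, f1, e1⟩ := hsing (g.1 e) e (hgfix e heP) heP (by rw [g.2, he]) he
      (fun h => he0 (g.1.map_eq_zero_iff.mp h)) he0
    set g1 := r1 * g with hg1
    have hg1e : g1.1 e = e := e1
    have hg1H : ∀ x ∈ H, g1.1 x = x := fun x hx => by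
      change r1.1 (g.1 x) = x; rw [hg x hx, f1 x hx]
    obtain ⟨r2, m2, f2, g2, e2⟩ := hpartner (g1.1 f) (fun h hh => by
        rw [← hg1H h hh, polar_oGroup]; exact hfP h hh) (by rw [g1.2, hQf])
      (by conv_lhs => rw [← hg1e, polar_oGroup, hef])
    set g3 := r2⁻¹ * g1 with hg3
    have h3e : g3.1 e = e := by
      change r2.1.symm (g1.1 e) = e
      rw [hg1e, LinearEquiv.symm_apply_eq, g2]
    have h3f : g3.1 f = f := by
      change r2.1.symm (g1.1 f) = f
      rw [LinearEquiv.symm_apply_eq, e2]
    set H' := H ⊔ Submodule.span F {e, f} with hH'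
    have hH'fix : ∀ x ∈ H', g3.1 x = x := by
      have : H' ≤ fixSp g3 := sup_le (fun x hx => mem_fixSp.mpr (by
          change r2.1.symm (g1.1 x) = x
          rw [hg1H x hx, LinearEquiv.symm_apply_eq, f2 x hx]))
        (Submodule.span_le.mpr (by
          rintro x (rfl | rfl) <;> exact mem_fixSp.mpr (by assumption)))
      exact fun x hx => mem_fixSp.mp (this hx)
    have hH'top : H' ⊔ perpS Q H' = ⊤ := by
      refine eq_top_iff.mpr fun x _ => ?_
      obtain ⟨h, hh, p, hp, rfl⟩ := hdec x
      have hp' : p + (-polar Q p f) • e + (-polar Q p e) • f ∈ perpS Q H' := by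
        intro z hz
        obtain ⟨a, ha, b, hb, rfl⟩ := Submodule.mem_sup.mp hz
        obtain ⟨s, t, rfl⟩ := Submodule.mem_span_pair.mp hb
        simp only [polar_add_left, polar_add_right, polar_smul_left, polar_smul_right, smul_eq_mul,
          hp a ha, heP a ha, hfP a ha, hee, hef, hfe, hff, polar_comm (⇑Q) e p,
          polar_comm (⇑Q) f p]
        ring
      refine Submodule.mem_sup.mpr ⟨h + (polar Q p f • e + polar Q p e • f),
        Submodule.add_mem _ (Submodule.mem_sup_left hh) (Submodule.mem_sup_right
          (Submodule.mem_span_pair.mpr ⟨_, _, rfl⟩)), _, hp', ?_⟩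
      module
    have hlt : perpS Q H' < P := by
      refine lt_of_le_of_ne (fun x hx h hh => hx h (Submodule.mem_sup_left hh)) fun e' => ?_
      have : e ∈ perpS Q H' := e' ▸ heP
      have h1 := this f (Submodule.mem_sup_right (Submodule.mem_span_pair.mpr ⟨0, 1, by simp⟩))
      rw [hfe] at h1
      exact one_ne_zero h1
    have hrank := Submodule.finrank_lt_finrank_of_lt hlt
    have hmem := ih H' (by omega) hH'top g3 hH'fix
    have : g = r1⁻¹ * (r2 * g3) := by rw [hg3, hg1]; group
    rw [this]
    exact mul_mem (inv_mem m1) (mul_mem m2 hmem)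

include hQ in
/-- Cartan–Dieudonné. -/
theorem reflGroup_eq_top (hgen : (∃ t : F, t ≠ 0 ∧ t ≠ 1) ∨ Module.finrank F V ≠ 4) :
    reflGroup Q = ⊤ := by
  refine eq_top_iff.mpr fun g _ => mem_reflGroup_of_fix hQ hgen _ ⊥ le_rfl ?_ g fun x hx => ?_
  · rw [bot_sup_eq]
    exact eq_top_iff.mpr fun x _ h hh => by
      rw [(Submodule.mem_bot F).mp hh, polar_zero_left]
  · rw [(Submodule.mem_bot F).mp hx, map_zero]

include hQ in
/-- The parity of the fixed space changes under a reflection. -/
theorem finrank_fixSp_refl_mul (g : oGroup Q) {d : V} (hd : Q d ≠ 0) :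
    Module.finrank F (fixSp (refl Q d * g)) = Module.finrank F (fixSp g) + 1 ∨
      Module.finrank F (fixSp (refl Q d * g)) + 1 = Module.finrank F (fixSp g) := by
  have hmem : ∀ x, x ∈ fixSp (refl Q d * g) ↔ g.1 x = (refl Q d).1 x := fun x => by
    rw [mem_fixSp]
    change (refl Q d).1 (g.1 x) = x ↔ _
    constructor
    · intro h
      conv_rhs => rw [← h]
      exact (reflMap_involutive d _).symm
    · intro h
      rw [h]
      exact reflMap_involutive d x
  have hd0 : d ≠ 0 := fun e => hd (by rw [e, QuadraticMap.map_zero])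
  have horth : ∀ x ∈ fixSp g, ∀ z, polar Q x (g.1 z - z) = 0 := fun x hx z => by
    rw [polar_sub_right, sub_eq_zero]
    conv_lhs => rw [← mem_fixSp.mp hx, polar_oGroup]
  by_cases hz : ∃ z, g.1 z - z = d
  · obtain ⟨z, hz⟩ := hz
    left
    have hzd : polar Q z d = -Q d := by
      have h := quad_add Q z d
      rw [show z + d = g.1 z by rw [← hz]; abel, g.2] at h
      linear_combination -h
    have heq : fixSp (refl Q d * g) = fixSp g ⊔ Submodule.span F {z} := by
      ext x
      rw [hmem]
      constructor
      · intro hx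
        set l := -(Q d)⁻¹ * polar Q x d
        have h1 : g.1 x - x = l • d := by rw [hx, refl_apply]; abel
        refine Submodule.mem_sup.mpr ⟨x - l • z, mem_fixSp.mpr ?_, l • z,
          Submodule.smul_mem _ _ (Submodule.mem_span_singleton_self z), sub_add_cancel x _⟩
        rw [map_sub, map_smul]
        calc g.1 x - l • g.1 z = (g.1 x - x) + x - l • (g.1 z - z) - l • z := by module
          _ = x - l • z := by rw [h1, hz]; abel
      · intro hx
        obtain ⟨a, ha, b, hb, rfl⟩ := Submodule.mem_sup.mp hx
        obtain ⟨t, rfl⟩ := Submodule.mem_span_singleton.mp hb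
        rw [map_add, map_add, map_smul, map_smul, mem_fixSp.mp ha,
          refl_fix (hz ▸ horth a ha z), refl_apply, hzd, neg_mul_neg, inv_mul_cancel₀ hd, one_smul,
          show g.1 z = z + d by rw [← hz]; abel]
    have hznot : z ∉ fixSp g := fun h => hd0 (by rw [← hz, mem_fixSp.mp h, sub_self])
    have hz0 : z ≠ 0 := fun e => hznot (e ▸ Submodule.zero_mem _)
    have h1 := Submodule.finrank_sup_add_finrank_inf_eq (fixSp g) (Submodule.span F {z})
    rw [disjoint_iff.mp ((Submodule.disjoint_span_singleton' hz0).mpr hznot), finrank_bot, add_zero,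
      finrank_span_singleton hz0] at h1
    rw [heq, h1]
  · right
    push Not at hz
    have heq : fixSp (refl Q d * g) = fixSp g ⊓ LinearMap.ker (polarFun Q d) := by
      ext x
      rw [hmem, Submodule.mem_inf, LinearMap.mem_ker, polarFun_apply, mem_fixSp]
      constructor
      · intro hx
        set l := -(Q d)⁻¹ * polar Q x d with hl
        have h1 : g.1 x - x = l • d := by rw [hx, refl_apply]; abel
        have hl0 : l = 0 := by
          by_contra h
          exact hz (l⁻¹ • x) (by rw [map_smul, ← smul_sub, h1, smul_smul, inv_mul_cancel₀ h, one_smul])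
        refine ⟨sub_eq_zero.mp (by rw [h1, hl0, zero_smul]), ?_⟩
        exact (mul_eq_zero.mp (hl ▸ hl0)).resolve_left (neg_ne_zero.mpr (inv_ne_zero hd))
      · rintro ⟨h1, h2⟩; rw [h1, refl_fix h2]
    -- some fixed vector is not orthogonal to `d`
    obtain ⟨x, hxF, hxd⟩ : ∃ x ∈ fixSp g, polar Q x d ≠ 0 := by
      by_contra hc
      push Not at hc
      let φ : V →ₗ[F] Module.Dual F (fixSp g) :=
        { toFun := fun v => (polarFun Q v).domRestrict (fixSp g)
          map_add' := fun u v => LinearMap.ext fun a => polar_add_right Q a.1 u v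
          map_smul' := fun c u => LinearMap.ext fun a => by
            simp [polarFun_apply, polar_smul_right] }
      have hsurj : Function.Surjective φ := fun t => by
        obtain ⟨t', ht'⟩ := LinearMap.exists_extend t
        obtain ⟨v, hv⟩ := (polarForm Q).exists_h_eq (polarForm_nondeg hQ) t'
        refine ⟨v, LinearMap.ext fun a => ?_⟩
        change polar Q a.1 v = t a
        rw [← polarForm_h, hv, ← ht']
        rfl
      have hker : (LinearMap.range (g.1.toLinearMap - LinearMap.id)) = LinearMap.ker φ := by
        refine Submodule.eq_of_le_of_finrank_eq ?_ ?_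
        · rintro _ ⟨z, rfl⟩
          exact LinearMap.ext fun a => horth a.1 a.2 z
        · have h1 := φ.finrank_range_add_finrank_ker
          have h2 := (g.1.toLinearMap - LinearMap.id).finrank_range_add_finrank_ker
          rw [LinearMap.range_eq_top.mpr hsurj, finrank_top, Subspace.dual_finrank_eq] at h1
          rw [← h1] at h2
          exact Nat.add_right_cancel (h2.trans (add_comm _ _))
      obtain ⟨z, hz'⟩ : d ∈ LinearMap.range (g.1.toLinearMap - LinearMap.id) := by
        rw [hker]; exact LinearMap.ext fun a => hc a.1 a.2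
      exact hz z hz'
    have hres : Function.Surjective ((polarFun Q d).domRestrict (fixSp g)) := fun t =>
      ⟨(t / polar Q x d) • ⟨x, hxF⟩, by simp [polarFun_apply, hxd]⟩
    have h1 := ((polarFun Q d).domRestrict (fixSp g)).finrank_range_add_finrank_ker
    rw [LinearMap.range_eq_top.mpr hres, finrank_top, Module.finrank_self,
      LinearMap.ker_domRestrict] at h1
    have h2 : Module.finrank F (Submodule.comap (fixSp g).subtype (LinearMap.ker (polarFun Q d))) =
        Module.finrank F ↥(fixSp g ⊓ LinearMap.ker (polarFun Q d)) := by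
      rw [← Submodule.finrank_map_subtype_eq (fixSp g), Submodule.map_comap_subtype]
    rw [heq, ← h1, h2, add_comm]

end CfsgLib.Quad
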