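import Cfsg.Agent.Quad.IndexTwo

/-!
The group generated by the reflections of one square class.
-/

set_option autoImplicit false
set_option linter.style.haveILetI false

namespace CfsgLib.Quad

open QuadraticMap CfsgLib.Forms

variable {F V : Type*} [Field F] [AddCommGroup V] [Module F V]

/-- Reflections with values in the class of `c`. -/
def classGroup (Q : QuadraticForm F V) (c : F) : Subgroup (oGroup Q) :=
  Subgroup.closure {g | ∃ v, Q v ≠ 0 ∧ IsSquare (c * Q v) ∧ g = refl Q v}

variable {Q : QuadraticForm F V}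

theorem refl_mem_classGroup {c : F} {v : V} (hv : Q v ≠ 0) (h : IsSquare (c * Q v)) :
    refl Q v ∈ classGroup Q c := Subgroup.subset_closure ⟨v, hv, h, rfl⟩

variable [FiniteDimensional F V] [Finite F] (hQ : (polarBilin Q).Nondegenerate)

include hQ

theorem exists_class_hom (h2 : (2 : F) ≠ 0) (hn : 2 ≤ Module.finrank F V) {c : F} (hc : c ≠ 0) :
    ∃ φ : oGroup Q →* ℤˣ, (∀ v, Q v ≠ 0 → (φ (refl Q v) = 1 ↔ IsSquare (c * Q v))) ∧
      φ.ker.index = 2 := by
  obtain ⟨θ, hθ⟩ := exists_spinor hQ h2 hn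
  obtain ⟨a, b, ha, hb, haS, hbS⟩ := exists_classes hQ h2 hn
  by_cases hC : IsSquare c
  · refine ⟨θ, fun v hv => ?_, index_ker_units θ (g := refl Q b) fun e => hbS ((hθ b hb).mp e)⟩
    rw [hθ v hv, isSquare_mul_iff h2 hc hv]
    simp [hC]
  · have key : ∀ v, Q v ≠ 0 → ((θ * detSign hQ h2) (refl Q v) = 1 ↔ IsSquare (c * Q v)) := by
      intro v hv
      rw [MonoidHom.mul_apply, detSign_refl hv, isSquare_mul_iff h2 hc hv]
      rcases Int.units_eq_one_or (θ (refl Q v)) with e | e
      · simp [e, (hθ v hv).mp e, hC]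
      · have : ¬IsSquare (Q v) := fun h => by rw [(hθ v hv).mpr h] at e; exact absurd e (by decide)
        simp [e, this, hC]
    exact ⟨_, key, index_ker_units _ (g := refl Q a) fun e => hC
      (((isSquare_mul_iff h2 hc ha).mp ((key a ha).mp e)).mpr haS)⟩

/-- Two reflections of the other class spanning a non-degenerate plane. -/
theorem pair_mem_classGroup_plane (h2 : (2 : F) ≠ 0) (hn : 2 ≤ Module.finrank F V) {c : F}
    (hc : c ≠ 0) {u v : V} (hu : Q u ≠ 0) (hv : Q v ≠ 0) (huc : ¬IsSquare (c * Q u))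
    (hvc : ¬IsSquare (c * Q v)) (hD : 4 * Q u * Q v - polar Q u v ^ 2 ≠ 0) :
    refl Q u * refl Q v ∈ classGroup Q c := by
  obtain ⟨φ, hφ, -⟩ := exists_class_hom hQ h2 hn hc
  set p := polar Q u v with hp
  set v1 := v + (-(p / (2 * Q u))) • u with hv1
  have huu : polar Q u u = 2 * Q u := by rw [polar_self, nsmul_eq_mul, Nat.cast_ofNat]
  have h4 : (2 * (2 * Q u)) ≠ 0 := mul_ne_zero h2 (mul_ne_zero h2 hu)
  have hQv1 : Q v1 = (4 * Q u * Q v - p ^ 2) / (2 * (2 * Q u)) := by
    rw [hv1, quad_add, quad_smul, polar_smul_right, smul_eq_mul, polar_comm (⇑Q) v u, ← hp]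
    field_simp
    ring
  have huv1 : polar Q u v1 = 0 := by
    rw [hv1, polar_add_right, polar_smul_right, smul_eq_mul, huu, ← hp]
    field_simp
    ring
  obtain ⟨α, β, hαβ⟩ := exists_binary h2 hu (b := Q v1)
    (by rw [hQv1]; exact div_ne_zero hD h4) c
  set s := α • u + β • v1 with hs
  have hQs : Q s = c := by
    rw [hs, quad_add, quad_smul, quad_smul, polar_smul_left, polar_smul_right, huv1, smul_zero,
      smul_zero, add_zero, ← hαβ]
    ring
  have hs0 : Q s ≠ 0 := by rw [hQs]; exact hc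
  have hsc : IsSquare (c * Q s) := by rw [hQs]; exact IsSquare.mul_self c
  set h := refl Q u * (refl Q v * refl Q s) with hh
  have e1 := finrank_fixSp_refl_mul hQ (1 : oGroup Q) hs0
  rw [mul_one] at e1
  have e2 := finrank_fixSp_refl_mul hQ (refl Q s) hv
  have e3 := finrank_fixSp_refl_mul hQ (refl Q v * refl Q s) hu
  have htop : fixSp (1 : oGroup Q) = ⊤ := Submodule.eq_top_iff'.mpr fun x => mem_fixSp.mpr rfl
  have hfin : Module.finrank F (fixSp (1 : oGroup Q)) = Module.finrank F V := by
    rw [htop, finrank_top]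
  set φ2 : V →ₗ[F] F × F := LinearMap.prod (polarFun Q u) (polarFun Q v)
  have hle : LinearMap.ker φ2 ≤ fixSp h := by
    intro x hx
    replace hx : polar Q x u = 0 ∧ polar Q x v = 0 :=
      ⟨congrArg Prod.fst (LinearMap.mem_ker.mp hx), congrArg Prod.snd (LinearMap.mem_ker.mp hx)⟩
    refine mem_fixSp.mpr ?_
    change (refl Q u).1 ((refl Q v).1 ((refl Q s).1 x)) = x
    have hxs : polar Q x s = 0 := by
      rw [hs, hv1]
      simp only [polar_add_right, polar_smul_right, hx.1, hx.2, smul_zero, add_zero]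
    rw [refl_fix hxs, refl_fix hx.2, refl_fix hx.1]
  have h5 := Submodule.finrank_mono hle
  have h6 := φ2.finrank_range_add_finrank_ker
  have h7 := Submodule.finrank_le (LinearMap.range φ2)
  rw [Module.finrank_prod, Module.finrank_self] at h7
  have h8 := Submodule.finrank_le (fixSp h)
  have h9 := Submodule.finrank_le (fixSp (refl Q s))
  have h10 := Submodule.finrank_le (fixSp (refl Q v * refl Q s))
  obtain ⟨d, hd, hdh⟩ := exists_refl_of_fixSp hQ (g := h) (by
    rw [← hh] at e3; rcases e1 with e1 | e1 <;> rcases e2 with e2 | e2 <;> rcases e3 with e3 | e3 <;> omega)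
  have hdc : IsSquare (c * Q d) := by
    rw [← hφ d hd, ← hdh, hh, map_mul, map_mul, (hφ s hs0).mpr hsc,
      (Int.units_eq_one_or _).resolve_left fun e => huc ((hφ u hu).mp e),
      (Int.units_eq_one_or _).resolve_left fun e => hvc ((hφ v hv).mp e)]
    decide
  have heq : refl Q u * refl Q v = refl Q d * refl Q s := by
    rw [← hdh, hh]
    simp only [mul_assoc, refl_mul_self, mul_one]
  rw [heq]
  exact mul_mem (refl_mem_classGroup hd hdc) (refl_mem_classGroup hs0 hsc)

/-- Two reflections of the other class. -/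
theorem pair_mem_classGroup (h2 : (2 : F) ≠ 0) (hn : 2 ≤ Module.finrank F V) {c : F} (hc : c ≠ 0)
    (hbig : Module.finrank F V ≠ 3)
    (h43 : (∃ t : F, t ≠ 0 ∧ t ^ 2 ≠ 1) ∨ 6 ≤ Module.finrank F V ∨ Module.finrank F V = 2)
    {u v : V} (hu : Q u ≠ 0) (hv : Q v ≠ 0) (huc : ¬IsSquare (c * Q u))
    (hvc : ¬IsSquare (c * Q v)) :
    refl Q u * refl Q v ∈ classGroup Q c := by
  by_cases hD : 4 * Q u * Q v - polar Q u v ^ 2 ≠ 0
  · exact pair_mem_classGroup_plane hQ h2 hn hc hu hv huc hvc hD
  push Not at hD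
  set k := polar Q u v / (2 * Q u) with hk
  set z := v + (-k) • u with hz
  have huu : polar Q u u = 2 * Q u := by rw [polar_self, nsmul_eq_mul, Nat.cast_ofNat]
  have hpk : polar Q u v = k * (2 * Q u) := by
    rw [hk, div_mul_cancel₀ _ (mul_ne_zero h2 hu)]
  have huz : polar Q u z = 0 := by
    rw [hz, polar_add_right, polar_smul_right, smul_eq_mul, huu, hpk]; ring
  have hQv : Q v = k * k * Q u := by
    refine mul_left_cancel₀ (mul_ne_zero (mul_ne_zero h2 h2) hu) ?_
    rw [hpk] at hD
    linear_combination hD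
  have hQz : Q z = 0 := by
    rw [hz, quad_add, quad_smul, polar_smul_right, smul_eq_mul, polar_comm (⇑Q) v u, hpk, hQv]; ring
  have hk0 : k ≠ 0 := fun e => hv (by rw [hQv, e]; ring)
  have hvz : v = k • (u + k⁻¹ • z) := by
    rw [smul_add, smul_smul, mul_inv_cancel₀ hk0, one_smul, hz]; module
  rcases eq_or_ne z 0 with hz0 | hz0
  · rw [hvz, hz0, smul_zero, add_zero, refl_smul hk0, refl_mul_self]; exact one_mem _
  have hu0 : u ≠ 0 := fun e => hu (by rw [e, QuadraticMap.map_zero])
  set U := Submodule.span F (Set.range ![u, z]) with hU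
  have hUle : Module.finrank F U ≤ 2 := (finrank_range_le_card _).trans (by simp)
  have hn4 : 4 ≤ Module.finrank F V := by
    by_contra hlt
    have h2n : Module.finrank F V = 2 := by omega
    have hli : LinearIndependent F ![u, z] := by
      rw [LinearIndependent.pair_iff]
      intro s t hst
      have h1 := congrArg (fun x => polar Q u x) hst
      simp only [polar_add_right, polar_smul_right, huz, huu, smul_eq_mul, mul_zero, add_zero,
        polar_zero_right] at h1
      have hs : s = 0 := (mul_eq_zero.mp h1).resolve_right (mul_ne_zero h2 hu)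
      refine ⟨hs, ?_⟩
      rw [hs, zero_smul, zero_add] at hst
      exact (smul_eq_zero.mp hst).resolve_right hz0
    have htop := hli.span_eq_top_of_card_eq_finrank (by simp [h2n])
    refine hz0 (hQ.1 z fun x => ?_)
    have hx : x ∈ Submodule.span F (Set.range ![u, z]) := htop ▸ Submodule.mem_top
    rw [polarBilin_apply_apply]
    induction hx using Submodule.span_induction with
    | mem x hx =>
      obtain ⟨i, rfl⟩ := hx
      fin_cases i
      · exact (polar_comm _ _ _).trans huz
      · exact (polar_self Q z).trans (by rw [hQz, smul_zero])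
    | zero => rw [polar_zero_right]
    | add x y _ _ hx hy => rw [polar_add_right, hx, hy, add_zero]
    | smul a x _ hx => rw [polar_smul_right, hx, smul_zero]
  obtain ⟨x, hx, hQx, hgood⟩ : ∃ x ∈ perpS Q U, Q x ≠ 0 ∧
      (Q x / Q u ≠ -1 ∨ ∃ t : F, t ≠ 0 ∧ t ^ 2 ≠ 1) := by
    obtain ⟨x1, hx1, hQx1⟩ := exists_aniso_perp hQ (U := U) (by omega)
      (Submodule.subset_span ⟨0, rfl⟩) hu
    by_cases h1 : Q x1 / Q u ≠ -1
    · exact ⟨x1, hx1, hQx1, Or.inl h1⟩
    push Not at h1
    rcases h43 with ht | h6 | h6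
    · exact ⟨x1, hx1, hQx1, Or.inr ht⟩
    swap
    · omega
    set U' := U ⊔ Submodule.span F {x1}
    have hU' : Module.finrank F U' ≤ 3 := by
      refine (Submodule.finrank_add_le_finrank_add_finrank _ _).trans ?_
      have : Module.finrank F (Submodule.span F {x1}) ≤ 1 :=
        (finrank_span_le_card ({x1} : Set V)).trans (by simp)
      omega
    obtain ⟨x2, hx2, hQx2⟩ := exists_aniso_perp hQ (U := U') (by omega)
      (Submodule.mem_sup_left (Submodule.subset_span ⟨0, rfl⟩)) hu
    have hx2U : x2 ∈ perpS Q U := fun y hy => hx2 y (Submodule.mem_sup_left hy)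
    by_cases h3 : Q x2 / Q u ≠ -1
    · exact ⟨x2, hx2U, hQx2, Or.inl h3⟩
    push Not at h3
    rw [div_eq_iff hu] at h1 h3
    have hsum : Q (x1 + x2) = -2 * Q u := by
      rw [quad_add, hx2 x1 (Submodule.mem_sup_right (Submodule.mem_span_singleton_self x1)), h1, h3]
      ring
    refine ⟨x1 + x2, Submodule.add_mem _ hx1 hx2U,
      by rw [hsum]; exact mul_ne_zero (neg_ne_zero.mpr h2) hu, Or.inl ?_⟩
    rw [hsum, mul_div_cancel_right₀ _ hu]
    intro e
    exact one_ne_zero (α := F) (by linear_combination -e)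
  set ρ := Q x / Q u with hρ
  obtain ⟨a, s, hs0, has⟩ : ∃ a s : F, s ≠ 0 ∧ s ^ 2 - a ^ 2 = ρ := by
    rcases hgood with h | ⟨t, ht0, ht1⟩
    · refine ⟨(ρ - 1) / 2, (ρ + 1) / 2, div_ne_zero (fun e => h (by linear_combination e)) h2, ?_⟩
      field_simp; ring
    · by_cases h : ρ = -1
      · refine ⟨(-t⁻¹ - t) / 2, (t - t⁻¹) / 2, div_ne_zero (fun e => ht1 ?_) h2, ?_⟩
        · field_simp at e; linear_combination e
        · rw [h]; field_simp; ring
      · refine ⟨(ρ - 1) / 2, (ρ + 1) / 2, div_ne_zero (fun e => h (by linear_combination e)) h2, ?_⟩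
        field_simp; ring
  set w := a • u + x with hw
  have hxu : polar Q u x = 0 := hx u (Submodule.subset_span ⟨0, rfl⟩)
  have hxz : polar Q z x = 0 := hx z (Submodule.subset_span ⟨1, rfl⟩)
  have hQx' : Q x = ρ * Q u := by rw [hρ, div_mul_cancel₀ _ hu]
  have hQw : Q w = s ^ 2 * Q u := by
    rw [hw, quad_add, quad_smul, polar_smul_left, hxu, smul_zero, add_zero, hQx', ← has]; ring
  have hw0 : Q w ≠ 0 := by rw [hQw]; exact mul_ne_zero (pow_ne_zero _ hs0) hu
  have hwc : ¬IsSquare (c * Q w) := fun h => huc (by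
    have := h.mul (IsSquare.mul_self s⁻¹)
    rwa [hQw, show c * (s ^ 2 * Q u) * (s⁻¹ * s⁻¹) = c * Q u by field_simp] at this)
  have huw : polar Q u w = a * (2 * Q u) := by
    rw [hw, polar_add_right, polar_smul_right, huu, hxu, smul_eq_mul, add_zero]
  have hvw : polar Q v w = k * (a * (2 * Q u)) := by
    rw [hvz, polar_smul_left, polar_add_left, polar_smul_left, huw, hw, polar_add_right,
      polar_smul_right, polar_comm (⇑Q) z u, huz, hxz]
    simp
  have h4ρ : 2 * 2 * (Q x * Q u) ≠ 0 := mul_ne_zero (mul_ne_zero h2 h2) (mul_ne_zero hQx hu)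
  have hρs : Q x = (s ^ 2 - a ^ 2) * Q u := by rw [has, hQx']
  have m1 := pair_mem_classGroup_plane hQ h2 hn hc hu hw0 huc hwc (by
    rw [huw, hQw]
    intro e; exact h4ρ (by rw [hρs]; linear_combination e))
  have m2 := pair_mem_classGroup_plane hQ h2 hn hc hv hw0 hvc hwc (by
    rw [hvw, hQw, hQv]
    intro e; exact mul_ne_zero (mul_ne_zero hk0 hk0) h4ρ (by rw [hρs]; linear_combination e))
  have := mul_mem m1 (inv_mem m2)
  rwa [mul_inv_rev, refl_inv, refl_inv, mul_assoc, ← mul_assoc (refl Q w), refl_mul_self,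
    one_mul] at this

theorem classGroup_index (h2 : (2 : F) ≠ 0) (hn : 2 ≤ Module.finrank F V) {c : F} (hc : c ≠ 0)
    (hbig : Module.finrank F V ≠ 3)
    (h43 : (∃ t : F, t ≠ 0 ∧ t ^ 2 ≠ 1) ∨ 6 ≤ Module.finrank F V ∨ Module.finrank F V = 2) :
    (classGroup Q c).index = 2 := by
  obtain ⟨φ, hφ, hidx⟩ := exists_class_hom hQ h2 hn hc
  suffices h : classGroup Q c = φ.ker by rw [h]; exact hidx
  have hle : classGroup Q c ≤ φ.ker := by
    refine (Subgroup.closure_le _).mpr ?_
    rintro _ ⟨v, hv, hvc, rfl⟩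
    exact (hφ v hv).mpr hvc
  obtain ⟨e, he, hec⟩ : ∃ e, Q e ≠ 0 ∧ ¬IsSquare (c * Q e) := by
    obtain ⟨a, b, ha, hb, haS, hbS⟩ := exists_classes hQ h2 hn
    by_cases hC : IsSquare c
    · exact ⟨b, hb, fun h => hbS (((isSquare_mul_iff h2 hc hb).mp h).mp hC)⟩
    · exact ⟨a, ha, fun h => hC (((isSquare_mul_iff h2 hc ha).mp h).mpr haS)⟩
  have step : ∀ d (g : oGroup Q), (g ∈ classGroup Q c ∨ refl Q e * g ∈ classGroup Q c) →
      (refl Q d * g ∈ classGroup Q c ∨ refl Q e * (refl Q d * g) ∈ classGroup Q c) := by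
    intro d g hg
    by_cases hd : Q d = 0
    · rwa [refl_eq_one hd, one_mul]
    by_cases hdc : IsSquare (c * Q d)
    · rcases hg with h | h
      · exact Or.inl (mul_mem (refl_mem_classGroup hd hdc) h)
      · refine Or.inr ?_
        have : refl Q e * (refl Q d * g) = refl Q ((refl Q e).1 d) * (refl Q e * g) := by
          rw [← refl_conj, refl_inv]
          simp only [mul_assoc]
          rw [← mul_assoc (refl Q e) (refl Q e), refl_mul_self, one_mul]
        rw [this]
        exact mul_mem (refl_mem_classGroup (by rw [(refl Q e).2]; exact hd)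
          (by rw [(refl Q e).2]; exact hdc)) h
    · rcases hg with h | h
      · refine Or.inr ?_
        rw [← mul_assoc]
        exact mul_mem (pair_mem_classGroup hQ h2 hn hc hbig h43 he hd hec hdc) h
      · refine Or.inl ?_
        have : refl Q d * g = refl Q d * refl Q e * (refl Q e * g) := by
          rw [mul_assoc, ← mul_assoc (refl Q e), refl_mul_self, one_mul]
        rw [this]
        exact mul_mem (pair_mem_classGroup hQ h2 hn hc hbig h43 hd he hdc hec) h
  refine le_antisymm hle fun g hg => ?_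
  have hne : (1 : F) ≠ -1 := fun h => h2 (by linear_combination h)
  have hg' : g ∈ reflGroup Q := by
    rw [reflGroup_eq_top hQ (Or.inl ⟨-1, neg_ne_zero.mpr one_ne_zero, Ne.symm hne⟩)]; trivial
  have hcase : g ∈ classGroup Q c ∨ refl Q e * g ∈ classGroup Q c := by
    refine Subgroup.closure_induction_left (Or.inl (one_mem _)) ?_ ?_ hg'
    · rintro _ ⟨d, rfl⟩ y _ hy; exact step d y hy
    · rintro _ ⟨d, rfl⟩ y _ hy; rw [refl_inv]; exact step d y hy
  rcases hcase with h | h
  · exact h
  · exfalso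
    have h1 : φ (refl Q e * g) = 1 := hle h
    rw [map_mul, MonoidHom.mem_ker.mp hg, mul_one, hφ e he] at h1
    exact hec h1

end CfsgLib.Quad
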