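import Cfsg.Agent.Quad.Concrete
import Mathlib.RingTheory.IntegralDomain
import Mathlib.FieldTheory.IsAlgClosed.AlgebraicClosure
import Mathlib.GroupTheory.SpecificGroups.Dihedral

/-!
The orthogonal groups of the two kinds of plane: dihedral.
-/

set_option autoImplicit false
set_option linter.style.haveILetI false

namespace CfsgLib.Quad

open QuadraticMap CfsgLib.Forms

theorem nonempty_dihedral {G : Type*} [Group G] [Finite G] {N : ℕ} (hN : 1 ≤ N) {r s : G}
    (hs : s * s = 1) (hsr : s * r * s = r⁻¹) (hr : orderOf r = N)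
    (hns : s ∉ Subgroup.zpowers r) (hcard : Nat.card G = 2 * N) :
    Nonempty (G ≃* DihedralGroup N) := by
  haveI : NeZero N := ⟨by omega⟩
  have hpow : ∀ i j : ZMod N, r ^ i.val * r ^ j.val = r ^ (i + j).val := fun i j => by
    rw [← pow_add, ZMod.val_add]
    refine pow_eq_pow_mod (M := G) (a := r) _ ?_
    rw [← hr, pow_orderOf_eq_one]
  have hsub : ∀ i j : ZMod N, r ^ (j - i).val = (r ^ i.val)⁻¹ * r ^ j.val := fun i j => by
    rw [eq_inv_mul_iff_mul_eq, hpow, add_sub_cancel]
  have hsi : s⁻¹ = s := inv_eq_of_mul_eq_one_right hs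
  have hne : ∀ m : ℕ, r ^ m * s = s * (r ^ m)⁻¹ := fun m => by
    have h : (s * r * s) ^ m = s * r ^ m * s := by
      have h' := conj_pow (a := s) (b := r) (i := m)
      rwa [hsi] at h'
    rw [hsr, inv_pow] at h
    rw [h, ← mul_assoc, ← mul_assoc, hs, one_mul]
  let F : DihedralGroup N → G := fun g => match g with
    | DihedralGroup.r i => r ^ i.val
    | DihedralGroup.sr i => s * r ^ i.val
  let f : DihedralGroup N →* G :=
    { toFun := F
      map_one' := by change r ^ (0 : ZMod N).val = 1; simp
      map_mul' := by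
        rintro (i | i) (j | j)
        · exact (hpow i j).symm
        · change s * r ^ (j - i).val = r ^ i.val * (s * r ^ j.val)
          rw [hsub, ← mul_assoc, ← mul_assoc, hne]
        · change s * r ^ (i + j).val = s * r ^ i.val * r ^ j.val
          rw [mul_assoc, hpow]
        · change r ^ (j - i).val = s * r ^ i.val * (s * r ^ j.val)
          rw [hsub, mul_assoc s (r ^ i.val), ← mul_assoc (r ^ i.val) s, hne, mul_assoc, ← mul_assoc s,
            hs, one_mul] }
  have hsurj : Function.Surjective f := by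
    rw [← MonoidHom.range_eq_top]
    refine Subgroup.eq_top_of_le_card _ ?_
    have hle : Subgroup.zpowers r ≤ f.range := by
      rw [Subgroup.zpowers_le]
      refine ⟨DihedralGroup.r 1, ?_⟩
      change r ^ (1 : ZMod N).val = r
      rw [ZMod.val_one_eq_one_mod, ← hr, pow_mod_orderOf, pow_one]
    have hsm : s ∈ f.range := ⟨DihedralGroup.sr 0, show s * r ^ (0 : ZMod N).val = s by simp⟩
    obtain ⟨c, hc⟩ := Subgroup.card_dvd_of_le hle
    rw [Nat.card_zpowers, hr] at hc
    have h2 : c ≠ 0 := fun e => Nat.card_pos.ne' (hc.trans (by rw [e, mul_zero]))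
    have h1 : c ≠ 1 := fun e => hns ((Subgroup.eq_of_le_of_card_ge hle
      (by rw [Nat.card_zpowers, hr, hc, e, mul_one])).symm ▸ hsm)
    rw [hcard, hc, mul_comm 2]
    exact Nat.mul_le_mul_left _ (by omega)
  exact ⟨(MulEquiv.ofBijective f ((Nat.bijective_iff_surjective_and_card f).mpr
    ⟨hsurj, by rw [hcard, DihedralGroup.nat_card]⟩)).symm⟩

variable {F : Type*} [Field F]

/-- The binary form `z₁² + a z₁ z₂ + b z₂²`. -/
def planeQ (a b : F) : QuadraticForm F (F × F) :=
  LinearMap.BilinMap.toQuadraticMap (LinearMap.mk₂ F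
    (fun x y : F × F => x.1 * y.1 + a * (x.1 * y.2) + b * (x.2 * y.2))
    (fun x x' y => by simp only [Prod.fst_add, Prod.snd_add]; ring)
    (fun c x y => by simp only [Prod.smul_fst, Prod.smul_snd, smul_eq_mul]; ring)
    (fun x y y' => by simp only [Prod.fst_add, Prod.snd_add]; ring)
    (fun c x y => by simp only [Prod.smul_fst, Prod.smul_snd, smul_eq_mul]; ring))

theorem planeQ_apply (a b : F) (z : F × F) :
    planeQ a b z = z.1 ^ 2 + a * z.1 * z.2 + b * z.2 ^ 2 := by
  change z.1 * z.1 + a * (z.1 * z.2) + b * (z.2 * z.2) = _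
  ring

theorem planeQ_polar (a b : F) (x y : F × F) :
    polar (planeQ a b) x y =
      2 * x.1 * y.1 + a * (x.1 * y.2 + x.2 * y.1) + 2 * b * x.2 * y.2 := by
  simp only [polar, planeQ_apply, Prod.fst_add, Prod.snd_add]
  ring

/-- Multiplication in the quadratic extension. -/
def pmul (a b : F) (u : F × F) : F × F →ₗ[F] F × F where
  toFun z := (u.1 * z.1 - b * u.2 * z.2, u.2 * z.1 + (u.1 + a * u.2) * z.2)
  map_add' x y := by refine Prod.ext ?_ ?_ <;> simp only [Prod.fst_add, Prod.snd_add] <;> ring
  map_smul' c x := by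
    refine Prod.ext ?_ ?_ <;> simp only [Prod.smul_fst, Prod.smul_snd, smul_eq_mul, RingHom.id_apply] <;> ring

theorem planeQ_pmul (a b : F) (u z : F × F) :
    planeQ a b (pmul a b u z) = planeQ a b u * planeQ a b z := by
  simp only [planeQ_apply, pmul, LinearMap.coe_mk, AddHom.coe_mk]
  ring

variable {a b : F} (hab : ∀ z₁ z₂ : F, z₁ ^ 2 + a * z₁ * z₂ + b * z₂ ^ 2 = 0 → z₁ = 0 ∧ z₂ = 0)

include hab in
theorem planeQ_eq_zero {z : F × F} (h : planeQ a b z = 0) : z = 0 := by
  rw [planeQ_apply] at h
  exact Prod.ext (hab _ _ h).1 (hab _ _ h).2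

variable [Finite F]

include hab in
theorem planeQ_nondeg : (polarBilin (planeQ a b)).Nondegenerate := by
  have hd := disc_ne_zero hab
  have h1 : ∀ x : F × F, (∀ y, polar (planeQ a b) x y = 0) → x = 0 := by
    intro x hx
    have e0 := hx (1, 0)
    have e1 := hx (0, 1)
    rw [planeQ_polar] at e0 e1
    simp at e0 e1
    refine Prod.ext ((mul_eq_zero.mp (by linear_combination 2 * b * e0 - a * e1 :
      (4 * b - a ^ 2) * x.1 = 0)).resolve_left hd) ((mul_eq_zero.mp (by linear_combination 2 * e1 - a * e0 :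
      (4 * b - a ^ 2) * x.2 = 0)).resolve_left hd)
  exact ⟨fun x hx => h1 x hx, fun y hy => h1 y fun z => by rw [polar_comm]; exact hy z⟩

include hab in
theorem planeQ_surjective (c : F) : ∃ z : F × F, planeQ a b z = c := by
  by_cases h2 : (2 : F) = 0
  · haveI : CharP F 2 := CharTwo.of_one_ne_zero_of_two_eq_zero one_ne_zero h2
    obtain ⟨r, hr⟩ := FiniteField.isSquare_of_char_two (ringChar.eq F 2) c
    exact ⟨(r, 0), by rw [planeQ_apply]; linear_combination -hr⟩
  · have hd := disc_ne_zero hab
    have h4 : (4 : F) ≠ 0 := by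
      rw [show (4 : F) = 2 * 2 by norm_num]; exact mul_ne_zero h2 h2
    obtain ⟨x, y, h⟩ := exists_binary h2 one_ne_zero (div_ne_zero hd h4) c
    refine ⟨(x - a / 2 * y, y), ?_⟩
    rw [planeQ_apply, ← h]
    field_simp
    ring

include hab in
theorem card_planeQ_one {q : ℕ} (hq : Nat.card F = q) :
    Nat.card {z : F × F // planeQ a b z = 1} = q + 1 := by
  classical
  haveI := Fintype.ofFinite F
  have hfib : ∀ c : {c : F // c ≠ 0}, Nat.card {z : F × F // planeQ a b z = c.1} =
      Nat.card {z : F × F // planeQ a b z = 1} := by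
    rintro ⟨c, hc⟩
    obtain ⟨u, hu⟩ := planeQ_surjective hab c
    have hinj : Function.Injective (pmul a b u) := by
      rw [← LinearMap.ker_eq_bot, eq_bot_iff]
      intro z hz
      have h := planeQ_pmul a b u z
      rw [LinearMap.mem_ker.mp hz, QuadraticMap.map_zero, hu] at h
      exact (Submodule.mem_bot F).mpr
        (planeQ_eq_zero hab ((mul_eq_zero.mp h.symm).resolve_left hc))
    let E := LinearEquiv.ofBijective (pmul a b u)
      ⟨hinj, LinearMap.injective_iff_surjective.mp hinj⟩
    refine (Nat.card_congr (Equiv.subtypeEquiv E.toEquiv fun z => ?_)).symm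
    change planeQ a b z = 1 ↔ planeQ a b (pmul a b u z) = c
    rw [planeQ_pmul, hu]
    exact ⟨fun h => by rw [h, mul_one], fun h => mul_left_cancel₀ hc (h.trans (mul_one c).symm)⟩
  have e : {z : F × F // z ≠ 0} ≃ Σ c : {c : F // c ≠ 0}, {z : F × F // planeQ a b z = c.1} :=
    { toFun := fun z => ⟨⟨planeQ a b z.1, fun h => z.2 (planeQ_eq_zero hab h)⟩, z.1, rfl⟩
      invFun := fun p => ⟨p.2.1, fun h => p.1.2 (by rw [← p.2.2, h, QuadraticMap.map_zero])⟩
      left_inv := fun z => rfl
      right_inv := fun p => by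
        rcases p with ⟨⟨c, hc⟩, z, hz⟩
        exact Sigma.subtype_ext (Subtype.ext hz) rfl }
  have h := Nat.card_congr e
  rw [Nat.card_sigma, Finset.sum_congr rfl fun c _ => hfib c, Finset.sum_const, Finset.card_univ,
    smul_eq_mul, Nat.card_eq_fintype_card, Fintype.card_subtype_compl, Fintype.card_subtype_eq,
    Fintype.card_subtype_compl, Fintype.card_subtype_eq, Fintype.card_prod,
    ← Nat.card_eq_fintype_card (α := F), hq] at h
  have hq1 : 2 ≤ q := hq ▸ Finite.one_lt_card
  obtain ⟨r, rfl⟩ : ∃ r, q = r + 2 := ⟨q - 2, by omega⟩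
  refine Nat.eq_of_mul_eq_mul_left (show 0 < r + 1 by omega) ?_
  rw [show r + 2 - 1 = r + 1 from rfl] at h
  rw [← h, Nat.sub_eq_iff_eq_add (Nat.one_le_iff_ne_zero.mpr (by positivity))]
  ring

include hab in
/-- The orthogonal group of an anisotropic plane. -/
theorem oGroup_plane {q : ℕ} (hq : Nat.card F = q) :
    Nat.card (oGroup (planeQ a b)) = 2 * (q + 1) ∧
      Nonempty (oGroup (planeQ a b) ≃* DihedralGroup (q + 1)) := by
  classical
  set Q := planeQ a b with hQ
  have hnd := planeQ_nondeg hab
  haveI : Finite (oGroup Q) := Finite.of_injective (fun g => (g.1 : F × F → F × F))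
    fun g h e => Subtype.ext (LinearEquiv.ext (congrFun e))
  have hQa : ∀ z, Q z = z.1 ^ 2 + a * z.1 * z.2 + b * z.2 ^ 2 := planeQ_apply a b
  have hpm : ∀ u z, Q (pmul a b u z) = Q u * Q z := planeQ_pmul a b
  let S := {z : F × F // Q z = 1}
  have hS : Nat.card S = q + 1 := card_planeQ_one hab hq
  -- rotations
  let rot : S → oGroup Q := fun u => ⟨quadEquiv hnd (pmul a b u.1) (fun z => by
      rw [hpm, u.2, one_mul]), fun z => by
      rw [quadEquiv_apply, hpm, u.2, one_mul]⟩
  -- conjugation
  let cmap : F × F →ₗ[F] F × F :=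
    { toFun := fun z => (z.1 + a * z.2, -z.2)
      map_add' := fun x y => by refine Prod.ext ?_ ?_ <;> simp only [Prod.fst_add, Prod.snd_add] <;> ring
      map_smul' := fun c x => by
        refine Prod.ext ?_ ?_ <;>
          simp only [Prod.smul_fst, Prod.smul_snd, smul_eq_mul, RingHom.id_apply] <;> ring }
  have hc : ∀ z, Q (cmap z) = Q z := fun z => by
    simp only [hQ, planeQ_apply, cmap, LinearMap.coe_mk, AddHom.coe_mk]; ring
  let C : oGroup Q := ⟨quadEquiv hnd cmap hc, hc⟩
  have hrot : ∀ (u : S) z, (rot u).1 z = pmul a b u.1 z := fun u z => rfl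
  have hC : ∀ z, C.1 z = (z.1 + a * z.2, -z.2) := fun z => rfl
  have hext : ∀ g h : oGroup Q, g.1 (1, 0) = h.1 (1, 0) → g.1 (0, 1) = h.1 (0, 1) → g = h := by
    intro g h h1 h2
    refine Subtype.ext (LinearEquiv.ext fun z => ?_)
    have hz : z = z.1 • ((1, 0) : F × F) + z.2 • ((0, 1) : F × F) := by simp
    rw [hz, map_add, map_add, map_smul, map_smul, map_smul, map_smul, h1, h2]
  have hrot1 : ∀ u : S, (rot u).1 (1, 0) = u.1 := fun u => by
    rw [hrot]; simp [pmul]
  have hrot2 : ∀ u : S, (rot u).1 (0, 1) = (-b * u.1.2, u.1.1 + a * u.1.2) := fun u => by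
    rw [hrot]; simp [pmul]
  have hd := disc_ne_zero hab
  -- classification
  have hclass : ∀ g : oGroup Q, ∃ u : S, g = rot u ∨ g = rot u * C := by
    intro g
    let u : S := ⟨g.1 (1, 0), by rw [g.2, hQa]; simp⟩
    refine ⟨u, ?_⟩
    set h := (rot u)⁻¹ * g with hh
    have h10 : h.1 (1, 0) = (1, 0) := by
      change ((rot u).1.symm (g.1 (1, 0)) : F × F) = _
      rw [LinearEquiv.symm_apply_eq, hrot1]
    set w := h.1 (0, 1) with hw
    have hp := polar_oGroup h (1, 0) (0, 1)
    have hq' := h.2 (0, 1)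
    rw [h10, ← hw] at hp
    rw [← hw] at hq'
    rw [hQ, planeQ_polar, planeQ_polar] at hp
    rw [hQa, hQa] at hq'
    simp at hp hq'
    have hw2 : w.2 = 1 ∨ w.2 = -1 := by
      refine sq_eq_one_iff.mp (sub_eq_zero.mp ?_)
      exact (mul_eq_zero.mp (by linear_combination 4 * hq' - (2 * w.1 + a * w.2 + a) * hp :
        (4 * b - a ^ 2) * (w.2 ^ 2 - 1) = 0)).resolve_left hd
    have hg : g = rot u * h := by rw [hh]; group
    rcases hw2 with h2 | h2
    · have hz : w.1 * (w.1 + a) = 0 := by rw [h2] at hq'; linear_combination hq'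
      rcases mul_eq_zero.mp hz with h1 | h1
      · left
        rw [hg, show h = 1 from hext _ _ (by rw [h10]; rfl) (by rw [← hw]; exact Prod.ext h1 h2),
          mul_one]
      · by_cases h20 : (2 : F) = 0
        · -- characteristic two: this is `C`
          right
          rw [hg, show h = C from hext _ _ (by rw [h10, hC]; simp) (by
            rw [← hw, hC]
            refine Prod.ext ?_ ?_ <;> simp only
            · linear_combination h1 - a * h20
            · linear_combination h2 + h20)]
        · left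
          have h0 : w.1 = 0 := (mul_eq_zero.mp (by rw [h2] at hp; linear_combination hp :
            (2 : F) * w.1 = 0)).resolve_left h20
          rw [hg, show h = 1 from hext _ _ (by rw [h10]; rfl) (by rw [← hw]; exact Prod.ext h0 h2),
            mul_one]
    · have hz : w.1 * (w.1 - a) = 0 := by rw [h2] at hq'; linear_combination hq'
      rcases mul_eq_zero.mp hz with h1 | h1
      · by_cases h20 : (2 : F) = 0
        · left
          rw [hg, show h = 1 from hext _ _ (by rw [h10]; rfl) (by
            rw [← hw]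
            refine Prod.ext h1 ?_
            change w.2 = 1
            linear_combination h2 - h20), mul_one]
        · right
          have ha : a = 0 := (mul_eq_zero.mp (by rw [h1, h2] at hp; linear_combination -hp :
            (2 : F) * a = 0)).resolve_left h20
          rw [hg, show h = C from hext _ _ (by rw [h10, hC]; simp) (by
            rw [← hw, hC]; exact Prod.ext (by simp [h1, ha]) (by simpa using h2))]
      · right
        rw [hg, show h = C from hext _ _ (by rw [h10, hC]; simp) (by
          rw [← hw, hC]; exact Prod.ext (by simp [sub_eq_zero.mp h1]) (by simpa using h2))]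
  have hrotinj : Function.Injective rot := fun u v e => Subtype.ext (by
    rw [← hrot1 u, e, hrot1])
  have hCne : ∀ u v, rot u ≠ rot v * C := by
    intro u v e
    have huv : u = v := Subtype.ext (by
      rw [← hrot1 u, e]
      change (rot v).1 (C.1 (1, 0)) = _
      rw [hC]; simpa using hrot1 v)
    subst huv
    have h1 : C = 1 := mul_left_cancel (a := rot u) (by rw [mul_one]; exact e.symm)
    have h2 := congrArg (fun g : oGroup Q => g.1 (0, 1)) h1
    change C.1 (0, 1) = (0, 1) at h2
    rw [hC] at h2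
    simp [Prod.ext_iff] at h2
    exact hd (by linear_combination -(a) * h2.1 + (-2 * b) * h2.2)
  have hcard : Nat.card (oGroup Q) = 2 * (q + 1) := by
    let φ : S ⊕ S → oGroup Q := Sum.elim rot fun u => rot u * C
    have hφ : Function.Bijective φ := by
      refine ⟨?_, fun g => ?_⟩
      · rintro (u | u) (v | v) e
        · exact congrArg _ (hrotinj e)
        · exact absurd e (hCne u v)
        · exact absurd e.symm (hCne v u)
        · exact congrArg _ (hrotinj (mul_right_cancel e))
      · obtain ⟨u, h | h⟩ := hclass g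
        · exact ⟨.inl u, h.symm⟩
        · exact ⟨.inr u, h.symm⟩
    rw [← Nat.card_congr (Equiv.ofBijective φ hφ), Nat.card_sum, hS, two_mul]
  refine ⟨hcard, ?_⟩
  let R : Subgroup (oGroup Q) :=
    { carrier := Set.range rot
      one_mem' := ⟨⟨(1, 0), by rw [hQa]; simp⟩, hext _ _ (hrot1 _) (by
        rw [hrot2]; simp)⟩
      mul_mem' := by
        rintro _ _ ⟨u, rfl⟩ ⟨v, rfl⟩
        refine ⟨⟨pmul a b u.1 v.1, by rw [hpm, u.2, v.2, one_mul]⟩, hext _ _ ?_ ?_⟩
        · change _ = (rot u).1 ((rot v).1 (1, 0))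
          rw [hrot1, hrot1]; rfl
        · change _ = (rot u).1 ((rot v).1 (0, 1))
          rw [hrot2, hrot2, hrot]
          refine Prod.ext ?_ ?_ <;> simp [pmul] <;> ring
      inv_mem' := by
        rintro _ ⟨u, rfl⟩
        refine ⟨⟨cmap u.1, by rw [hc, u.2]⟩, eq_inv_of_mul_eq_one_left (hext _ _ ?_ ?_)⟩
        · change (rot _).1 ((rot u).1 (1, 0)) = ((1, 0) : F × F)
          rw [hrot1, hrot]
          have := u.2
          rw [hQa] at this
          refine Prod.ext ?_ ?_ <;> simp [pmul, cmap]
          · linear_combination this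
          · ring
        · change (rot _).1 ((rot u).1 (0, 1)) = ((0, 1) : F × F)
          rw [hrot2, hrot]
          have := u.2
          rw [hQa] at this
          refine Prod.ext ?_ ?_ <;> simp [pmul, cmap]
          · ring
          · linear_combination this }
  haveI : IsCyclic R := by
    obtain ⟨r, hr⟩ := IsAlgClosed.exists_root (k := AlgebraicClosure F)
      (Polynomial.X ^ 2 + (Polynomial.C (-(algebraMap F (AlgebraicClosure F) a)) * Polynomial.X +
        Polynomial.C (algebraMap F (AlgebraicClosure F) b))) (by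
      rw [Polynomial.degree_add_eq_left_of_degree_lt]
      · simp
      · exact lt_of_le_of_lt Polynomial.degree_linear_le (by simp [Polynomial.degree_X_pow]))
    simp [Polynomial.IsRoot] at hr
    set ι := algebraMap F (AlgebraicClosure F)
    have hr2 : r * r = ι a * r - ι b := by linear_combination hr
    have hind : ∀ x y : F, ι x + ι y * r = 0 → x = 0 ∧ y = 0 := by
      intro x y h
      by_cases hy : y = 0
      · subst hy; simp at h; exact ⟨h, rfl⟩
      · exfalso
        have hrr : r = ι (-x / y) := by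
          have hy' : ι y ≠ 0 := by simpa using hy
          rw [map_div₀, map_neg, eq_div_iff hy']
          linear_combination h
        rw [hrr, ← map_mul, ← map_mul, ← map_sub] at hr2
        have h1 := ι.injective hr2
        exact one_ne_zero (neg_eq_zero.mp (hab (-x / y) (-1) (by linear_combination h1)).2)
    let ψ : R →* AlgebraicClosure F :=
      { toFun := fun g => ι (g.1.1 (1, 0)).1 + ι (g.1.1 (1, 0)).2 * r
        map_one' := by simp
        map_mul' := by
          rintro ⟨_, u, rfl⟩ ⟨_, v, rfl⟩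
          change ι ((rot u).1 ((rot v).1 (1, 0))).1 + ι ((rot u).1 ((rot v).1 (1, 0))).2 * r =
            (ι ((rot u).1 (1, 0)).1 + ι ((rot u).1 (1, 0)).2 * r) *
              (ι ((rot v).1 (1, 0)).1 + ι ((rot v).1 (1, 0)).2 * r)
          rw [hrot1, hrot1, hrot]
          simp [pmul]
          linear_combination (-(ι u.1.2 * ι v.1.2)) * hr2 }
    refine isCyclic_of_subgroup_isDomain ψ ?_
    rintro ⟨_, u, rfl⟩ ⟨_, v, rfl⟩ e
    change ι ((rot u).1 (1, 0)).1 + ι ((rot u).1 (1, 0)).2 * r =
      ι ((rot v).1 (1, 0)).1 + ι ((rot v).1 (1, 0)).2 * r at e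
    rw [hrot1, hrot1] at e
    obtain ⟨h1, h2⟩ := hind (u.1.1 - v.1.1) (u.1.2 - v.1.2) (by simp only [map_sub]; linear_combination e)
    have : u = v := Subtype.ext (Prod.ext (sub_eq_zero.mp h1) (sub_eq_zero.mp h2))
    subst this; rfl
  obtain ⟨⟨_, u, rfl⟩, hgen⟩ := IsCyclic.exists_generator (α := R)
  have hRz : ∀ g : oGroup Q, g ∈ Subgroup.zpowers (rot u) ↔ g ∈ R := fun g => by
    constructor
    · intro hg
      exact (Subgroup.zpowers_le.mpr (show rot u ∈ R from ⟨u, rfl⟩)) hg
    · intro hg
      obtain ⟨i, hi⟩ := Subgroup.mem_zpowers_iff.mp (hgen ⟨g, hg⟩)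
      exact ⟨i, by simpa using congrArg Subtype.val hi⟩
  refine nonempty_dihedral (r := rot u) (s := C) (by omega) ?_ ?_ ?_ ?_ hcard
  · exact hext _ _ (by change C.1 (C.1 (1, 0)) = _; rw [hC, hC]; simp)
      (by change C.1 (C.1 (0, 1)) = _; rw [hC, hC]; simp)
  · refine eq_inv_of_mul_eq_one_left (hext _ _ ?_ ?_)
    · change C.1 ((rot u).1 (C.1 ((rot u).1 (1, 0)))) = ((1, 0) : F × F)
      rw [hrot1, hC, hrot, hC]
      have := u.2
      rw [hQa] at this
      refine Prod.ext ?_ ?_ <;> simp [pmul]
      · linear_combination this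
      · ring
    · change C.1 ((rot u).1 (C.1 ((rot u).1 (0, 1)))) = ((0, 1) : F × F)
      rw [hrot2, hC, hrot, hC]
      have := u.2
      rw [hQa] at this
      refine Prod.ext ?_ ?_ <;> simp [pmul]
      · ring
      · linear_combination this
  · rw [← Nat.card_zpowers, show Subgroup.zpowers (rot u) = R from Subgroup.ext hRz,
      ← hS]
    exact Nat.card_congr (Equiv.ofInjective rot hrotinj).symm
  · rw [hRz]
    rintro ⟨v, hv⟩
    refine hCne v ⟨(1, 0), by rw [hQa]; simp⟩ ?_
    rw [hv]
    conv_lhs => rw [← one_mul C]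
    congr 1
    exact (hext _ _ (hrot1 _) (by rw [hrot2]; simp)).symm

end CfsgLib.Quad
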