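import Cfsg.Agent.Quad.Klein
import Cfsg.Agent.Unitary.Commutators

/-!
`POmega_6^-(q) ≅ PSU_4(q)` through the Klein correspondence.
-/

set_option autoImplicit false
set_option linter.style.haveILetI false
set_option linter.flexible false

namespace CfsgLib.Quad

open QuadraticMap Matrix CfsgLib.Forms

/-- Exchange the two halves of the coordinates. -/
def swapP {K : Type*} (p : Fin 3 ⊕ Fin 3 → K) : Fin 3 ⊕ Fin 3 → K :=
  Sum.elim (fun i => p (Sum.inr i)) (fun i => p (Sum.inl i))

/-- The dual matrix transforms by the inverse transpose. -/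
theorem klein_swap_congr {K : Type*} [Field K] (g : Matrix (Fin 4) (Fin 4) K)
    (p : Fin 3 ⊕ Fin 3 → K) :
    gᵀ * klein (swapP (kleinInv (g * klein p * gᵀ))) * g = g.det • klein (swapP p) := by
  ext i j
  fin_cases i <;> fin_cases j <;>
    simp [klein, kleinInv, swapP, Matrix.mul_apply, Fin.sum_univ_four, Matrix.det_succ_row_zero,
      Fin.sum_univ_three, Fin.succAbove] <;> ring

variable {F K : Type*} [Field F] [Finite F] [Field K] [Finite K] [Algebra F K]

/-- Three norm forms inside the Klein quadric. -/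
def unitEmb (σ : K →+* K) (hσ : ∀ x : F, σ (algebraMap F K x) = algebraMap F K x) :
    (Fin 3 → K) →ₗ[F] (Fin 3 ⊕ Fin 3 → K) where
  toFun w := Sum.elim w fun i => σ (w i)
  map_add' u v := by funext i; rcases i with i | i <;> simp
  map_smul' c v := by funext i; rcases i with i | i <;> simp [Algebra.smul_def, hσ]

theorem nonempty_pOmega_six_minus {q : ℕ} (hF : Nat.card F = q) (hK : Nat.card K = q ^ 2)
    (hinc : ∀ x : F, (algebraMap F K x) ^ q = algebraMap F K x) {a b : F}
    (hab : ∀ z₁ z₂ : F, z₁ ^ 2 + a * z₁ * z₂ + b * z₂ ^ 2 = 0 → z₁ = 0 ∧ z₂ = 0) :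
    Nonempty (Cfsg.POmega F ⇑(minusQ (F := F) 2 a b) ≃* Cfsg.PSU 4 K q) := by
  classical
  haveI := Fintype.ofFinite K
  haveI := Fintype.ofFinite F
  haveI := finite_oGroup (minusQ (F := F) 2 a b)
  set σ := CfsgLib.Forms.frobQ (F := K) hK with hσ
  have hσF : ∀ x : F, σ (algebraMap F K x) = algebraMap F K x := hinc
  have hσσ : ∀ x, σ (σ x) = x := CfsgLib.Forms.frobQ_invol hK
  have halg : Function.Injective (algebraMap F K) := (algebraMap F K).injective
  obtain ⟨θ, hθ, hθF⟩ := exists_quad_root (F := F) (K := K) (by rw [hK, hF]) hab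
  have hbij : Function.Bijective fun p : F × F => algebraMap F K p.1 + algebraMap F K p.2 * θ := by
    refine Function.Injective.bijective_of_nat_card_le ?_ ?_
    · rintro ⟨s, t⟩ ⟨s', t'⟩ e
      simp only at e
      have ht : t = t' := by
        by_contra hne
        refine hθF ((s' - s) / (t - t')) ?_
        rw [map_div₀, map_sub, map_sub, div_eq_iff (sub_ne_zero.mpr (halg.ne hne))]
        linear_combination -e
      subst ht
      rw [add_left_inj] at e
      rw [halg e]
    · rw [Nat.card_prod, hK, hF, pow_two]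
  have hθσ : σ θ ≠ θ := by
    intro e
    have hall : ∀ x : K, x ^ q = x := fun x => by
      obtain ⟨⟨s, t⟩, rfl⟩ := hbij.2 x
      rw [← frobQ_apply hK, map_add, map_mul, e, hσF, hσF]
    exact CfsgLib.Forms.frobQ_ne_id hK (RingHom.ext hall)
  have hroot' : (σ θ) ^ 2 - algebraMap F K a * σ θ + algebraMap F K b = 0 := by
    have := congrArg σ hθ
    rwa [map_add, map_sub, map_mul, map_pow, hσF, hσF, map_zero] at this
  have hsum : θ + σ θ = algebraMap F K a := by
    have hfac : (θ - σ θ) * (θ + σ θ - algebraMap F K a) = 0 := by linear_combination hθ - hroot'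
    exact sub_eq_zero.mp ((mul_eq_zero.mp hfac).resolve_left (sub_ne_zero.mpr (Ne.symm hθσ)))
  have hprod : θ * σ θ = algebraMap F K b := by linear_combination θ * hsum - hθ
  -- a scalar of norm `-1`
  obtain ⟨lam, hlam⟩ := CfsgLib.Forms.finite_norm_surjective (CfsgLib.Forms.frobQ_ne_id hK)
    hσσ (-1 : K) (by rw [map_neg, map_one]) (neg_ne_zero.mpr one_ne_zero)
  -- change of coordinates on the first four entries
  let T : (Fin 4 → F) →ₗ[F] (Fin 4 → F) :=
    { toFun := fun w => ![w 0 - w 2, w 0 + w 2 + a * w 1, w 1 - w 3, a * w 2 + b * (w 1 + w 3)]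
      map_add' := fun u v => by funext i; fin_cases i <;> simp <;> ring
      map_smul' := fun c v => by funext i; fin_cases i <;> simp <;> ring }
  have hTinj : Function.Injective T := by
    rw [← LinearMap.ker_eq_bot, LinearMap.ker_eq_bot']
    intro w hw
    have e0 := congrFun hw 0
    have e1 := congrFun hw 1
    have e2 := congrFun hw 2
    have e3 := congrFun hw 3
    simp [T] at e0 e1 e2 e3
    have hD := disc_ne_zero hab
    have w1 : w 1 = 0 := by
      refine (mul_eq_zero.mp (?_ : (4 * b - a ^ 2) * w 1 = 0)).resolve_left hD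
      linear_combination 2 * e3 + (2 * b) * e2 - a * e1 + a * e0
    have w3 : w 3 = 0 := by rw [← sub_eq_zero.mp e2]; exact w1
    have w0 : w 0 = 0 := by
      have h20 : 2 * w 0 = 0 := by linear_combination e1 + e0 - a * w1
      have ha0 : a * w 0 = 0 := by linear_combination e3 + a * e0 - b * w1 - b * w3
      by_cases h2 : (2 : F) = 0
      · refine (mul_eq_zero.mp ha0).resolve_left fun e => hD ?_
        rw [e]
        linear_combination (2 * b) * h2
      · exact (mul_eq_zero.mp h20).resolve_left h2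
    funext i
    fin_cases i
    · exact w0
    · exact w1
    · exact (sub_eq_zero.mp e0).symm.trans w0
    · exact w3
  let Te := LinearEquiv.ofInjectiveEndo T hTinj
  let pre : ((Fin 2 ⊕ Fin 2) ⊕ Fin 2 → F) → (Fin 4 → F) := fun v =>
    Te.symm ![v (Sum.inl (Sum.inl 0)), v (Sum.inl (Sum.inr 0)), v (Sum.inl (Sum.inl 1)),
      v (Sum.inl (Sum.inr 1))]
  let cd : F → F → K := fun s t => algebraMap F K s + algebraMap F K t * θ
  have hcd : ∀ s t, cd s t * σ (cd s t) = algebraMap F K (s ^ 2 + a * s * t + b * t ^ 2) := by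
    intro s t
    simp only [cd, map_add, map_mul, map_pow, hσF, ← hsum, ← hprod]
    ring
  let Z : ((Fin 2 ⊕ Fin 2) ⊕ Fin 2 → F) →ₗ[F] (Fin 3 → K) :=
    { toFun := fun v => ![cd (pre v 0) (pre v 1), lam * cd (pre v 2) (pre v 3),
        cd (v (Sum.inr 0)) (v (Sum.inr 1))]
      map_add' := fun u v => by
        have : pre (u + v) = pre u + pre v := by
          simp only [pre]
          rw [← map_add]
          congr 1
          funext i; fin_cases i <;> simp
        funext i; fin_cases i <;> simp [this, cd] <;> ring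
      map_smul' := fun c v => by
        have : pre (c • v) = c • pre v := by
          simp only [pre]
          rw [← map_smul]
          congr 1
          funext i; fin_cases i <;> simp
        simp only [this]; funext i; fin_cases i <;> simp [cd] <;> simp [Algebra.smul_def] <;> ring }
  have hlam0 : lam ≠ 0 := fun e => neg_ne_zero.mpr one_ne_zero (by rw [← hlam, e, zero_mul])
  have hZsurj : Function.Surjective Z := by
    intro w
    obtain ⟨⟨s, t⟩, h0⟩ := hbij.2 (w 0)
    obtain ⟨⟨s', t'⟩, h1⟩ := hbij.2 (w 1 / lam)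
    obtain ⟨⟨x, y⟩, h2⟩ := hbij.2 (w 2)
    simp only at h0 h1 h2
    set u := Te ![s, t, s', t']
    refine ⟨Sum.elim (Sum.elim ![u 0, u 2] ![u 1, u 3]) ![x, y], ?_⟩
    have hu : (![u 0, u 1, u 2, u 3] : Fin 4 → F) = u := by funext i; fin_cases i <;> rfl
    funext i
    fin_cases i <;> simp [Z, pre, cd, hu, u, h0, h1, h2, mul_div_cancel₀ _ hlam0]
  have hcardV : Nat.card ((Fin 2 ⊕ Fin 2) ⊕ Fin 2 → F) = Nat.card (Fin 3 → K) := by
    rw [Nat.card_fun, Nat.card_fun, hF, hK, Nat.card_eq_fintype_card, Nat.card_eq_fintype_card,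
      ← pow_mul]
    rfl
  have hZ : Function.Bijective Z := Nat.bijective_iff_surjective_and_card _ |>.mpr ⟨hZsurj, hcardV⟩
  let E := unitEmb (F := F) σ hσF
  let M := ((klein (K := K)).restrictScalars F).comp (E.comp Z)
  have hinj : Function.Injective M := by
    refine klein_injective.comp ?_
    intro u v e
    refine hZ.1 (funext fun i => ?_)
    exact congrFun e (Sum.inl i)
  have hval : ∀ v, plusQ (F := K) 3 (E (Z v)) = algebraMap F K (minusQ 2 a b v) := by
    intro v
    have hT : T (pre v) = ![v (Sum.inl (Sum.inl 0)), v (Sum.inl (Sum.inr 0)),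
        v (Sum.inl (Sum.inl 1)), v (Sum.inl (Sum.inr 1))] := Te.apply_symm_apply _
    have e0 := congrFun hT 0
    have e1 := congrFun hT 1
    have e2 := congrFun hT 2
    have e3 := congrFun hT 3
    simp [T] at e0 e1 e2 e3
    have h1 : lam * cd (pre v 2) (pre v 3) * σ (lam * cd (pre v 2) (pre v 3)) =
        -algebraMap F K ((pre v 2) ^ 2 + a * pre v 2 * pre v 3 + b * (pre v 3) ^ 2) := by
      rw [← hcd, map_mul]
      linear_combination (cd (pre v 2) (pre v 3) * σ (cd (pre v 2) (pre v 3))) * hlam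
    have hsum3 : plusQ (F := K) 3 (E (Z v)) =
        cd (pre v 0) (pre v 1) * σ (cd (pre v 0) (pre v 1)) +
        lam * cd (pre v 2) (pre v 3) * σ (lam * cd (pre v 2) (pre v 3)) +
        cd (v (Sum.inr 0)) (v (Sum.inr 1)) * σ (cd (v (Sum.inr 0)) (v (Sum.inr 1))) := by
      simp [plusQ_coe, Cfsg.quadFormPlus, E, unitEmb, Z, Fin.sum_univ_three]
    rw [hsum3, hcd, h1, hcd, ← map_neg, ← map_add, ← map_add]
    congr 1
    simp only [minusQ_coe, Cfsg.quadFormMinus, Fin.sum_univ_two, ← e0, ← e1, ← e2, ← e3]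
    ring
  set S := Cfsg.SU 4 K q
  let ρ : S →* Matrix (Fin 4) (Fin 4) K := (slVal (Fin 4) K).comp S.subtype
  have hρ : ∀ g : S, (ρ g)ᵀ * σ.mapMatrix (ρ g) = 1 := by
    intro g
    ext i j
    have h := CfsgLib.Unitary.su_preserves g (Pi.single i 1) (Pi.single j 1)
    rw [Matrix.mulVec_single_one, Matrix.mulVec_single_one] at h
    have h' : Cfsg.hermForm 4 K q (Pi.single i 1) (Pi.single j 1) = (1 : Matrix (Fin 4) (Fin 4) K) i j := by
      rw [CfsgLib.Unitary.herm_single_left, Matrix.one_apply]
      have hq0 : q ≠ 0 := fun e => by simp [e] at hF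
      by_cases hij : i = j
      · subst hij; simp
      · simp [hij, hq0, Ne.symm hij]
    rw [← h', ← h]
    simp [Cfsg.hermForm, Matrix.mul_apply, ρ, slVal_apply, σ, frobQ_apply]
  let act := congrAct (F := F) ρ ρ
  have hklein : ∀ p : Fin 3 ⊕ Fin 3 → K,
      σ.mapMatrix (klein p) = klein (fun i => σ (p i)) := fun p => by
    ext i j; fin_cases i <;> fin_cases j <;> simp [klein]
  have hstab : ∀ g v, ∃ w, M w = act g (M v) := by
    intro g v
    set p := E (Z v) with hp
    set r := kleinInv (ρ g * klein p * (ρ g)ᵀ) with hr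
    have hkr : klein r = ρ g * klein p * (ρ g)ᵀ := klein_congr_mem _ _
    have hd : (ρ g).det = 1 := g.1.2
    have h1 := klein_swap_congr (ρ g) p
    rw [← hr, hd, one_smul] at h1
    have hsp : swapP p = fun i => σ (p i) := by
      funext i; rcases i with i | i <;> simp [swapP, p, E, unitEmb, hσσ]
    have hinv : σ.mapMatrix (ρ g) * (ρ g)ᵀ = 1 := mul_eq_one_comm.mp (hρ g)
    have h2 : σ.mapMatrix (klein r) = klein (swapP r) := by
      rw [hkr, map_mul, map_mul, hklein, ← hsp, ← h1]
      have ht : σ.mapMatrix (ρ g)ᵀ = (σ.mapMatrix (ρ g))ᵀ := by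
        ext i j; simp
      have hinv2 : ρ g * (σ.mapMatrix (ρ g))ᵀ = 1 := by
        have := congrArg Matrix.transpose hinv
        rwa [Matrix.transpose_mul, Matrix.transpose_transpose, Matrix.transpose_one] at this
      rw [ht]
      calc σ.mapMatrix (ρ g) * ((ρ g)ᵀ * klein (swapP r) * ρ g) * (σ.mapMatrix (ρ g))ᵀ
          = (σ.mapMatrix (ρ g) * (ρ g)ᵀ) * klein (swapP r) * (ρ g * (σ.mapMatrix (ρ g))ᵀ) := by
            simp only [Matrix.mul_assoc]
        _ = klein (swapP r) := by rw [hinv, hinv2, Matrix.one_mul, Matrix.mul_one]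
    rw [hklein] at h2
    have h3 := klein_injective h2
    obtain ⟨w, hw⟩ := hZ.2 (fun i => r (Sum.inl i))
    refine ⟨w, ?_⟩
    refine (congrArg klein ?_).trans hkr
    change E (Z w) = r
    rw [hw]
    funext i
    rcases i with i | i
    · rfl
    · exact congrFun h3 (Sum.inl i)
  have hQ : ∀ g v w, M w = act g (M v) → minusQ (F := F) 2 a b w = minusQ 2 a b v := by
    intro g v w e
    apply halg
    rw [← hval, ← hval]
    exact plusQ_of_klein_eq g.1.2 e
  let f := repO act M hinj hstab hQ
  have hker : ∀ g : S, f g = 1 ↔ (ρ g = 1 ∨ ρ g = -1) := by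
    intro g
    rw [repO_eq_one_iff]
    constructor
    · intro h
      refine eq_pm_of_congr_klein fun p => ?_
      -- every coordinate vector is a combination of two stable ones
      have hdiff : θ - σ θ ≠ 0 := sub_ne_zero.mpr (Ne.symm hθσ)
      set u : Fin 3 → K := fun i => θ * p (Sum.inl i) + σ θ * σ (p (Sum.inr i)) with hu
      set u' : Fin 3 → K := fun i => p (Sum.inl i) + σ (p (Sum.inr i)) with hu'
      have hdec : p = (θ - σ θ)⁻¹ • E u + (-(σ θ) * (θ - σ θ)⁻¹) • E u' := by
        funext i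
        rcases i with i | i <;> simp [E, unitEmb, u, u', hσσ] <;> field_simp <;> ring
      obtain ⟨v, hv⟩ := hZ.2 u
      obtain ⟨v', hv'⟩ := hZ.2 u'
      have e1 : ρ g * klein (E u) * (ρ g)ᵀ = klein (E u) := by rw [← hv]; exact h v
      have e2 : ρ g * klein (E u') * (ρ g)ᵀ = klein (E u') := by rw [← hv']; exact h v'
      rw [hdec, map_add, map_smul, map_smul, Matrix.mul_add, Matrix.add_mul, Matrix.mul_smul,
        Matrix.smul_mul, Matrix.mul_smul, Matrix.smul_mul, e1, e2]
    · intro h v
      exact congr_klein_of_pm h _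
  have hcenter : ∀ g, f g = 1 → g ∈ Subgroup.center S ∧ g * g = 1 := by
    intro g hg
    rcases (hker g).mp hg with e | e
    · refine ⟨(CfsgLib.Unitary.mem_center_SU_iff hK (by norm_num)).mpr ⟨1, by rw [one_smul]; exact e⟩, ?_⟩
      exact Subtype.ext (Subtype.ext (by
        change ρ g * ρ g = 1
        rw [e, one_mul]))
    · refine ⟨(CfsgLib.Unitary.mem_center_SU_iff hK (by norm_num)).mpr
        ⟨-1, by rw [neg_one_smul]; exact e⟩, ?_⟩
      exact Subtype.ext (Subtype.ext (by
        change ρ g * ρ g = 1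
        rw [e, neg_mul_neg, one_mul]))
  have hperf : commutator S = ⊤ :=
    CfsgLib.Unitary.commutator_SU_eq_top hK (by norm_num) (by omega)
  have hnegdet : (-1 : Matrix (Fin 4) (Fin 4) K).det = 1 := by
    rw [Matrix.det_neg, Matrix.det_one, Fintype.card_fin]; norm_num
  have hnegmem : (⟨-1, hnegdet⟩ : Matrix.SpecialLinearGroup (Fin 4) K) ∈ S := by
    intro u v
    change Cfsg.hermForm 4 K q ((-1 : Matrix (Fin 4) (Fin 4) K) *ᵥ u)
      ((-1 : Matrix (Fin 4) (Fin 4) K) *ᵥ v) = _
    rw [Matrix.neg_mulVec, Matrix.one_mulVec, Matrix.neg_mulVec, Matrix.one_mulVec]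
    simp only [Cfsg.hermForm, Pi.neg_apply]
    refine Finset.sum_congr rfl fun i _ => ?_
    rw [← frobQ_apply hK (-v i), map_neg, frobQ_apply]
    ring
  have hcases : ∀ g : f.ker, g.1 = 1 ∨ g.1 = ⟨⟨-1, hnegdet⟩, hnegmem⟩ := fun g =>
    ((hker g.1).mp g.2).imp (fun e => Subtype.ext (Subtype.ext e))
      fun e => Subtype.ext (Subtype.ext e)
  have hq2 : 2 ≤ q := hF ▸ Finite.one_lt_card
  have hSU : (q + 1) * Nat.card S = Nat.card (Cfsg.GU 4 K q) :=
    CfsgLib.Unitary.card_SU_mul hK (by norm_num)
  have hO := card_oGroup_minus (F := F) hF hab 2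
  have hmain : 2 * Nat.card S = Nat.card (oGroup (minusQ (F := F) 2 a b)) := by
    refine Nat.eq_of_mul_eq_mul_left (show 0 < q + 1 by omega) ?_
    rw [mul_left_comm, hSU, CfsgLib.Unitary.card_GU hK]
    simp [Finset.prod_range_succ]
    simp only [show Even 2 by decide, show ¬Even 3 by decide, show ¬Even 1 by decide, if_true,
      if_false]
    have h2 : 1 ≤ q ^ 2 := Nat.one_le_pow _ _ (by omega)
    have h4 : 1 ≤ q ^ 4 := Nat.one_le_pow _ _ (by omega)
    apply Nat.cast_injective (R := ℤ)
    push_cast [h2, h4]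
    rw [hO]
    simp [Finset.prod_range_succ]
    ring
  have hrange : f.range = commutator (oGroup (minusQ (F := F) 2 a b)) := by
    by_cases h2 : (2 : F) = 0
    · refine range_eq_commutator_perfect f hperf ?_
      have h2K : (2 : K) = 0 := by rw [← map_ofNat (algebraMap F K) 2, h2, map_zero]
      have hk : Nat.card f.ker = 1 := by
        rw [Subgroup.card_eq_one, Subgroup.eq_bot_iff_forall]
        intro g hg
        rcases hcases ⟨g, hg⟩ with e | e
        · exact e
        · refine (show g = _ from e).trans (Subtype.ext (Subtype.ext ?_))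
          have h11 : (-1 : K) = 1 := by linear_combination -h2K
          ext i j
          rcases eq_or_ne i j with rfl | hij
          · simp [h11]
          · simp [Matrix.one_apply_ne hij]
      rw [hk, one_mul]; exact hmain
    · refine range_eq_commutator_odd (minusQ_nondeg hab 2) h2 (by simp) f (sqGen_of_perfect hperf) ?_
      have h2K : (2 : K) ≠ 0 := fun e => h2 (halg (by rw [map_ofNat, e, map_zero]))
      have hk : Nat.card f.ker = 2 := by
        refine Nat.card_eq_two_iff.mpr ⟨1, ⟨⟨⟨-1, hnegdet⟩, hnegmem⟩, (hker _).mpr (Or.inr rfl)⟩, ?_, ?_⟩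
        · intro e
          have := congrArg (fun g : f.ker => (g.1.1.1 : Matrix (Fin 4) (Fin 4) K) 0 0) e
          simp at this
          exact h2K (by linear_combination this)
        · refine Set.eq_univ_iff_forall.mpr fun g => ?_
          rcases hcases g with e | e
          · exact Or.inl (Subtype.ext e)
          · exact Or.inr (Subtype.ext e)
      rw [hk, show ∀ x, 4 * x = 2 * (2 * x) from fun x => by ring, hmain]
  obtain ⟨e⟩ := nonempty_central_quotient f hrange (sqGen_of_perfect hperf) hcenter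
  exact ⟨(pOmegaEquiv _).trans e⟩

end CfsgLib.Quad
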