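import Cfsg.Agent.Quad.PerpSpace
import Cfsg.Agent.Quad.Matrices
import Cfsg.Agent.Forms.Classify
import Mathlib.NumberTheory.LegendreSymbol.QuadraticChar.Basic
import Mathlib.GroupTheory.Perm.Cycle.Type
import Mathlib.GroupTheory.Index

/-!
The spinor norm over a finite field, as the sign of the action on a sphere corrected by the
determinant; the Dickson parity in characteristic two; subgroups of index two.
-/

set_option autoImplicit false
set_option linter.style.haveILetI false

namespace CfsgLib.Quad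

open QuadraticMap CfsgLib.Forms

variable {F V : Type*} [Field F] [AddCommGroup V] [Module F V] {Q : QuadraticForm F V}

theorem refl_apply_eq_iff {v x : V} (hv : Q v ≠ 0) : (refl Q v).1 x = x ↔ polar Q x v = 0 := by
  have hv0 : v ≠ 0 := fun e => hv (by rw [e, QuadraticMap.map_zero])
  rw [refl_apply, add_eq_left, smul_eq_zero, or_iff_left hv0, mul_eq_zero,
    or_iff_right (neg_ne_zero.mpr (inv_ne_zero hv))]

/-- The action on a sphere. -/
def spherePerm (Q : QuadraticForm F V) (c : F) : oGroup Q →* Equiv.Perm {x : V // Q x = c} where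
  toFun g := g.1.toEquiv.subtypeEquiv fun x => by
    rw [LinearEquiv.coe_toEquiv, g.2]
  map_one' := Equiv.ext fun _ => rfl
  map_mul' _ _ := Equiv.ext fun _ => rfl

theorem spherePerm_apply (c : F) (g : oGroup Q) (x : {x : V // Q x = c}) :
    ((spherePerm Q c g x : {x : V // Q x = c}) : V) = g.1 x.1 := rfl

/-- The sign of the action on a sphere. -/
noncomputable def sphereSign [Finite V] (Q : QuadraticForm F V) (c : F) : oGroup Q →* ℤˣ :=
  letI := Fintype.ofFinite {x : V // Q x = c}
  letI := Classical.decEq {x : V // Q x = c}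
  Equiv.Perm.sign.comp (spherePerm Q c)

theorem sphereSign_refl [Finite V] (c : F) {v : V} (hv : Q v ≠ 0) :
    sphereSign Q c (refl Q v) = (-1) ^ ((Nat.card {x : V // Q x = c} -
      Nat.card {x : V // Q x = c ∧ polar Q x v = 0}) / 2) := by
  letI := Fintype.ofFinite {x : V // Q x = c}
  letI := Classical.decEq {x : V // Q x = c}
  have h2 : spherePerm Q c (refl Q v) ^ 2 = 1 := by
    rw [pow_two, ← map_mul, refl_mul_self, map_one]
  change Equiv.Perm.sign (spherePerm Q c (refl Q v)) = _
  rw [Equiv.Perm.sign_of_pow_two_eq_one h2, Fintype.card_eq_nat_card, Fintype.card_eq_nat_card]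
  congr 3
  refine Nat.card_congr
    { toFun := fun x => ⟨x.1.1, x.1.2, (refl_apply_eq_iff hv).mp (congrArg Subtype.val x.2)⟩
      invFun := fun x => ⟨⟨x.1, x.2.1⟩, Subtype.ext ((refl_apply_eq_iff hv).mpr x.2.2)⟩
      left_inv := fun x => rfl
      right_inv := fun x => rfl }

theorem even_card_of_neg [Finite V] (h2 : (2 : F) ≠ 0) {P : V → Prop} (h0 : ¬ P 0)
    (hP : ∀ x, P x → P (-x)) : Even (Nat.card {x : V // P x}) := by
  classical
  letI := Fintype.ofFinite {x : V // P x}
  rw [Nat.card_eq_fintype_card, ← ZMod.natCast_eq_zero_iff_even, ← Finset.card_univ,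
    Finset.card_eq_sum_ones, Nat.cast_sum]
  refine Finset.sum_involution (fun a _ => ⟨-a.1, hP _ a.2⟩) (fun a _ => by decide) (fun a _ _ e => ?_)
    (fun a _ => Finset.mem_univ _) (fun a _ => by simp)
  refine h0 ?_
  have h1 : (2 : F) • a.1 = 0 := by
    rw [two_smul]; nth_rewrite 1 [← congrArg Subtype.val e]; exact neg_add_cancel _
  rw [← (smul_eq_zero.mp h1).resolve_left h2]
  exact a.2

theorem card_fix_sphere [Finite V] (c : F) {v w : V} (hvw : polar Q v w = 0) (h2 : (2 : F) ≠ 0)
    (hw : Q w ≠ 0) :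
    Nat.card {x : V // Q x = c ∧ polar Q x v = 0} =
      Nat.card (Σ y : ↥(LinearMap.ker (polarFun Q v) ⊓ LinearMap.ker (polarFun Q w)),
        {s : F // Q w * s ^ 2 = c - Q (y : V)}) := by
  have hww : polar Q w w = 2 * Q w := by rw [polar_self, nsmul_eq_mul, Nat.cast_ofNat]
  have hne : 2 * Q w ≠ 0 := mul_ne_zero h2 hw
  have hwv : polar Q w v = 0 := by rw [polar_comm, hvw]
  set t : V → F := fun x => polar Q x w / (2 * Q w) with ht
  have hmem : ∀ x, polar Q x v = 0 →
      x - t x • w ∈ LinearMap.ker (polarFun Q v) ⊓ LinearMap.ker (polarFun Q w) := fun x hx => by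
    refine Submodule.mem_inf.mpr ⟨?_, ?_⟩ <;> rw [LinearMap.mem_ker, polarFun_apply]
    · rw [polar_sub_left, polar_smul_left, hx, hwv, smul_zero, sub_zero]
    · rw [polar_sub_left, polar_smul_left, hww, smul_eq_mul, ht, div_mul_cancel₀ _ hne, sub_self]
  have hval : ∀ x, Q x = c → Q w * t x ^ 2 = c - Q (x - t x • w) := fun x hx => by
    rw [sub_eq_add_neg x, ← neg_smul, quad_add, quad_smul, polar_smul_right, smul_eq_mul, hx,
      show polar Q x w = t x * (2 * Q w) by rw [ht, div_mul_cancel₀ _ hne]]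
    ring
  refine Nat.card_eq_of_bijective
    (fun x => ⟨⟨x.1 - t x.1 • w, hmem x.1 x.2.2⟩, ⟨t x.1, hval x.1 x.2.1⟩⟩) ⟨?_, ?_⟩
  · intro x y e
    have := congrArg (fun p : Σ y : ↥(LinearMap.ker (polarFun Q v) ⊓ LinearMap.ker (polarFun Q w)),
        {s : F // Q w * s ^ 2 = c - Q (y : V)} => (p.1 : V) + (p.2 : F) • w) e
    simp only [sub_add_cancel] at this
    exact Subtype.ext this
  · rintro ⟨⟨y, hy⟩, ⟨s, hs⟩⟩
    have hy' := Submodule.mem_inf.mp hy
    rw [LinearMap.mem_ker, LinearMap.mem_ker, polarFun_apply, polarFun_apply] at hy'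
    have hs' : t (y + s • w) = s := by
      change polar Q (y + s • w) w / (2 * Q w) = s
      rw [polar_add_left, hy'.2, zero_add, polar_smul_left, hww, smul_eq_mul,
        mul_div_cancel_right₀ _ hne]
    refine ⟨⟨y + s • w, ?_, ?_⟩, Sigma.subtype_ext (Subtype.ext ?_) hs'⟩
    · rw [quad_add, quad_smul, polar_smul_right, hy'.2, smul_zero, add_zero]
      linear_combination hs
    · rw [polar_add_left, hy'.1, zero_add, polar_smul_left, hwv, smul_zero]
    · simp only [hs', add_sub_cancel_right]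

theorem card_sqrt_add [Finite F] (h2 : (2 : F) ≠ 0) {d d' : F} (hd : d ≠ 0) (hd' : d' ≠ 0)
    (h : ¬IsSquare (d / d')) (x : F) :
    Nat.card {s : F // d * s ^ 2 = x} + Nat.card {s : F // d' * s ^ 2 = x} = 2 := by
  classical
  letI := Fintype.ofFinite F
  have hF : ringChar F ≠ 2 := by
    intro e
    apply h2
    have := ringChar.Nat.cast_ringChar (R := F)
    rw [e] at this
    exact_mod_cast this
  have key : ∀ e : F, e ≠ 0 →
      (Nat.card {s : F // e * s ^ 2 = x} : ℤ) = quadraticChar F (x / e) + 1 := by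
    intro e he
    rw [← quadraticChar_card_sqrts hF]
    congr 1
    rw [Nat.card_eq_fintype_card, Fintype.card_subtype, Set.toFinset_ofPred]
    congr 1
    ext s
    simp [eq_div_iff he, mul_comm]
  have h1 : x / d' = x / d * (d / d') := by field_simp
  have h3 : quadraticChar F (d / d') = -1 := quadraticChar_neg_one_iff_not_isSquare.mpr h
  have := key d hd
  have h4 := key d' hd'
  rw [h1, map_mul, h3] at h4
  omega

variable [Finite F] [FiniteDimensional F V]


theorem odd_card_submodule (h2 : (2 : F) ≠ 0) (U : Submodule F V) : Odd (Nat.card U) := by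
  haveI := Fintype.ofFinite F
  rw [Module.natCard_eq_pow_finrank (K := F)]
  exact (Nat.odd_iff.mpr (odd_card_of_two_ne h2)).pow

/-- Two reflections with values in different square classes act with opposite signs on a sphere. -/
theorem exists_sphereSign_ne [Finite V] (h2 : (2 : F) ≠ 0) {v w : V} (hv : Q v ≠ 0) (hw : Q w ≠ 0)
    (hvw : polar Q v w = 0) {c : F} (hc : c ≠ 0) {a' : F} (hns : ¬IsSquare (Q v * a')) :
    ∃ v', Q v' = a' ∧ sphereSign Q c (refl Q v) ≠ sphereSign Q c (refl Q v') := by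
  have ha' : a' ≠ 0 := fun e => hns (by rw [e, mul_zero]; exact ⟨0, by ring⟩)
  obtain ⟨α, β, hαβ⟩ := exists_binary h2 hv hw a'
  set a := Q v
  set d := Q w
  have hvv : polar Q v v = 2 * a := by rw [polar_self, nsmul_eq_mul, Nat.cast_ofNat]
  have hww : polar Q w w = 2 * d := by rw [polar_self, nsmul_eq_mul, Nat.cast_ofNat]
  set v' := α • v + β • w with hv'
  set w' := (-(d * β)) • v + (a * α) • w with hw'
  have hQv' : Q v' = a' := by
    rw [hv', quad_add, quad_smul, quad_smul, polar_smul_left, polar_smul_right, hvw, smul_zero,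
      smul_zero, add_zero, ← hαβ]
    ring
  have hQw' : Q w' = a * d * a' := by
    rw [hw', quad_add, quad_smul, quad_smul, polar_smul_left, polar_smul_right, hvw, smul_zero,
      smul_zero, add_zero, ← hαβ]
    ring
  have hvw' : polar Q v' w' = 0 := by
    simp only [hv', hw', polar_add_left, polar_add_right, polar_smul_left, polar_smul_right,
      smul_eq_mul, hvw, polar_comm (⇑Q) w v, hvv, hww]
    ring
  have hK : LinearMap.ker (polarFun Q v') ⊓ LinearMap.ker (polarFun Q w') =
      LinearMap.ker (polarFun Q v) ⊓ LinearMap.ker (polarFun Q w) := by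
    ext x
    simp only [Submodule.mem_inf, LinearMap.mem_ker, polarFun_apply, hv', hw', polar_add_right,
      polar_smul_right, smul_eq_mul]
    constructor
    · rintro ⟨h1, h3⟩
      have e1 : a' * polar Q x v = 0 := by
        rw [← hαβ]; linear_combination (a * α) * h1 - β * h3
      have e2 : a' * polar Q x w = 0 := by
        rw [← hαβ]; linear_combination (d * β) * h1 + α * h3
      exact ⟨(mul_eq_zero.mp e1).resolve_left ha', (mul_eq_zero.mp e2).resolve_left ha'⟩
    · rintro ⟨h1, h3⟩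
      rw [h1, h3]; exact ⟨by ring, by ring⟩
  have hdd : a * d * a' ≠ 0 := mul_ne_zero (mul_ne_zero hv hw) ha'
  have hcls : ¬IsSquare (d / (a * d * a')) := by
    rintro ⟨r, hr⟩
    refine hns ⟨r⁻¹, ?_⟩
    rw [← mul_inv, ← hr]
    field_simp
  refine ⟨v', hQv', ?_⟩
  have c1 := card_fix_sphere c hvw h2 hw
  have c2 := card_fix_sphere c hvw' h2 (by rw [hQw']; exact hdd)
  rw [hK, hQw'] at c2
  set U := LinearMap.ker (polarFun Q v) ⊓ LinearMap.ker (polarFun Q w)
  letI := Fintype.ofFinite U
  have hsum : Nat.card {x : V // Q x = c ∧ polar Q x v = 0} +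
      Nat.card {x : V // Q x = c ∧ polar Q x v' = 0} = 2 * Nat.card U := by
    rw [c1, c2, Nat.card_sigma, Nat.card_sigma, ← Finset.sum_add_distrib,
      Finset.sum_congr rfl fun y _ => card_sqrt_add h2 hw hdd hcls _]
    simp [Nat.card_eq_fintype_card, mul_comm]
  have hU := odd_card_submodule h2 U
  have hN : Even (Nat.card {x : V // Q x = c}) := even_card_of_neg h2
    (by rw [QuadraticMap.map_zero]; exact Ne.symm hc) fun x hx => by rw [QuadraticMap.map_neg, hx]
  have heven : ∀ u : V, Even (Nat.card {x : V // Q x = c ∧ polar Q x u = 0}) := fun u =>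
    even_card_of_neg h2 (fun h => hc (by rw [← h.1, QuadraticMap.map_zero]))
      fun x hx => by rw [QuadraticMap.map_neg, polar_neg_left, hx.2, neg_zero]; exact ⟨hx.1, rfl⟩
  have hle : ∀ u : V, Nat.card {x : V // Q x = c ∧ polar Q x u = 0} ≤ Nat.card {x : V // Q x = c} :=
    fun u => Finite.card_le_of_embedding (Subtype.impEmbedding _ _ fun x hx => hx.1)
  rw [sphereSign_refl c hv, sphereSign_refl c (show Q v' ≠ 0 by rw [hQv']; exact ha')]
  obtain ⟨N, hN⟩ := hN
  obtain ⟨A, hA⟩ := heven v
  obtain ⟨A', hA'⟩ := heven v'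
  have hA1 := hle v
  have hA2 := hle v'
  rw [hN, hA] at hA1
  rw [hN, hA'] at hA2
  rw [hA, hA'] at hsum
  rw [hN, hA, hA', show (N + N - (A + A)) / 2 = N - A by omega,
    show (N + N - (A' + A')) / 2 = N - A' by omega]
  intro e
  have h1 : (-1 : ℤˣ) ^ (N - A + (N - A')) = 1 := by
    rw [pow_add, e, Int.units_mul_self]
  obtain ⟨U', hU'⟩ := hU
  rw [Odd.neg_one_pow ⟨N - (U' + 1), by omega⟩] at h1
  exact absurd h1 (by decide)

/-- The determinant as a sign. -/
noncomputable def detSign (hQ : (polarBilin Q).Nondegenerate) (h2 : (2 : F) ≠ 0) :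
    oGroup Q →* ℤˣ where
  toFun g := haveI := Classical.propDecidable (detO Q g = 1); if detO Q g = 1 then 1 else -1
  map_one' := by rw [map_one, if_pos rfl]
  map_mul' g h := by
    have hne : (-1 : Fˣ) ≠ 1 := fun e => h2 (by
      have := congrArg Units.val e; rw [Units.val_neg, Units.val_one] at this
      linear_combination -this)
    have key : ∀ g : oGroup Q, detO Q g = 1 ∨ detO Q g = -1 := fun g =>
      (detO_eq_or hQ g).imp (fun e => Units.ext e) fun e => Units.ext (by rw [e]; simp)
    rw [map_mul]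
    rcases key g with e | e <;> rcases key h with e' | e' <;> simp [e, e', hne]

theorem detSign_eq_one {hQ : (polarBilin Q).Nondegenerate} {h2 : (2 : F) ≠ 0} {g : oGroup Q} :
    detSign hQ h2 g = 1 ↔ detO Q g = 1 := by
  simp only [detSign, MonoidHom.coe_mk, OneHom.coe_mk]
  split_ifs with h <;> simp [h]

theorem detSign_refl {hQ : (polarBilin Q).Nondegenerate} {h2 : (2 : F) ≠ 0} {v : V} (hv : Q v ≠ 0) :
    detSign hQ h2 (refl Q v) = -1 := by
  rcases Int.units_eq_one_or (detSign hQ h2 (refl Q v)) with h | h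
  · exfalso
    have h1 := detO_refl hv
    rw [detSign_eq_one.mp h, Units.val_one] at h1
    exact h2 (by linear_combination h1)
  · exact h

variable (hQ : (polarBilin Q).Nondegenerate)
include hQ

omit [Finite F] in
/-- Reflections with values in the same square class are conjugate. -/
theorem exists_conj_refl {u v : V} (hu : Q u ≠ 0) (hv : Q v ≠ 0) (h : IsSquare (Q u * Q v)) :
    ∃ g : oGroup Q, g * refl Q u * g⁻¹ = refl Q v := by
  obtain ⟨r, hr⟩ := h
  have hr0 : r ≠ 0 := fun e => mul_ne_zero hu hv (by rw [hr, e, mul_zero])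
  obtain ⟨g, hg⟩ := exists_apply_eq hQ (u := (r / Q u) • u) (v := v)
    (by rw [quad_smul]; field_simp; rw [pow_two, ← hr, mul_comm])
    (by rw [quad_smul]; exact mul_ne_zero (mul_ne_zero (div_ne_zero hr0 hu) (div_ne_zero hr0 hu)) hu)
  refine ⟨g, ?_⟩
  rw [← refl_smul (div_ne_zero hr0 hu) u, refl_conj, hg]

theorem exists_value (h2 : (2 : F) ≠ 0) (hn : 2 ≤ Module.finrank F V) (c : F) : ∃ v, Q v = c := by
  obtain ⟨v, w, hv, hw, hvw⟩ := exists_orth_pair hQ hn
  obtain ⟨x, y, hxy⟩ := exists_binary h2 hv hw c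
  refine ⟨x • v + y • w, ?_⟩
  rw [quad_add, quad_smul, quad_smul, polar_smul_left, polar_smul_right, hvw, smul_zero, smul_zero,
    add_zero, ← hxy]
  ring

omit hQ in
theorem isSquare_mul_iff (h2 : (2 : F) ≠ 0) {a b : F} (ha : a ≠ 0) (hb : b ≠ 0) :
    IsSquare (a * b) ↔ (IsSquare a ↔ IsSquare b) := by
  by_cases hA : IsSquare a
  · simp only [hA, true_iff]
    refine ⟨fun h => ?_, fun h => hA.mul h⟩
    have := h.mul hA.inv
    rwa [mul_comm a b, mul_assoc, mul_inv_cancel₀ ha, mul_one] at this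
  · simp only [hA, false_iff]
    refine ⟨fun h hB => hA ?_, fun hB => ?_⟩
    · have := h.mul hB.inv
      rwa [mul_assoc, mul_inv_cancel₀ hb, mul_one] at this
    · obtain ⟨r, hr⟩ := isSquare_div_of_nonsquare h2 hA hB
      exact ⟨r * b, by rw [show r * b * (r * b) = r * r * (b * b) by ring, ← hr]; field_simp⟩

/-- The spinor norm. -/
theorem exists_spinor (h2 : (2 : F) ≠ 0) (hn : 2 ≤ Module.finrank F V) :
    ∃ θ : oGroup Q →* ℤˣ, ∀ v, Q v ≠ 0 → (θ (refl Q v) = 1 ↔ IsSquare (Q v)) := by
  haveI : Finite V := Module.finite_of_finite F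
  haveI := Fintype.ofFinite F
  obtain ⟨ν, hν⟩ := FiniteField.exists_nonsquare (F := F) (fun e => h2 (by
    have := ringChar.Nat.cast_ringChar (R := F)
    rw [e] at this
    exact_mod_cast this))
  have hν0 : ν ≠ 0 := fun e => hν (e ▸ ⟨0, by ring⟩)
  obtain ⟨v, w, hv, hw, hvw⟩ := exists_orth_pair hQ hn
  set χ := sphereSign Q (1 : F)
  have hinv : ∀ a b, Q a ≠ 0 → Q b ≠ 0 → (IsSquare (Q a) ↔ IsSquare (Q b)) →
      χ (refl Q a) = χ (refl Q b) := fun a b ha hb h => by
    obtain ⟨g, hg⟩ := exists_conj_refl hQ ha hb ((isSquare_mul_iff h2 ha hb).mpr h)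
    rw [← hg, map_mul, map_mul, map_inv, mul_comm, ← mul_assoc, inv_mul_cancel, one_mul]
  have hns : ¬IsSquare (Q v * (Q v * ν)) := fun h => hν (by
    have := h.mul (IsSquare.mul_self (Q v)⁻¹)
    rwa [show Q v * (Q v * ν) * ((Q v)⁻¹ * (Q v)⁻¹) = ν by field_simp] at this)
  obtain ⟨v', hv'Q, hne⟩ := exists_sphereSign_ne h2 hv hw hvw one_ne_zero hns
  have hv' : Q v' ≠ 0 := by rw [hv'Q]; exact mul_ne_zero hv hν0
  have hopp : ¬(IsSquare (Q v) ↔ IsSquare (Q v')) := by
    rw [← isSquare_mul_iff h2 hv hv', hv'Q]; exact hns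
  have hdiff : ∀ a b, Q a ≠ 0 → Q b ≠ 0 → IsSquare (Q a) → ¬IsSquare (Q b) →
      χ (refl Q b) = -χ (refl Q a) := by
    intro a b ha hb hA hB
    refine Int.units_ne_iff_eq_neg.mp fun e => hne ?_
    by_cases hV : IsSquare (Q v)
    · have hV' : ¬IsSquare (Q v') := fun h => hopp ⟨fun _ => h, fun _ => hV⟩
      rw [hinv v a hv ha (by simp [hV, hA]), hinv v' b hv' hb (by simp [hV', hB]), e]
    · have hV' : IsSquare (Q v') := by
        by_contra h; exact hopp ⟨fun h' => absurd h' hV, fun h' => absurd h' h⟩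
      rw [hinv v b hv hb (by simp [hV, hB]), hinv v' a hv' ha (by simp [hV', hA]), e]
  obtain ⟨u, hu⟩ := exists_value hQ h2 hn (1 : F)
  have hu0 : Q u ≠ 0 := by rw [hu]; exact one_ne_zero
  have hu1 : IsSquare (Q u) := by rw [hu]; exact IsSquare.one
  have hval : ∀ a, Q a ≠ 0 → (χ (refl Q a) = χ (refl Q u) ↔ IsSquare (Q a)) := by
    intro a ha
    by_cases hA : IsSquare (Q a)
    · simp only [hA, iff_true]; exact hinv a u ha hu0 (by simp [hA, hu1])
    · simp only [hA, iff_false]
      rw [hdiff u a hu0 ha hu1 hA]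
      exact fun e => by
        rcases Int.units_eq_one_or (χ (refl Q u)) with h | h <;> rw [h] at e <;> exact absurd e (by decide)
  rcases Int.units_eq_one_or (χ (refl Q u)) with h | h
  · exact ⟨χ, fun a ha => by rw [← hval a ha, h]⟩
  · refine ⟨χ * detSign hQ h2, fun a ha => ?_⟩
    rw [MonoidHom.mul_apply, detSign_refl ha, ← hval a ha, h, mul_neg_one, neg_eq_iff_eq_neg]

/-- A subgroup containing all products of two reflections of the same class contains every
isometry with trivial determinant and spinor norm, and has at most four cosets. -/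
theorem mem_or_of_pairs (h2 : (2 : F) ≠ 0) {N : Subgroup (oGroup Q)}
    (hN : ∀ u v, Q u ≠ 0 → Q v ≠ 0 → IsSquare (Q u * Q v) → refl Q u * refl Q v ∈ N)
    {a b : V} (ha : Q a ≠ 0) (hb : Q b ≠ 0) (haS : IsSquare (Q a)) (hbS : ¬IsSquare (Q b))
    (g : oGroup Q) :
    g ∈ N ∨ refl Q a * g ∈ N ∨ refl Q b * g ∈ N ∨ refl Q a * refl Q b * g ∈ N := by
  have hne : (1 : F) ≠ -1 := fun h => h2 (by linear_combination h)
  have hg : g ∈ reflGroup Q := by
    rw [reflGroup_eq_top hQ (Or.inl ⟨-1, neg_ne_zero.mpr one_ne_zero, Ne.symm hne⟩)]; trivial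
  have pairS : ∀ u v, Q u ≠ 0 → Q v ≠ 0 → IsSquare (Q u) → IsSquare (Q v) →
      refl Q u * refl Q v ∈ N := fun u v hu hv hU hV =>
    hN u v hu hv ((isSquare_mul_iff h2 hu hv).mpr (by simp [hU, hV]))
  have pairN : ∀ u v, Q u ≠ 0 → Q v ≠ 0 → ¬IsSquare (Q u) → ¬IsSquare (Q v) →
      refl Q u * refl Q v ∈ N := fun u v hu hv hU hV =>
    hN u v hu hv ((isSquare_mul_iff h2 hu hv).mpr (by simp [hU, hV]))
  have hc : ∀ x d, refl Q x * refl Q d * refl Q x = refl Q ((refl Q x).1 d) := fun x d => by
    conv_rhs => rw [← refl_conj, refl_inv]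
  have hcQ : ∀ x d, Q ((refl Q x).1 d) = Q d := fun x d => (refl Q x).2 d
  have step : ∀ d (g : oGroup Q),
      (g ∈ N ∨ refl Q a * g ∈ N ∨ refl Q b * g ∈ N ∨ refl Q a * refl Q b * g ∈ N) →
      (refl Q d * g ∈ N ∨ refl Q a * (refl Q d * g) ∈ N ∨ refl Q b * (refl Q d * g) ∈ N ∨
        refl Q a * refl Q b * (refl Q d * g) ∈ N) := by
    intro d g hg
    by_cases hd : Q d = 0
    · rwa [refl_eq_one hd, one_mul]
    have key : ∀ (X Y Z : oGroup Q), Z * g ∈ N → (∃ p ∈ N, X = p * Z) → X * g ∈ N := by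
      rintro X Y Z hZ ⟨p, hp, rfl⟩; rw [mul_assoc]; exact mul_mem hp hZ
    have hx : ∀ x, refl Q x * refl Q x = 1 := refl_mul_self
    by_cases hD : IsSquare (Q d)
    · rcases hg with h | h | h | h
      · refine Or.inr (Or.inl ?_)
        rw [← mul_assoc]; exact mul_mem (pairS a d ha hd haS hD) h
      · left
        have : refl Q d * g = refl Q d * refl Q a * (refl Q a * g) := by
          rw [mul_assoc, ← mul_assoc (refl Q a), hx, one_mul]
        rw [this]; exact mul_mem (pairS d a hd ha hD haS) h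
      · refine Or.inr (Or.inr (Or.inr ?_))
        have : refl Q a * refl Q b * (refl Q d * g) =
            refl Q a * refl Q ((refl Q b).1 d) * (refl Q b * g) := by
          rw [← hc]; simp only [mul_assoc]
          rw [← mul_assoc (refl Q b) (refl Q b), hx, one_mul]
        rw [this]
        exact mul_mem (pairS a _ ha (by rw [hcQ]; exact hd) haS (by rw [hcQ]; exact hD)) h
      · refine Or.inr (Or.inr (Or.inl ?_))
        have : refl Q b * (refl Q d * g) =
            refl Q ((refl Q b).1 d) * refl Q a * (refl Q a * refl Q b * g) := by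
          rw [← hc]; simp only [mul_assoc]
          rw [← mul_assoc (refl Q a) (refl Q a), hx, one_mul, ← mul_assoc (refl Q b) (refl Q b), hx,
            one_mul]
        rw [this]
        exact mul_mem (pairS _ a (by rw [hcQ]; exact hd) ha (by rw [hcQ]; exact hD) haS) h
    · rcases hg with h | h | h | h
      · refine Or.inr (Or.inr (Or.inl ?_))
        rw [← mul_assoc]; exact mul_mem (pairN b d hb hd hbS hD) h
      · refine Or.inr (Or.inr (Or.inr ?_))
        have : refl Q a * refl Q b * (refl Q d * g) =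
            refl Q ((refl Q a).1 b) * refl Q ((refl Q a).1 d) * (refl Q a * g) := by
          rw [← hc, ← hc]; simp only [mul_assoc]
          rw [← mul_assoc (refl Q a) (refl Q a) g, hx, one_mul, ← mul_assoc (refl Q a) (refl Q a), hx,
            one_mul]
        rw [this]
        exact mul_mem (pairN _ _ (by rw [hcQ]; exact hb) (by rw [hcQ]; exact hd)
          (by rw [hcQ]; exact hbS) (by rw [hcQ]; exact hD)) h
      · left
        have : refl Q d * g = refl Q d * refl Q b * (refl Q b * g) := by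
          rw [mul_assoc, ← mul_assoc (refl Q b), hx, one_mul]
        rw [this]; exact mul_mem (pairN d b hd hb hD hbS) h
      · refine Or.inr (Or.inl ?_)
        have : refl Q a * (refl Q d * g) =
            refl Q ((refl Q a).1 d) * refl Q ((refl Q a).1 b) * (refl Q a * refl Q b * g) := by
          rw [← hc, ← hc]; simp only [mul_assoc]
          rw [← mul_assoc (refl Q a) (refl Q a) (refl Q b * g), hx, one_mul,
            ← mul_assoc (refl Q b) (refl Q b), hx, one_mul,
            ← mul_assoc (refl Q a) (refl Q a) g, hx, one_mul]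
        rw [this]
        exact mul_mem (pairN _ _ (by rw [hcQ]; exact hd) (by rw [hcQ]; exact hb)
          (by rw [hcQ]; exact hD) (by rw [hcQ]; exact hbS)) h
  refine Subgroup.closure_induction_left (Or.inl (one_mem _)) ?_ ?_ hg
  · rintro _ ⟨d, rfl⟩ y _ hy; exact step d y hy
  · rintro _ ⟨d, rfl⟩ y _ hy; rw [refl_inv]; exact step d y hy

/-- Isometries with trivial determinant and spinor norm lie in every subgroup containing the
products of two reflections of one class. -/
theorem mem_of_pairs (h2 : (2 : F) ≠ 0) (hn : 2 ≤ Module.finrank F V) {θ : oGroup Q →* ℤˣ}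
    (hθ : ∀ v, Q v ≠ 0 → (θ (refl Q v) = 1 ↔ IsSquare (Q v))) {N : Subgroup (oGroup Q)}
    (hN : ∀ u v, Q u ≠ 0 → Q v ≠ 0 → IsSquare (Q u * Q v) → refl Q u * refl Q v ∈ N)
    (hNle : N ≤ (detSign hQ h2).ker ⊓ θ.ker)
    {g : oGroup Q} (hd : detO Q g = 1) (hg : θ g = 1) : g ∈ N := by
  haveI := Fintype.ofFinite F
  obtain ⟨ν, hν⟩ := FiniteField.exists_nonsquare (F := F) (fun e => h2 (by
    have := ringChar.Nat.cast_ringChar (R := F)
    rw [e] at this
    exact_mod_cast this))
  have hν0 : ν ≠ 0 := fun e => hν (e ▸ ⟨0, by ring⟩)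
  obtain ⟨a, ha⟩ := exists_value hQ h2 hn (1 : F)
  obtain ⟨b, hb⟩ := exists_value hQ h2 hn ν
  have ha0 : Q a ≠ 0 := by rw [ha]; exact one_ne_zero
  have hb0 : Q b ≠ 0 := by rw [hb]; exact hν0
  have haS : IsSquare (Q a) := by rw [ha]; exact IsSquare.one
  have hbS : ¬IsSquare (Q b) := by rw [hb]; exact hν
  have hda : detSign hQ h2 g = 1 := detSign_eq_one.mpr hd
  have ta : θ (refl Q a) = 1 := (hθ a ha0).mpr haS
  have tb : θ (refl Q b) = -1 := (Int.units_eq_one_or _).resolve_left fun e => hbS ((hθ b hb0).mp e)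
  have kk : ∀ x, x ∈ N → detSign hQ h2 x = 1 ∧ θ x = 1 := fun x hx => hNle hx
  rcases mem_or_of_pairs hQ h2 hN ha0 hb0 haS hbS g with h | h | h | h
  · exact h
  all_goals exfalso; have := kk _ h; simp [hda, hg, detSign_refl, ha0, hb0, ta, tb] at this

end CfsgLib.Quad
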