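import Mathlib.LinearAlgebra.SymplecticGroup
import Mathlib.Algebra.Field.ZMod
import Mathlib.GroupTheory.Perm.Fin
import Mathlib.LinearAlgebra.Matrix.GeneralLinearGroup.Defs

/-!
The heart of the permutation module over `ZMod 2`: even vectors modulo the constants,
with its invariant bilinear form.
-/

set_option autoImplicit false
set_option linter.flexible false

namespace CfsgLib.Quad.Heart

open Matrix

/-- A frame for the heart of the permutation module of degree `N`. -/
structure Frame (N : ℕ) (ι : Type) [Fintype ι] [DecidableEq ι] where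
  /-- Even vectors, as columns, lifting a basis of the heart. -/
  B : Matrix (Fin N) ι (ZMod 2)
  /-- The Gram matrix. -/
  gram : Matrix ι ι (ZMod 2)
  /-- Its inverse. -/
  inv : Matrix ι ι (ZMod 2)
  gram_eq : Bᵀ * B = gram
  inv_mul : inv * gram = 1
  even : ∀ j, ∑ i, B i j = 0
  perp : ∀ d : Fin N → ZMod 2, (∑ i, d i = 0) → (∀ j, ∑ i, B i j * d i = 0) → ∀ i k, d i = d k

namespace Frame

variable {N : ℕ} [NeZero N] {ι : Type} [Fintype ι] [DecidableEq ι] (D : Frame N ι)

/-- A matrix whose rows are all `r`. -/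
def cst {κ : Type} (r : κ → ZMod 2) : Matrix (Fin N) κ (ZMod 2) := Matrix.of fun _ j => r j

theorem bt_cst {κ : Type} (r : κ → ZMod 2) : D.Bᵀ * (cst r : Matrix (Fin N) κ (ZMod 2)) = 0 := by
  ext i j
  simp [cst, Matrix.mul_apply, ← Finset.sum_mul, D.even]

theorem sum_mul_B {κ : Type} (C : Matrix ι κ (ZMod 2)) (j : κ) : ∑ i, (D.B * C) i j = 0 := by
  simp only [Matrix.mul_apply]
  rw [Finset.sum_comm]
  simp [← Finset.sum_mul, D.even]

/-- Every matrix with even columns lies in the span of the frame and the constants. -/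
theorem decomp {κ : Type} (X : Matrix (Fin N) κ (ZMod 2)) (hX : ∀ j, ∑ i, X i j = 0) :
    ∃ r : κ → ZMod 2, X = D.B * (D.inv * (D.Bᵀ * X)) + cst r ∧ ∀ j, (N : ZMod 2) * r j = 0 := by
  set P := D.B * (D.inv * (D.Bᵀ * X)) with hP
  have hgi : D.gram * D.inv = 1 := mul_eq_one_comm.mp D.inv_mul
  have hperp : D.Bᵀ * (X - P) = 0 := by
    rw [hP, Matrix.mul_sub, ← Matrix.mul_assoc D.Bᵀ D.B, D.gram_eq, ← Matrix.mul_assoc, hgi,
      Matrix.one_mul, sub_self]
  have hsum : ∀ j, ∑ i, (X - P) i j = 0 := fun j => by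
    simp [Finset.sum_sub_distrib, hX, hP, D.sum_mul_B]
  have hconst : ∀ j i k, (X - P) i j = (X - P) k j := fun j =>
    D.perp _ (hsum j) fun l => by
      have := congrFun (congrFun hperp l) j
      simpa [Matrix.mul_apply] using this
  refine ⟨fun j => (X - P) 0 j, ?_, fun j => ?_⟩
  · ext i j
    have := hconst j i 0
    simp only [Matrix.sub_apply] at this
    simp only [cst, Matrix.add_apply, Matrix.of_apply, Matrix.sub_apply]
    rw [← this, add_sub_cancel]
  · have := hsum j
    rwa [Finset.sum_congr rfl fun i _ => hconst j i 0, Finset.sum_const, Finset.card_univ,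
      Fintype.card_fin, nsmul_eq_mul] at this

theorem even_sub (σ : Equiv.Perm (Fin N)) (j : ι) : ∑ i, D.B.submatrix σ.symm id i j = 0 := by
  simp only [Matrix.submatrix_apply, id_eq]
  rw [Equiv.sum_comp σ.symm fun i => D.B i j]; exact D.even j

/-- The matrix of a permutation on the heart. -/
def mat (σ : Equiv.Perm (Fin N)) : Matrix ι ι (ZMod 2) :=
  D.inv * (D.Bᵀ * D.B.submatrix σ.symm id)

theorem mat_one : D.mat 1 = 1 := by
  rw [mat, show (1 : Equiv.Perm (Fin N)).symm = Equiv.refl _ from rfl, Equiv.coe_refl,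
    Matrix.submatrix_id_id, D.gram_eq, D.inv_mul]

theorem mat_spec (σ : Equiv.Perm (Fin N)) :
    ∃ r : ι → ZMod 2, D.B.submatrix σ.symm id = D.B * D.mat σ + cst r ∧
      ∀ j, (N : ZMod 2) * r j = 0 :=
  D.decomp _ (D.even_sub σ)

theorem mat_mul (σ τ : Equiv.Perm (Fin N)) : D.mat (σ * τ) = D.mat σ * D.mat τ := by
  obtain ⟨r, hr, -⟩ := D.mat_spec τ
  conv_lhs => unfold mat
  rw [show D.B.submatrix (σ * τ).symm id = (D.B.submatrix τ.symm id).submatrix σ.symm id from rfl,
    hr, Matrix.submatrix_add, Pi.add_apply, Pi.add_apply,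
    show (cst r : Matrix (Fin N) ι (ZMod 2)).submatrix σ.symm id = cst r from rfl]
  rw [show (D.B * D.mat τ).submatrix σ.symm id = D.B.submatrix σ.symm id * D.mat τ from rfl,
    Matrix.mul_add, D.bt_cst, add_zero, ← Matrix.mul_assoc, ← Matrix.mul_assoc]
  simp [mat, Matrix.mul_assoc]

theorem mat_gram (σ : Equiv.Perm (Fin N)) : (D.mat σ)ᵀ * D.gram * D.mat σ = D.gram := by
  obtain ⟨r, hr, hN⟩ := D.mat_spec σ
  have h : D.B * D.mat σ = D.B.submatrix σ.symm id - cst r := by rw [hr, add_sub_cancel_right]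
  calc (D.mat σ)ᵀ * D.gram * D.mat σ = (D.B * D.mat σ)ᵀ * (D.B * D.mat σ) := by
        rw [← D.gram_eq, Matrix.transpose_mul]; simp only [Matrix.mul_assoc]
    _ = D.gram := by
        ext i j
        rw [h, ← D.gram_eq, Matrix.mul_apply, Matrix.mul_apply]
        simp only [Matrix.transpose_apply, Matrix.sub_apply, Matrix.submatrix_apply, id_eq, cst,
          Matrix.of_apply, sub_mul, mul_sub, Finset.sum_sub_distrib, ← Finset.sum_mul,
          ← Finset.mul_sum, Finset.sum_const, Finset.card_univ, Fintype.card_fin, nsmul_eq_mul, hN,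
          Equiv.sum_comp σ.symm fun x => D.B x i * D.B x j,
          Equiv.sum_comp σ.symm fun x => D.B x i, Equiv.sum_comp σ.symm fun x => D.B x j, D.even,
          zero_mul, mul_zero, sub_zero]

/-- The representation on the heart. -/
def matHom : Equiv.Perm (Fin N) →* Matrix ι ι (ZMod 2) where
  toFun := D.mat
  map_one' := D.mat_one
  map_mul' := D.mat_mul

/-- The heart is faithful in degree at least 5. -/
theorem matHom_injective (h5 : 5 ≤ N) : Function.Injective D.matHom := by
  have key : ∀ σ : Equiv.Perm (Fin N), D.mat σ = 1 → σ = 1 := by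
    intro σ hσ
    obtain ⟨r, hr, -⟩ := D.mat_spec σ
    rw [hσ, Matrix.mul_one] at hr
    suffices h : σ.symm = 1 by
      rw [← σ.symm_symm, h]; rfl
    refine Equiv.ext fun x => ?_
    by_contra hx
    change σ.symm x ≠ x at hx
    obtain ⟨b, hbx, hby⟩ : ∃ b, b ≠ x ∧ b ≠ σ.symm x := by
      have : ({x, σ.symm x} : Finset (Fin N))ᶜ.Nonempty := by
        rw [← Finset.card_pos, Finset.card_compl, Fintype.card_fin]
        have := Finset.card_le_two (a := x) (b := σ.symm x)
        omega
      obtain ⟨b, hb⟩ := this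
      simp at hb
      exact ⟨b, hb.1, hb.2⟩
    -- the pair `{σ⁻¹ x, b}` moves to a different pair, and not to the complement
    set v : Matrix (Fin N) Unit (ZMod 2) :=
      Matrix.of fun i _ => (if i = σ.symm x then 1 else 0) + if i = b then 1 else 0 with hv
    obtain ⟨t, ht, -⟩ := D.decomp v fun _ => by
      simp [hv, Finset.sum_add_distrib, show (1 : ZMod 2) + 1 = 0 from rfl]
    set C := D.inv * (D.Bᵀ * v)
    have hw : ∀ i, v (σ.symm i) () = v i () + (∑ j, r j * C j ()) := by
      intro i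
      have e1 := congrFun (congrFun ht (σ.symm i)) ()
      have e2 := congrFun (congrFun ht i) ()
      simp only [Matrix.add_apply, Matrix.mul_apply, cst, Matrix.of_apply] at e1 e2
      have e3 : ∀ j, D.B (σ.symm i) j = D.B i j + r j := fun j => by
        simpa [cst] using congrFun (congrFun hr i) j
      simp only [e3, add_mul, Finset.sum_add_distrib] at e1
      rw [e1, e2]; ring
    obtain ⟨c, hc⟩ : ({σ.symm x, b, σ (σ.symm x), σ b} : Finset (Fin N))ᶜ.Nonempty := by
      rw [← Finset.card_pos, Finset.card_compl, Fintype.card_fin]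
      have := Finset.card_le_four (a := σ.symm x) (b := b) (c := σ (σ.symm x)) (d := σ b)
      omega
    simp only [Finset.mem_compl, Finset.mem_insert, Finset.mem_singleton, not_or] at hc
    have hzero := hw c
    have hc1 : σ.symm c ≠ σ.symm x := fun e => hc.2.2.1 (by rw [← e, Equiv.apply_symm_apply])
    have hc2 : σ.symm c ≠ b := fun e => hc.2.2.2 (by rw [← e, Equiv.apply_symm_apply])
    simp only [hv, Matrix.of_apply, hc1, hc2, hc.1, hc.2.1, if_false, add_zero, zero_add] at hzero
    have hx' := hw x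
    rw [← hzero, add_zero] at hx'
    simp [hv, hby.symm, Ne.symm hbx, Ne.symm hx] at hx'
  exact (injective_iff_map_eq_one _).mpr key

/-- The representation into invertible matrices. -/
def glHom : Equiv.Perm (Fin N) →* Matrix.GeneralLinearGroup ι (ZMod 2) := D.matHom.toHomUnits

theorem glHom_injective (h5 : 5 ≤ N) : Function.Injective D.glHom := fun _ _ e =>
  D.matHom_injective h5 (congrArg Units.val e)

/-- A permutation-invariant function that ignores constants descends to the heart. -/
theorem invariant {Q : (ι → ZMod 2) → ZMod 2} (Qe : (Fin N → ZMod 2) → ZMod 2)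
    (hQ : ∀ c, Qe (D.B *ᵥ c) = Q c)
    (hperm : ∀ (σ : Equiv.Perm (Fin N)) v, Qe (v ∘ σ) = Qe v)
    (hshift : ∀ v : Fin N → ZMod 2, (∑ i, v i = 0) → ∀ t, (N : ZMod 2) * t = 0 →
      Qe (fun i => v i + t) = Qe v) (σ : Equiv.Perm (Fin N)) (c : ι → ZMod 2) :
    Q (D.mat σ *ᵥ c) = Q c := by
  obtain ⟨r, hr, hN⟩ := D.mat_spec σ
  rw [← hQ, ← hQ c, mulVec_mulVec]
  conv_rhs => rw [← hperm σ.symm]
  have hev : ∑ i, ((D.B * D.mat σ) *ᵥ c) i = 0 := by
    simp only [Matrix.mulVec, dotProduct]
    rw [Finset.sum_comm]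
    simp [← Finset.sum_mul, D.sum_mul_B]
  rw [← hshift _ hev (∑ j, r j * c j) (by rw [Finset.mul_sum]; simp [← mul_assoc, hN])]
  congr 1
  funext i
  simp only [Function.comp_apply, Matrix.mulVec, dotProduct]
  rw [← Finset.sum_add_distrib]
  refine Finset.sum_congr rfl fun j _ => ?_
  rw [show D.B (σ.symm i) j = (D.B * D.mat σ) i j + r j from congrFun (congrFun hr i) j, add_mul]

end Frame

end CfsgLib.Quad.Heart
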