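import Cfsg.Agent.Quad.HeartCases
import Cfsg.Agent.QuadStd.Two

/-!
`S_{4k+4}` inside `O^±_{4k+2}(2)`: the type of the half-weight form on the heart.
-/

set_option autoImplicit false

namespace CfsgLib.Quad.Heart

open Matrix QuadraticMap

theorem halfWeight_add {N : ℕ} (u v : Fin N → ZMod 2) (hu : ∑ i, u i = 0) (hv : ∑ i, v i = 0) :
    halfWeight (u + v) = halfWeight u + halfWeight v + ∑ i, u i * v i := by
  classical
  have h2 : ∀ a : ZMod 2, ((a.val : ℕ) : ZMod 2) = a := fun a => ZMod.natCast_zmod_val a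
  have hc : ∀ w : Fin N → ZMod 2,
      (Finset.univ.filter fun i => w i = 1).card = ∑ i, (w i).val := by
    intro w
    rw [Finset.card_filter]
    exact Finset.sum_congr rfl fun i _ => by generalize w i = a; revert a; decide
  have key : ∑ i, ((u + v) i).val + 2 * ∑ i, (u i * v i).val = ∑ i, (u i).val + ∑ i, (v i).val := by
    rw [Finset.mul_sum, ← Finset.sum_add_distrib, ← Finset.sum_add_distrib]
    exact Finset.sum_congr rfl fun i _ => by
      simp only [Pi.add_apply]; generalize u i = a, v i = b; revert a b; decide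
  have hev : ∀ w : Fin N → ZMod 2, ∑ i, w i = 0 → ∃ k, ∑ i, (w i).val = 2 * k := by
    intro w hw
    refine (even_iff_exists_two_nsmul _).1 ((ZMod.natCast_eq_zero_iff_even).1 ?_) |>.imp fun k h => by
      simpa using h
    simpa [h2] using hw
  obtain ⟨a, ha⟩ := hev u hu
  obtain ⟨b, hb⟩ := hev v hv
  obtain ⟨c, hc'⟩ := hev (u + v) (by simp [Finset.sum_add_distrib, hu, hv])
  simp only [halfWeight, hc, ha, hb, hc', Nat.mul_div_cancel_left _ two_pos]
  have e : c + ∑ i, (u i * v i).val = a + b := by omega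
  have e' := congrArg (Nat.cast : ℕ → ZMod 2) e
  push_cast [h2] at e'
  linear_combination e' - CfsgLib.QuadStd.Two.add_self (∑ i, u i * v i)

theorem halfWeight_shift {k : ℕ} (v : Fin (4 * k + 4) → ZMod 2) (hv : ∑ i, v i = 0) (t : ZMod 2) :
    halfWeight (fun i => v i + t) = halfWeight v := by
  have h1 : halfWeight (fun _ : Fin (4 * k + 4) => (1 : ZMod 2)) = 0 := by
    rw [halfWeight, Finset.filter_true_of_mem (fun _ _ => rfl), Finset.card_univ, Fintype.card_fin,
      show (4 * k + 4) / 2 = 2 * (k + 1) by omega, Nat.cast_mul, ZMod.natCast_self, zero_mul]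
  rcases (by decide : ∀ a : ZMod 2, a = 0 ∨ a = 1) t with rfl | rfl
  · simp
  · rw [show (fun i => v i + 1) = v + fun _ => 1 from rfl, halfWeight_add v _ hv (by
      simp [Finset.sum_const, show ((4 * k + 4 : ℕ) : ZMod 2) = 0 from
        (ZMod.natCast_eq_zero_iff_even).2 ⟨2 * k + 2, by omega⟩]), h1]
    simp [hv]

variable {k : ℕ}

/-- The half-weight form in frame coordinates. -/
def heartQ (m : ℕ) (c : Fin m ⊕ Fin m → ZMod 2) : ZMod 2 := halfWeight (genB m *ᵥ c)

theorem genB_even (m : ℕ) (c : Fin m ⊕ Fin m → ZMod 2) : ∑ i, (genB m *ᵥ c) i = 0 := by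
  simp only [Matrix.mulVec, dotProduct]
  rw [Finset.sum_comm]
  exact Finset.sum_eq_zero fun j _ => by
    rw [← Finset.sum_mul, show ∑ i, genB m i j = 0 from (genFrame m).even j, zero_mul]

theorem heartQ_polarizes (m : ℕ) : CfsgLib.QuadStd.Two.Polarizes m (heartQ m) := by
  intro u v
  have hg : ∑ i, (genB m *ᵥ u) i * (genB m *ᵥ v) i =
      polar (Cfsg.quadFormPlus m (ZMod 2)) u v := by
    show (genB m *ᵥ u) ⬝ᵥ (genB m *ᵥ v) = _
    rw [Matrix.dotProduct_mulVec, ← Matrix.mulVec_transpose, Matrix.mulVec_mulVec, gen_gram,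
      CfsgLib.QuadStd.plus_polar]
    simp [dotProduct, Matrix.J, Matrix.mulVec, Fintype.sum_sum_type, Matrix.fromBlocks,
      Matrix.one_apply, Finset.sum_add_distrib, CharTwo.neg_eq, mul_comm]
    ring
  show halfWeight _ = _
  rw [Matrix.mulVec_add, halfWeight_add _ _ (genB_even m u) (genB_even m v), hg]
  rfl

theorem heartQ_single_inl (m : ℕ) (i : Fin m) : heartQ m (Pi.single (Sum.inl i) 1) = 1 := by
  have hset : (Finset.univ.filter fun j : Fin (2 * m + 2) => genB m j (Sum.inl i) = 1) =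
      {⟨2 * i.val, by omega⟩, ⟨2 * i.val + 1, by omega⟩} := by
    ext j
    simp only [genB, Matrix.of_apply, Sum.elim_inl, Finset.mem_filter, Finset.mem_univ, true_and,
      Finset.mem_insert, Finset.mem_singleton, Fin.ext_iff]
    split_ifs <;> first | omega | simp_all
  rw [heartQ, Matrix.mulVec_single_one, halfWeight]
  erw [hset]
  rw [Finset.card_insert_of_notMem (by simp [Fin.ext_iff]), Finset.card_singleton]
  rfl

theorem heartQ_single_inr (m : ℕ) (i : Fin m) :
    heartQ m (Pi.single (Sum.inr i) 1) = ((i.val + 1 : ℕ) : ZMod 2) := by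
  have hset : (Finset.univ.filter fun j : Fin (2 * m + 2) => genB m j (Sum.inr i) = 1) =
      insert (lastPt m) (Finset.Iic ⟨2 * i.val, by omega⟩) := by
    ext j
    simp only [genB, Matrix.of_apply, Sum.elim_inr, Finset.mem_filter, Finset.mem_univ, true_and,
      Finset.mem_insert, Finset.mem_Iic, Fin.le_def, lastPt, Fin.ext_iff]
    split_ifs <;> first | omega | simp_all
  rw [heartQ, Matrix.mulVec_single_one, halfWeight]
  erw [hset]
  rw [Finset.card_insert_of_notMem (by simp [Fin.le_def, lastPt] <;> omega), Fin.card_Iic]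
  congr 1
  simp only [Fin.val_mk]
  omega

/-- The heart form of degree `4k+4` is of plus type exactly for odd `k`. -/
theorem exists_heart_hom (hk : 1 ≤ k) {ι : Type} [Fintype ι] [DecidableEq ι]
    {Q : (ι → ZMod 2) → ZMod 2} (g : (Fin (2 * k + 1) ⊕ Fin (2 * k + 1) → ZMod 2) ≃ₗ[ZMod 2] (ι → ZMod 2))
    (hg : ∀ v, heartQ (2 * k + 1) v = Q (g v)) :
    ∃ φ : Equiv.Perm (Fin (4 * k + 4)) →* ↥(Cfsg.isometryGroup (ZMod 2) Q), Function.Injective φ := by
  classical
  set D := genFrame (2 * k + 1)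
  have hinv : ∀ (σ : Equiv.Perm (Fin (2 * (2 * k + 1) + 2))) c,
      heartQ (2 * k + 1) (D.mat σ *ᵥ c) = heartQ (2 * k + 1) c :=
    D.invariant halfWeight (fun _ => rfl) halfWeight_perm fun v hv t _ => by
      revert v
      rw [show 2 * (2 * k + 1) + 2 = 4 * k + 4 by omega]
      exact fun v hv => halfWeight_shift v hv t
  let T : Equiv.Perm (Fin (2 * (2 * k + 1) + 2)) →* Module.End (ZMod 2) (ι → ZMod 2) :=
    { toFun := fun σ => g.toLinearMap ∘ₗ Matrix.mulVecLin (D.mat σ) ∘ₗ g.symm.toLinearMap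
      map_one' := LinearMap.ext fun v => by simp [D.mat_one]
      map_mul' := fun σ τ => LinearMap.ext fun v => by simp [D.mat_mul, Matrix.mulVec_mulVec] }
  let ψ := ((LinearMap.toMatrixAlgEquiv' : _ ≃ₐ[ZMod 2] Matrix ι ι (ZMod 2)).toMonoidHom.comp T).toHomUnits
  have hψ : ∀ σ v, (ψ σ : Matrix ι ι (ZMod 2)) *ᵥ v = T σ v := fun σ v => by
    show LinearMap.toMatrix' (T σ) *ᵥ v = T σ v
    exact LinearMap.toMatrix'_mulVec _ _
  let e : Equiv.Perm (Fin (4 * k + 4)) ≃* Equiv.Perm (Fin (2 * (2 * k + 1) + 2)) :=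
    (finCongr (by omega)).permCongrHom
  refine ⟨(ψ.codRestrict _ fun σ v _ => ?_).comp e.toMonoidHom, fun σ τ e' => e.injective ?_⟩
  · show Q ((ψ σ : Matrix ι ι (ZMod 2)) *ᵥ v) = Q v
    rw [hψ]
    obtain ⟨u, rfl⟩ := g.surjective v
    simp only [T, MonoidHom.coe_mk, OneHom.coe_mk, LinearMap.comp_apply, LinearEquiv.coe_coe,
      LinearEquiv.symm_apply_apply, Matrix.mulVecLin_apply, ← hg]
    exact hinv σ u
  · refine D.matHom_injective (by omega) (Matrix.toLin'.injective (LinearMap.ext fun u => ?_))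
    have h1 : T (e σ) (g u) = T (e τ) (g u) := by
      rw [← hψ, ← hψ]
      exact congrArg (fun z : ↥(Cfsg.isometryGroup (ZMod 2) Q) => (z.1 : Matrix ι ι (ZMod 2)) *ᵥ g u) e'
    simpa [T, Frame.matHom] using h1

theorem heartQ_arf (k : ℕ) : ∃ w, (∀ v, heartQ (2 * k + 1) v = CfsgLib.QuadStd.Two.qw w v) ∧
    Cfsg.quadFormPlus (2 * k + 1) (ZMod 2) w = ((k + 1 : ℕ) : ZMod 2) := by
  obtain ⟨w, hw⟩ := CfsgLib.QuadStd.Two.exists_w (heartQ_polarizes (2 * k + 1))
  refine ⟨w, hw, ?_⟩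
  have hr : ∀ i, w (Sum.inr i) = 1 := fun i => by
    rw [← heartQ_single_inl (2 * k + 1) i, hw, CfsgLib.QuadStd.Two.qw_apply, CfsgLib.QuadStd.plus_polar]
    simp [Cfsg.quadFormPlus, Pi.single_apply]
  have hl : ∀ i : Fin (2 * k + 1), w (Sum.inl i) = ((i.val + 1 : ℕ) : ZMod 2) := fun i => by
    rw [← heartQ_single_inr (2 * k + 1) i, hw, CfsgLib.QuadStd.Two.qw_apply, CfsgLib.QuadStd.plus_polar]
    simp [Cfsg.quadFormPlus, Pi.single_apply]
  simp only [Cfsg.quadFormPlus, hr, hl, mul_one]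
  rw [Fin.sum_univ_eq_sum_range (fun i => ((i + 1 : ℕ) : ZMod 2))]
  clear hw hr hl
  induction k with
  | zero => rfl
  | succ j ih =>
    rw [show 2 * (j + 1) + 1 = 2 * j + 1 + 1 + 1 by omega, Finset.sum_range_succ,
      Finset.sum_range_succ, ih 0]
    push_cast
    linear_combination (2 * (j : ZMod 2) + 2) * CfsgLib.QuadStd.Two.add_self (1 : ZMod 2)

end CfsgLib.Quad.Heart
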