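import Cfsg.Agent.Quad.OmegaMem

/-!
Tori, negations and swaps on hyperbolic pairs as products of reflections.
-/

set_option autoImplicit false
set_option linter.style.haveILetI false

namespace CfsgLib.Quad

open QuadraticMap CfsgLib.Forms

variable {F V : Type*} [Field F] [AddCommGroup V] [Module F V] [FiniteDimensional F V]
  {Q : QuadraticForm F V}

omit [FiniteDimensional F V] in
theorem quad_pair {e f : V} (he : Q e = 0) (hf : Q f = 0) (hef : polar Q e f = 1) (c : F) :
    Q (e + c • f) = c := by
  rw [quad_add, quad_smul, polar_smul_right, he, hf, hef, mul_zero, zero_add, zero_add, smul_eq_mul,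
    mul_one]

omit [FiniteDimensional F V] in
/-- The torus element of a hyperbolic pair. -/
theorem reflProd_torus {e f : V} (he : Q e = 0) (hf : Q f = 0) (hef : polar Q e f = 1) {t : F}
    (ht : t ≠ 0) (x : V) :
    (reflProd Q [e + f, e + t • f]).1 x =
      x + ((t - 1) * polar Q x f) • e + ((t⁻¹ - 1) * polar Q x e) • f := by
  have h1 : Q (e + f) = 1 := by
    have := quad_pair he hf hef (1 : F)
    rwa [one_smul] at this
  have hee : polar Q e e = 0 := by rw [QuadraticMap.polar_self, he, nsmul_zero]
  have hff : polar Q f f = 0 := by rw [QuadraticMap.polar_self, hf, nsmul_zero]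
  have hfe : polar Q f e = 1 := by rw [polar_comm, hef]
  rw [reflProd_cons, reflProd_cons, reflProd_nil, mul_one]
  show (refl Q (e + f)).1 ((refl Q (e + t • f)).1 x) = _
  rw [refl_apply, refl_apply, h1, quad_pair he hf hef]
  simp only [polar_add_left, polar_add_right, polar_smul_left, polar_smul_right, hee, hff, hef, hfe,
    smul_eq_mul]
  match_scalars <;> field_simp <;> ring

omit [FiniteDimensional F V] in
/-- The reflection interchanging a hyperbolic pair. -/
theorem refl_swap {e f : V} (he : Q e = 0) (hf : Q f = 0) (hef : polar Q e f = 1) (x : V) :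
    (refl Q (e + (-1 : F) • f)).1 x =
      x + (polar Q x e - polar Q x f) • e + (polar Q x f - polar Q x e) • f := by
  rw [refl_apply, quad_pair he hf hef]
  simp only [polar_add_right, polar_smul_right, smul_eq_mul]
  match_scalars <;> field_simp <;> ring

variable {κ : Type*}

/-- A family of mutually orthogonal hyperbolic pairs. -/
structure IsHypFamily (Q : QuadraticForm F V) (e f : κ → V) : Prop where
  ee : ∀ i, Q (e i) = 0
  ff : ∀ i, Q (f i) = 0
  ef : ∀ i, polar Q (e i) (f i) = 1
  pee : ∀ i j, polar Q (e i) (e j) = 0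
  pff : ∀ i j, polar Q (f i) (f j) = 0
  pef : ∀ i j, i ≠ j → polar Q (e i) (f j) = 0

/-- The vectors of a torus element. -/
def torusList (e f : κ → V) (t : κ → F) (l : List κ) : List V :=
  l.flatMap fun i => [e i + f i, e i + t i • f i]

/-- The vectors of a swap. -/
def swapList (F : Type*) [Field F] [Module F V] (e f : κ → V) (l : List κ) : List V :=
  l.map fun i => e i + (-1 : F) • f i

omit [FiniteDimensional F V] in
theorem torusList_spec {e f : κ → V} (h : IsHypFamily Q e f) {t : κ → F} (ht : ∀ i, t i ≠ 0) :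
    ∀ l : List κ, (∀ v ∈ torusList e f t l, Q v ≠ 0) ∧ Even (torusList e f t l).length ∧
      ((torusList e f t l).map fun v => Q v).prod = (l.map t).prod ∧
      (l.Nodup → ∀ x, (reflProd Q (torusList e f t l)).1 x =
        x + (l.map fun i => ((t i - 1) * polar Q x (f i)) • e i +
          (((t i)⁻¹ - 1) * polar Q x (e i)) • f i).sum)
  | [] => ⟨by simp [torusList], by simp [torusList], by simp [torusList],
      fun _ x => by simp [torusList, reflProd_nil]⟩
  | i :: l => by
    obtain ⟨h1, h2, h3, h4⟩ := torusList_spec h ht l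
    have h11 : Q (e i + f i) = 1 := by
      have := quad_pair (h.ee i) (h.ff i) (h.ef i) (1 : F)
      rwa [one_smul] at this
    have h12 : Q (e i + t i • f i) = t i := quad_pair (h.ee i) (h.ff i) (h.ef i) _
    have hcons : torusList e f t (i :: l) = [e i + f i, e i + t i • f i] ++ torusList e f t l := rfl
    rw [hcons]
    refine ⟨?_, ?_, ?_, fun hnd x => ?_⟩
    · intro v hv
      rcases List.mem_append.1 hv with hv | hv
      · simp only [List.mem_cons, List.not_mem_nil, or_false] at hv
        rcases hv with rfl | rfl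
        · rw [h11]; exact one_ne_zero
        · rw [h12]; exact ht i
      · exact h1 v hv
    · rw [List.length_append]
      exact (even_two).add h2
    · simp [h3, h11, h12]
    · obtain ⟨hi, hnd'⟩ := List.nodup_cons.1 hnd
      rw [reflProd_append]
      show (reflProd Q [e i + f i, e i + t i • f i]).1 ((reflProd Q (torusList e f t l)).1 x) = _
      rw [h4 hnd', reflProd_torus (h.ee i) (h.ff i) (h.ef i) (ht i)]
      set S := (l.map fun j => ((t j - 1) * polar Q x (f j)) • e j +
          (((t j)⁻¹ - 1) * polar Q x (e j)) • f j).sum with hS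
      have hperp : polar Q S (f i) = 0 ∧ polar Q S (e i) = 0 := by
        have hgen' : ∀ m : List κ, i ∉ m →
            polar Q ((m.map fun j => ((t j - 1) * polar Q x (f j)) • e j +
              (((t j)⁻¹ - 1) * polar Q x (e j)) • f j).sum) (f i) = 0 ∧
            polar Q ((m.map fun j => ((t j - 1) * polar Q x (f j)) • e j +
              (((t j)⁻¹ - 1) * polar Q x (e j)) • f j).sum) (e i) = 0 := by
          intro m hm
          induction m with
          | nil => simp
          | cons j m ihm =>
            obtain ⟨hji, hm'⟩ := not_or.1 (List.mem_cons.not.1 hm)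
            obtain ⟨a1, a2⟩ := ihm hm'
            simp only [List.map_cons, List.sum_cons, polar_add_left, polar_smul_left, a1, a2,
              h.pff, h.pee, h.pef j i (Ne.symm hji), polar_comm (⇑Q) (f j) (e i), h.pef i j hji,
              smul_zero, add_zero, and_self]
        exact hgen' l hi
      rw [polar_add_left, polar_add_left, hperp.1, hperp.2, add_zero, add_zero, List.map_cons,
        List.sum_cons]
      abel

omit [FiniteDimensional F V] in
theorem swapList_spec {e f : κ → V} (h : IsHypFamily Q e f) :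
    ∀ l : List κ, (∀ v ∈ swapList F e f l, Q v ≠ 0) ∧ (swapList F e f l).length = l.length ∧
      ((swapList F e f l).map fun v => Q v).prod = (-1) ^ l.length ∧
      (l.Nodup → ∀ x, (reflProd Q (swapList F e f l)).1 x =
        x + (l.map fun i => (polar Q x (e i) - polar Q x (f i)) • e i +
          (polar Q x (f i) - polar Q x (e i)) • f i).sum)
  | [] => ⟨by simp [swapList], by simp [swapList], by simp [swapList],
      fun _ x => by simp [swapList, reflProd_nil]⟩
  | i :: l => by
    obtain ⟨h1, h2, h3, h4⟩ := swapList_spec h l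
    have h12 : Q (e i + (-1 : F) • f i) = -1 := quad_pair (h.ee i) (h.ff i) (h.ef i) _
    have hcons : swapList F e f (i :: l) = (e i + (-1 : F) • f i) :: swapList F e f l := rfl
    rw [hcons]
    refine ⟨?_, ?_, ?_, fun hnd x => ?_⟩
    · exact List.forall_mem_cons.2 ⟨by rw [h12]; exact neg_ne_zero.2 one_ne_zero, h1⟩
    · simp [h2]
    · simp only [List.map_cons, List.prod_cons, h3, h12, List.length_cons, pow_succ']
    · obtain ⟨hi, hnd'⟩ := List.nodup_cons.1 hnd
      rw [reflProd_cons]
      show (refl Q (e i + (-1 : F) • f i)).1 ((reflProd Q (swapList F e f l)).1 x) = _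
      rw [h4 hnd', refl_swap (h.ee i) (h.ff i) (h.ef i)]
      set S := (l.map fun j => (polar Q x (e j) - polar Q x (f j)) • e j +
          (polar Q x (f j) - polar Q x (e j)) • f j).sum with hS
      have hperp : polar Q S (f i) = 0 ∧ polar Q S (e i) = 0 := by
        have hgen' : ∀ m : List κ, i ∉ m →
            polar Q ((m.map fun j => (polar Q x (e j) - polar Q x (f j)) • e j +
              (polar Q x (f j) - polar Q x (e j)) • f j).sum) (f i) = 0 ∧
            polar Q ((m.map fun j => (polar Q x (e j) - polar Q x (f j)) • e j +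
              (polar Q x (f j) - polar Q x (e j)) • f j).sum) (e i) = 0 := by
          intro m hm
          induction m with
          | nil => simp
          | cons j m ihm =>
            obtain ⟨hji, hm'⟩ := not_or.1 (List.mem_cons.not.1 hm)
            obtain ⟨a1, a2⟩ := ihm hm'
            simp only [List.map_cons, List.sum_cons, polar_add_left, polar_smul_left, a1, a2,
              h.pff, h.pee, h.pef j i (Ne.symm hji), polar_comm (⇑Q) (f j) (e i), h.pef i j hji,
              smul_zero, add_zero, and_self]
        exact hgen' l hi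
      rw [polar_add_left, polar_add_left, hperp.1, hperp.2, add_zero, add_zero, List.map_cons,
        List.sum_cons]
      abel

/-- The coordinate pairs of `plusQ`. -/
theorem isHypFamily_plus (m : ℕ) : IsHypFamily (plusQ (F := F) m)
    (fun i : Fin m => (Pi.single (Sum.inl i) 1 : Fin m ⊕ Fin m → F))
    (fun i : Fin m => (Pi.single (Sum.inr i) 1 : Fin m ⊕ Fin m → F)) where
  ee i := by simp [plusQ_coe, Cfsg.quadFormPlus, Pi.single_apply]
  ff i := by simp [plusQ_coe, Cfsg.quadFormPlus, Pi.single_apply]
  ef i := by simp [polar, plusQ_coe, Cfsg.quadFormPlus, Pi.single_apply]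
  pee i j := by simp [polar, plusQ_coe, Cfsg.quadFormPlus, Pi.single_apply]
  pff i j := by simp [polar, plusQ_coe, Cfsg.quadFormPlus, Pi.single_apply]
  pef i j hij := by
    simp [polar, plusQ_coe, Cfsg.quadFormPlus, Pi.single_apply, add_mul, mul_add, Finset.sum_add_distrib,
      hij, Ne.symm hij]

omit [FiniteDimensional F V] in
/-- The torus element on a finite family. -/
theorem exists_torus [Fintype κ] {e f : κ → V} (h : IsHypFamily Q e f) {t : κ → F}
    (ht : ∀ i, t i ≠ 0) :
    ∃ vs : List V, (∀ v ∈ vs, Q v ≠ 0) ∧ Even vs.length ∧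
      (vs.map fun v => Q v).prod = ∏ i, t i ∧
      ∀ x, (reflProd Q vs).1 x = x + ∑ i, (((t i - 1) * polar Q x (f i)) • e i +
          (((t i)⁻¹ - 1) * polar Q x (e i)) • f i) := by
  obtain ⟨h1, h2, h3, h4⟩ := torusList_spec h ht (Finset.univ : Finset κ).toList
  refine ⟨_, h1, h2, ?_, fun x => ?_⟩
  · rw [h3, Finset.prod_map_toList]
  · rw [h4 (Finset.nodup_toList _), Finset.sum_map_toList]

omit [FiniteDimensional F V] in
/-- The swap on a finite family. -/
theorem exists_swap [Fintype κ] {e f : κ → V} (h : IsHypFamily Q e f) :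
    ∃ vs : List V, (∀ v ∈ vs, Q v ≠ 0) ∧ vs.length = Fintype.card κ ∧
      (vs.map fun v => Q v).prod = (-1) ^ Fintype.card κ ∧
      ∀ x, (reflProd Q vs).1 x = x + ∑ i, ((polar Q x (e i) - polar Q x (f i)) • e i +
          (polar Q x (f i) - polar Q x (e i)) • f i) := by
  obtain ⟨h1, h2, h3, h4⟩ := swapList_spec h (Finset.univ : Finset κ).toList
  rw [Finset.length_toList, Finset.card_univ] at h2 h3
  exact ⟨_, h1, h2, h3, fun x => by rw [h4 (Finset.nodup_toList _), Finset.sum_map_toList]⟩

omit [FiniteDimensional F V] in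
theorem IsHypFamily.comp {e f : κ → V} (h : IsHypFamily Q e f) {μ : Type*} {g : μ → κ}
    (hg : Function.Injective g) : IsHypFamily Q (e ∘ g) (f ∘ g) where
  ee i := h.ee _
  ff i := h.ff _
  ef i := h.ef _
  pee i j := h.pee _ _
  pff i j := h.pff _ _
  pef i j hij := h.pef _ _ fun e' => hij (hg e')

/-- Negating hyperbolic pairs: in the commutator subgroup iff `(-1)^i` is a square. -/
theorem neg_pairs_iff [Finite F] {ι : Type} [Fintype ι] [DecidableEq ι] (h2 : (2 : F) ≠ 0)
    {Q : QuadraticForm F (ι → F)} (hQ : (polarBilin Q).Nondegenerate) [Fintype κ] {e f : κ → (ι → F)}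
    (h : IsHypFamily Q e f) {d : ι → F}
    (hd : ∀ (x : ι → F) (k : ι), d k * x k =
      x k + ∑ j, ((-2 : F) * polar Q x (f j) * e j k + (-2) * polar Q x (e j) * f j k)) :
    (∃ g : Cfsg.isometryGroup F ⇑Q, g ∈ Cfsg.Omega F ⇑Q ∧
      ((g : Matrix.GeneralLinearGroup ι F) : Matrix ι ι F) = Matrix.diagonal d) ↔
      IsSquare ((-1 : F) ^ Fintype.card κ) := by
  classical
  obtain ⟨vs, hvs, hev, hprod, happ⟩ := exists_torus h (t := fun _ => (-1 : F))
    fun _ => neg_ne_zero.2 one_ne_zero
  have hgen : (∃ t : F, t ≠ 0 ∧ t ≠ 1) ∨ Module.finrank F (ι → F) ≠ 4 :=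
    Or.inl ⟨-1, neg_ne_zero.mpr one_ne_zero, fun e => h2 (by linear_combination -e)⟩
  rw [exists_omega_iff Q _ (reflProd Q vs) fun x => ?_, reflProd_mem_commutator_iff hQ hgen hvs, hprod,
    Finset.prod_const, Finset.card_univ, and_iff_right hev]
  rw [happ]
  funext k
  rw [Matrix.mulVec_diagonal, hd x k, Pi.add_apply, Finset.sum_apply]
  refine congrArg _ (Finset.sum_congr rfl fun j _ => ?_)
  simp only [Pi.add_apply, Pi.smul_apply, smul_eq_mul, inv_neg, inv_one]
  ring

omit [FiniteDimensional F V] in
theorem IsHypFamily.map {e f : κ → V} (h : IsHypFamily Q e f) {W : Type*} [AddCommGroup W] [Module F W]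
    {Q' : QuadraticForm F W} (L : V →ₗ[F] W) (hL : ∀ x, Q' (L x) = Q x) :
    IsHypFamily Q' (L ∘ e) (L ∘ f) := by
  have hp : ∀ x y, polar Q' (L x) (L y) = polar Q x y := fun x y => by
    simp only [polar, ← map_add, hL]
  constructor
  · exact fun i => (hL _).trans (h.ee i)
  · exact fun i => (hL _).trans (h.ff i)
  · exact fun i => (hp _ _).trans (h.ef i)
  · exact fun i j => (hp _ _).trans (h.pee i j)
  · exact fun i j => (hp _ _).trans (h.pff i j)
  · exact fun i j hij => (hp _ _).trans (h.pef i j hij)

omit [FiniteDimensional F V] in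
theorem IsHypFamily.congr {e f e' f' : κ → V} (h : IsHypFamily Q e f) (he : e' = e) (hf : f' = f) :
    IsHypFamily Q e' f' := by rw [he, hf]; exact h

/-- The pairs of `oddQ`. -/
theorem isHypFamily_odd (m : ℕ) : IsHypFamily (oddQ (F := F) m)
    (fun i : Fin m => (Pi.single (Sum.inr (Sum.inl i)) 1 : Unit ⊕ (Fin m ⊕ Fin m) → F))
    (fun i : Fin m => (Pi.single (Sum.inr (Sum.inr i)) 1 : Unit ⊕ (Fin m ⊕ Fin m) → F)) := by
  let L : (Fin m ⊕ Fin m → F) →ₗ[F] (Unit ⊕ (Fin m ⊕ Fin m) → F) :=
    { toFun := fun x => Sum.elim 0 x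
      map_add' := fun x y => by funext k; rcases k with k | k <;> simp
      map_smul' := fun c x => by funext k; rcases k with k | k <;> simp }
  refine ((isHypFamily_plus m).map L fun x => by
    simp [L, oddQ_coe, plusQ_coe, Cfsg.quadFormOdd, Cfsg.quadFormPlus]).congr ?_ ?_ <;>
    funext i k <;> rcases k with k | k <;> simp [L, Pi.single_apply]

/-- The pairs of `minusQ`. -/
theorem isHypFamily_minus (m : ℕ) (a b : F) : IsHypFamily (minusQ (F := F) m a b)
    (fun i : Fin m => (Pi.single (Sum.inl (Sum.inl i)) 1 : (Fin m ⊕ Fin m) ⊕ Fin 2 → F))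
    (fun i : Fin m => (Pi.single (Sum.inl (Sum.inr i)) 1 : (Fin m ⊕ Fin m) ⊕ Fin 2 → F)) := by
  let L : (Fin m ⊕ Fin m → F) →ₗ[F] ((Fin m ⊕ Fin m) ⊕ Fin 2 → F) :=
    { toFun := fun x => Sum.elim x 0
      map_add' := fun x y => by funext k; rcases k with k | k <;> simp
      map_smul' := fun c x => by funext k; rcases k with k | k <;> simp }
  refine ((isHypFamily_plus m).map L fun x => by
    simp [L, minusQ_coe, plusQ_coe, Cfsg.quadFormMinus, Cfsg.quadFormPlus]).congr ?_ ?_ <;>
    funext i k <;> rcases k with k | k <;> simp [L, Pi.single_apply]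

end CfsgLib.Quad
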