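import Cfsg.Agent.Quad.Orders
import Cfsg.Prelude.Def_ClassicalGeometry
import Mathlib.Algebra.Field.ZMod
import Mathlib.GroupTheory.Perm.Fin

/-!
`SO_3(3) ≅ S_4`, through the signed action on sum-zero vectors.
-/

set_option autoImplicit false
set_option linter.flexible false

namespace CfsgLib.Quad.SOThree

open Matrix

/-- The signed permutation matrix on sum-zero vectors, in a basis adapted to `x₀² + xy`. -/
def rep (σ : Equiv.Perm (Fin 4)) :
    Matrix (Unit ⊕ (Fin 1 ⊕ Fin 1)) (Unit ⊕ (Fin 1 ⊕ Fin 1)) (ZMod 3) :=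
  ((Equiv.Perm.sign σ : ℤ) : ZMod 3) •
    ((Matrix.of fun i => Sum.elim (fun _ : Unit => (![2, 1, 0, 0] : Fin 4 → ZMod 3))
        (Sum.elim (fun _ : Fin 1 => ![0, 0, 1, 0]) (fun _ : Fin 1 => ![0, 0, 0, 2])) i) *
      (Matrix.of fun (i : Fin 4) j => Sum.elim (fun _ : Unit => (![1, 2, 0, 0] : Fin 4 → ZMod 3) i)
        (Sum.elim (fun _ : Fin 1 => ![1, 1, 1, 0] i) (fun _ : Fin 1 => ![2, 2, 0, 2] i)) j).submatrix
          σ.symm id)

theorem rep_one : rep 1 = 1 := by decide +kernel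

theorem rep_mul : ∀ σ τ : Equiv.Perm (Fin 4), rep (σ * τ) = rep σ * rep τ := by decide +kernel

theorem rep_det : ∀ σ : Equiv.Perm (Fin 4), (rep σ).det = 1 := by decide +kernel

theorem rep_form : ∀ (σ : Equiv.Perm (Fin 4)) (v : Unit ⊕ (Fin 1 ⊕ Fin 1) → ZMod 3),
    Cfsg.quadFormOdd 1 (ZMod 3) (rep σ *ᵥ v) = Cfsg.quadFormOdd 1 (ZMod 3) v := by
  unfold Cfsg.quadFormOdd
  decide +kernel

theorem rep_injective : Function.Injective rep := by
  unfold Function.Injective
  decide +kernel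

theorem nonempty_so_three {F : Type*} [Field F] [Fintype F] (hF : Fintype.card F = 3) :
    Nonempty (Cfsg.specialIsometryGroup F (Cfsg.quadFormOdd 1 F) ≃* Equiv.Perm (Fin 4)) := by
  let e := ZMod.ringEquivOfPrime F Nat.prime_three hF
  let r : Equiv.Perm (Fin 4) →* Matrix (Unit ⊕ (Fin 1 ⊕ Fin 1)) (Unit ⊕ (Fin 1 ⊕ Fin 1)) F :=
    e.toRingHom.mapMatrix.toMonoidHom.comp
      { toFun := rep, map_one' := rep_one, map_mul' := rep_mul }
  let g := r.toHomUnits
  have hmem : ∀ σ, g σ ∈ Cfsg.isometryGroup F (Cfsg.quadFormOdd 1 F) := by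
    intro σ u _
    change Cfsg.quadFormOdd 1 F ((rep σ).map e *ᵥ u) = Cfsg.quadFormOdd 1 F u
    obtain ⟨c, rfl⟩ : ∃ c : Unit ⊕ (Fin 1 ⊕ Fin 1) → ZMod 3, (fun i => e (c i)) = u :=
      ⟨fun i => e.symm (u i), funext fun i => e.apply_symm_apply _⟩
    have hQ : ∀ c, Cfsg.quadFormOdd 1 F (fun i => e (c i)) = e (Cfsg.quadFormOdd 1 (ZMod 3) c) :=
      fun c => by simp only [Cfsg.quadFormOdd, map_add, map_mul, map_pow, map_sum]
    rw [show (rep σ).map e *ᵥ (fun i => e (c i)) = fun i => e ((rep σ *ᵥ c) i) from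
      funext fun i => (RingHom.map_mulVec e.toRingHom _ c i).symm, hQ, hQ, rep_form]
  let g₁ := g.codRestrict _ hmem
  have hdet : ∀ σ, g₁ σ ∈ Cfsg.specialIsometryGroup F (Cfsg.quadFormOdd 1 F) := by
    intro σ
    rw [Cfsg.specialIsometryGroup, MonoidHom.mem_ker, Units.ext_iff]
    change ((rep σ).map e).det = 1
    rw [← e.map_one, ← rep_det σ]
    exact (e.toRingHom.map_det (rep σ)).symm
  let f := g₁.codRestrict _ hdet
  have hf : Function.Injective f := fun σ τ h => rep_injective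
    (Matrix.map_injective e.injective (congrArg (fun x => ((x.1.1 : _) :
      Matrix (Unit ⊕ (Fin 1 ⊕ Fin 1)) (Unit ⊕ (Fin 1 ⊕ Fin 1)) F)) h))
  refine ⟨(MulEquiv.ofBijective f (hf.bijective_of_nat_card_le ?_)).symm⟩
  -- `-1` has determinant `-1`
  have h2 : (2 : F) ≠ 0 := fun h => by
    have := e.symm.congr_arg h
    rw [map_ofNat, map_zero] at this
    exact absurd this (by decide)
  let ψ : Bool × Cfsg.specialIsometryGroup F (Cfsg.quadFormOdd 1 F) →
      Cfsg.isometryGroup F (Cfsg.quadFormOdd 1 F) := fun p =>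
    ⟨if p.1 then -p.2.1.1 else p.2.1.1, by
      intro u v
      have := p.2.1.2 u v
      split
      · change Cfsg.quadFormOdd 1 F ((-p.2.1.1.1) *ᵥ u) = _
        rw [Matrix.neg_mulVec, ← this]
        simp only [Cfsg.quadFormOdd, Pi.neg_apply, neg_sq, neg_mul_neg]
        rfl
      · exact this⟩
  have hψ : Function.Injective ψ := by
    rintro ⟨b, x⟩ ⟨c, y⟩ h
    have hx : x.1.1.1.det = 1 := congrArg Units.val x.2
    have hy : y.1.1.1.det = 1 := congrArg Units.val y.2
    have h' := congrArg (fun z => ((z.1 : _) : Matrix (Unit ⊕ (Fin 1 ⊕ Fin 1)) (Unit ⊕ (Fin 1 ⊕ Fin 1)) F)) h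
    have hne : (-1 : F) ≠ 1 := fun h => h2 (by linear_combination -h)
    cases b <;> cases c <;> simp only [ψ, if_true, if_false, Units.val_neg, Bool.false_eq_true] at h'
    · rw [Subtype.ext (Subtype.ext (Units.ext h')) ]
    · exact absurd (congrArg Matrix.det h') (by simp [Matrix.det_neg, hx, hy, Fintype.card_sum]; norm_num [hne, hne.symm])
    · exact absurd (congrArg Matrix.det h') (by simp [Matrix.det_neg, hx, hy, Fintype.card_sum]; norm_num [hne, hne.symm])
    · rw [Subtype.ext (Subtype.ext (Units.ext (neg_injective h')))]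
  haveI : Finite (Cfsg.isometryGroup F (Cfsg.quadFormOdd 1 F)) := Subtype.finite
  have hle := Nat.card_le_card_of_injective ψ hψ
  rw [Nat.card_prod, Nat.card_eq_fintype_card (α := Bool), Fintype.card_bool] at hle
  have hc := card_oGroup_odd (F := F) (q := Fintype.card F) Nat.card_eq_fintype_card h2 1
  rw [hF] at hc
  norm_num [-Nat.card_eq_fintype_card] at hc
  have hiso : Nat.card (Cfsg.isometryGroup F (Cfsg.quadFormOdd 1 F)) = 48 := by
    rw [← CfsgLib.Quad.oddQ_coe, Nat.card_congr (isoGroupEquiv _).toEquiv]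
    omega
  rw [hiso] at hle
  rw [Nat.card_perm, Nat.card_fin]
  norm_num [Nat.factorial, -Nat.card_eq_fintype_card]
  exact le_of_mul_le_mul_left (show 2 * _ ≤ 2 * 24 from hle) two_pos

end CfsgLib.Quad.SOThree
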