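import Cfsg.Agent.Golay.SylowCert
import Cfsg.Agent.Quad.IndexTwo
import Mathlib.LinearAlgebra.QuadraticForm.Basic

/-!
The sum of seven squares, and signed permutations of the frame as permutations of 24 positions.
-/

set_option autoImplicit false
set_option linter.style.haveILetI false

namespace CfsgLib.Quad.Seven

open QuadraticMap CfsgLib.Forms CfsgLib.Golay
open Cfsg (GolayPt)

variable {F : Type*} [Field F]

/-- The form `a (x₀² + ⋯ + x₆²)`. -/
def form (a : F) : QuadraticForm F (Fin 7 → F) := weightedSumSquares F fun _ : Fin 7 => a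

theorem form_apply (a : F) (v : Fin 7 → F) : form a v = a * ∑ i, v i * v i := by
  simp [form, weightedSumSquares_apply, Finset.mul_sum]

theorem polar_form (a : F) (v w : Fin 7 → F) :
    polar (form a) v w = 2 * a * ∑ i, v i * w i := by
  simp only [QuadraticMap.polar, form_apply, Pi.add_apply, Finset.mul_sum, ← Finset.sum_sub_distrib]
  exact Finset.sum_congr rfl fun i _ => by ring

/-- The frame vectors. -/
def ev (i : Fin 7) : Fin 7 → F := Pi.single i 1

theorem form_ev (a : F) (i : Fin 7) : form a (ev i) = a := by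
  simp [form_apply, ev, Pi.single_apply]

theorem polar_ev (a : F) (i j : Fin 7) :
    polar (form a) (ev i) (ev j) = if i = j then 2 * a else 0 := by
  rw [polar_form]
  by_cases h : i = j
  · subst h; simp [ev, Pi.single_apply]
  · simp [ev, Pi.single_apply, h, Ne.symm h]

theorem sum_ev (v : Fin 7 → F) : ∑ i, v i • ev i = v := by
  funext j
  simp [ev, Pi.single_apply, Finset.sum_apply]

theorem ext_ev {f g : (Fin 7 → F) →ₗ[F] (Fin 7 → F)} (h : ∀ i, f (ev i) = g (ev i)) : f = g :=
  LinearMap.ext fun v => by rw [← sum_ev v, map_sum, map_sum]; simp [h]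

theorem oGroup_ext {a : F} {f g : oGroup (form a)} (h : ∀ i, f.1 (ev i) = g.1 (ev i)) : f = g :=
  Subtype.ext (LinearEquiv.toLinearMap_injective (ext_ev h))

theorem refl_sub_ev {a : F} (ha : a ≠ 0) (h2 : (2 : F) ≠ 0) {i j : Fin 7} (hij : i ≠ j)
    (m : Fin 7) : (refl (form a) (ev i - ev j)).1 (ev m) = ev (Equiv.swap i j m) := by
  have hq : form a (ev i - ev j) = 2 * a := by
    rw [sub_eq_add_neg, ← neg_one_smul F (ev j), quad_add, quad_smul, polar_smul_right, form_ev,
      form_ev, polar_ev, if_neg hij]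
    ring
  rw [refl_apply, hq, sub_eq_add_neg, ← neg_one_smul F (ev j), polar_add_right,
    polar_smul_right, polar_ev, polar_ev]
  have hu : a⁻¹ * 2⁻¹ * (2 * a) = 1 := by field_simp
  by_cases hmi : m = i
  · subst hmi
    simp [hij, hu]
  by_cases hmj : m = j
  · subst hmj
    simp [hmi, hu, Equiv.swap_apply_right]
  simp [hmi, hmj, Equiv.swap_apply_of_ne_of_ne hmi hmj]

theorem refl_ev {a : F} (ha : a ≠ 0) (i m : Fin 7) :
    (refl (form a) (ev i)).1 (ev m) = if m = i then -ev m else ev m := by
  rw [refl_apply, form_ev, polar_ev]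
  split_ifs with h
  · subst h
    rw [show -a⁻¹ * (2 * a) = -2 by field_simp]
    module
  · simp

theorem refl_add_sub {V : Type*} [AddCommGroup V] [Module F V] {Q : QuadraticForm F V}
    (h2 : (2 : F) ≠ 0) {u w : V} (hw : Q w = Q u) (huw : polar Q u w = 0) (hu : Q u ≠ 0) :
    refl Q (u + w) * refl Q (u - w) = refl Q u * refl Q w := by
  have hp : Q (u + w) = 2 * Q u := by rw [quad_add, hw, huw]; ring
  have hm : Q (u - w) = 2 * Q u := by
    rw [sub_eq_add_neg, ← neg_one_smul F w, quad_add, quad_smul, polar_smul_right, hw, huw]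
    ring
  refine Subtype.ext (LinearEquiv.ext fun x => ?_)
  change (refl Q (u + w)).1 ((refl Q (u - w)).1 x) = (refl Q u).1 ((refl Q w).1 x)
  simp only [refl_apply, hp, hm, hw]
  have e1 : polar Q w u = 0 := by rwa [polar_comm]
  have e2 : polar Q (u - w) (u + w) = 0 := by
    rw [sub_eq_add_neg, ← neg_one_smul F w, polar_add_left, polar_add_right, polar_smul_left,
      polar_add_right, huw, e1, polar_self, polar_self, hw]
    ring
  rw [polar_add_left, polar_smul_left, e2, polar_add_left, polar_smul_left, e1]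
  rw [show polar Q x (u + w) = polar Q x u + polar Q x w from polar_add_right ..,
    show polar Q x (u - w) = polar Q x u - polar Q x w by
      rw [sub_eq_add_neg, ← neg_one_smul F w, polar_add_right, polar_smul_right]; ring]
  match_scalars <;> field_simp <;> ring

/-! ### Signed permutations -/

/-- A signed frame vector at a position. -/
def sgnVec (p : ℕ) : Fin 7 → F :=
  fun j => if p = (j : ℕ) then 1 else if p = (j : ℕ) + 7 then -1 else 0

theorem sgnVec_lt (i : Fin 7) : sgnVec (F := F) (i : ℕ) = ev i := by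
  funext j
  have := i.2
  simp only [sgnVec, ev, Pi.single_apply, Fin.val_inj]
  by_cases h : i = j
  · subst h; simp
  · rw [if_neg h, if_neg (show ¬ (i : ℕ) = (j : ℕ) + 7 by omega), if_neg (fun e => h e.symm)]

theorem sgnVec_add (i : Fin 7) : sgnVec (F := F) ((i : ℕ) + 7) = -ev i := by
  funext j
  have := j.2
  simp only [sgnVec, ev, Pi.neg_apply, Pi.single_apply, add_left_inj, Fin.val_inj]
  by_cases h : i = j
  · subst h; simp
  · rw [if_neg (by omega), if_neg h, if_neg (fun e => h e.symm), neg_zero]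

theorem exists_pos {p : ℕ} (hp : p < 14) :
    ∃ i : Fin 7, p = (i : ℕ) ∨ p = (i : ℕ) + 7 :=
  if h : p < 7 then ⟨⟨p, h⟩, Or.inl rfl⟩ else ⟨⟨p - 7, by omega⟩, Or.inr (by simp; omega)⟩

theorem sgnVec_injective (h2 : (2 : F) ≠ 0) {p q : ℕ} (hp : p < 14) (hq : q < 14)
    (h : sgnVec (F := F) p = sgnVec q) : p = q := by
  have h11 : (-1 : F) ≠ 1 := fun e => h2 (by linear_combination -e)
  obtain ⟨i, hi⟩ := exists_pos hp
  obtain ⟨j, hj⟩ := exists_pos hq
  have hpi := congrFun h i
  clear h hp hq
  rcases hi with rfl | rfl <;> rcases hj with rfl | rfl <;>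
    rcases eq_or_ne i j with rfl | hij <;>
      first
        | rfl
        | (simp [sgnVec_lt, sgnVec_add, ev] at hpi
           exact absurd hpi (by assumption))
        | (simp [sgnVec_lt, sgnVec_add, ev] at hpi
           exact absurd hpi.symm (by assumption))
        | simp [sgnVec_lt, sgnVec_add, ev, hij] at hpi

/-- The position lists of signed permutations. -/
def Mono (L : List ℕ) : Prop :=
  (∀ i < 7, L.getD i 0 < 14 ∧ L.getD (i + 7) 0 = (L.getD i 0 + 7) % 14) ∧
    ∀ i < 24, 14 ≤ i → L.getD i 0 = i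

instance (L : List ℕ) : Decidable (Mono L) := by unfold Mono; infer_instance

/-- The group of signed permutations of the seven letters. -/
def monoSubmonoid : Submonoid (Equiv.Perm GolayPt) where
  carrier := {σ | Mono (toList σ)}
  one_mem' := by rw [Set.mem_ofPred_eq, toList_one]; decide +kernel
  mul_mem' := fun {σ τ} hσ hτ => by
    rw [Set.mem_ofPred_eq, toList_mul] at *
    have hget : ∀ k < 24, (compL (toList σ) (toList τ)).getD k 0 =
        (toList σ).getD ((toList τ).getD k 0) 0 := fun k hk => by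
      simp [compL, toList, hk]
    have ha : ∀ k < 14, (toList σ).getD k 0 < 14 ∧
        (toList σ).getD ((k + 7) % 14) 0 = ((toList σ).getD k 0 + 7) % 14 := by
      intro k hk
      by_cases h7 : k < 7
      · obtain ⟨e1, e2⟩ := hσ.1 k h7
        rw [Nat.mod_eq_of_lt (show k + 7 < 14 by omega)]
        exact ⟨e1, e2⟩
      · obtain ⟨e1, e2⟩ := hσ.1 (k - 7) (by omega)
        rw [show k - 7 + 7 = k by omega] at e2
        rw [show (k + 7) % 14 = k - 7 by omega, e2]
        exact ⟨Nat.mod_lt _ (by norm_num), by omega⟩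
    refine ⟨fun i hi => ?_, fun i hi hi' => ?_⟩
    · obtain ⟨e1, e2⟩ := hτ.1 i hi
      rw [hget i (by omega), hget (i + 7) (by omega), e2]
      exact ha _ e1
    · rw [hget i hi, hτ.2 i hi hi', hσ.2 i hi hi']

/-- The group of signed permutations. -/
def monoGroup : Subgroup (Equiv.Perm GolayPt) where
  toSubmonoid := monoSubmonoid
  inv_mem' := fun {σ} hσ => by
    rw [show σ⁻¹ = σ ^ (orderOf σ - 1) from inv_eq_of_mul_eq_one_right (by
      rw [← pow_succ', Nat.sub_add_cancel (orderOf_pos σ), pow_orderOf_eq_one])]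
    exact monoSubmonoid.pow_mem hσ _

theorem mem_monoGroup {σ : Equiv.Perm GolayPt} : σ ∈ monoGroup ↔ Mono (toList σ) := Iff.rfl

/-- The linear map of a position list. -/
def listMap (L : List ℕ) : (Fin 7 → F) →ₗ[F] (Fin 7 → F) where
  toFun v := ∑ i, v i • sgnVec (L.getD (i : ℕ) 0)
  map_add' v w := by simp [add_smul, Finset.sum_add_distrib]
  map_smul' c v := by simp [smul_smul, Finset.smul_sum]

theorem listMap_ev (L : List ℕ) (i : Fin 7) :
    listMap (F := F) L (ev i) = sgnVec (L.getD (i : ℕ) 0) := by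
  simp [listMap, ev, Pi.single_apply]

theorem listMap_sgnVec {L : List ℕ} (hL : Mono L) {p : ℕ} (hp : p < 14) :
    listMap (F := F) L (sgnVec p) = sgnVec (L.getD p 0) := by
  obtain ⟨i, rfl | rfl⟩ := exists_pos hp
  · rw [sgnVec_lt, listMap_ev]
  · obtain ⟨e1, e2⟩ := hL.1 i i.2
    rw [sgnVec_add, map_neg, listMap_ev, e2]
    obtain ⟨j, hj | hj⟩ := exists_pos e1
    · rw [hj, sgnVec_lt, Nat.mod_eq_of_lt (by omega), sgnVec_add]
    · rw [hj, sgnVec_add, neg_neg, show ((j : ℕ) + 7 + 7) % 14 = (j : ℕ) by omega, sgnVec_lt]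

/-- The linear map of a signed permutation. -/
def linHom : monoGroup →* ((Fin 7 → F) →ₗ[F] (Fin 7 → F)) where
  toFun σ := listMap (toList σ.1)
  map_one' := ext_ev fun i => by
    rw [listMap_ev, OneMemClass.coe_one, toList_one, Module.End.one_apply, ← sgnVec_lt]
    congr 1
    simp [List.getElem?_range (show (i : ℕ) < 24 by omega)]
  map_mul' σ τ := ext_ev fun i => by
    rw [listMap_ev, Subgroup.coe_mul, toList_mul, Module.End.mul_apply, listMap_ev,
      listMap_sgnVec σ.2 (τ.2.1 i i.2).1]
    congr 1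
    have hi : (i : ℕ) < 24 := by omega
    simp [compL, toList, hi]

theorem listMap_form {L : List ℕ} (hL : Mono L) (hinj : ∀ i < 7, ∀ j < 7,
      L.getD i 0 % 7 = L.getD j 0 % 7 → i = j) (a : F) (v : Fin 7 → F) :
    form a (listMap L v) = form a v := by
  let π : Fin 7 → Fin 7 := fun i => ⟨L.getD (i : ℕ) 0 % 7, Nat.mod_lt _ (by norm_num)⟩
  have hπ : Function.Bijective π := Finite.injective_iff_bijective.1 fun i j h =>
    Fin.ext (hinj i i.2 j j.2 (congrArg Fin.val h))
  have hsq : ∀ i, listMap L v (π i) * listMap L v (π i) = v i * v i := by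
    intro i
    have h0 : ∀ k, k ≠ i → sgnVec (F := F) (L.getD (k : ℕ) 0) (π i) = 0 := by
      intro k hk
      obtain ⟨e1, -⟩ := hL.1 k k.2
      have hne : π k ≠ π i := fun e => hk (hπ.1 e)
      have hv : L.getD (k : ℕ) 0 % 7 ≠ L.getD (i : ℕ) 0 % 7 := fun e => hne (Fin.ext e)
      show (if _ then _ else if _ then _ else _) = _
      rw [if_neg (fun e => hv (by rw [e]; simp [π])),
        if_neg (fun e => hv (by rw [e]; simp [π]))]
    have h1 : listMap L v (π i) = v i * sgnVec (L.getD (i : ℕ) 0) (π i) := by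
      show (∑ k, v k • sgnVec (L.getD (k : ℕ) 0) : Fin 7 → F) (π i) = _
      rw [Finset.sum_apply, Finset.sum_eq_single i (fun k _ hk => by rw [Pi.smul_apply, h0 k hk, smul_zero])
        (by simp)]
      rfl
    obtain ⟨e1, -⟩ := hL.1 i i.2
    obtain ⟨j, hj | hj⟩ := exists_pos e1
    · have hij : π i = j := Fin.ext (by show L.getD (i : ℕ) 0 % 7 = j; omega)
      rw [h1, hij, hj, sgnVec_lt]
      simp [ev]
    · have hij : π i = j := Fin.ext (by show L.getD (i : ℕ) 0 % 7 = j; omega)
      rw [h1, hij, hj, sgnVec_add]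
      simp [ev]
  rw [form_apply, form_apply]
  congr 1
  rw [← (Equiv.ofBijective π hπ).sum_comp]
  exact Finset.sum_congr rfl fun i _ => hsq i

theorem mod_injective {σ : Equiv.Perm GolayPt} (hσ : σ ∈ monoGroup) : ∀ i < 7, ∀ j < 7,
    (toList σ).getD i 0 % 7 = (toList σ).getD j 0 % 7 → i = j := by
  intro i hi j hj h
  obtain ⟨a1, a2⟩ := hσ.1 i hi
  obtain ⟨b1, -⟩ := hσ.1 j hj
  have hinj : ∀ p < 24, ∀ q < 24, (toList σ).getD p 0 = (toList σ).getD q 0 → p = q := by
    intro p hp q hq e
    rw [toList_getD _ hp, toList_getD _ hq] at e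
    have e' := congrArg idx (σ.injective (idx_injective e))
    rwa [idx_pt p hp, idx_pt q hq] at e'
  by_cases e : (toList σ).getD i 0 = (toList σ).getD j 0
  · exact hinj i (by omega) j (by omega) e
  · have := hinj (i + 7) (by omega) j (by omega) (by rw [a2]; omega)
    omega

/-- The isometry of a signed permutation. -/
def monoHom (a : F) : monoGroup →* oGroup (form a) where
  toFun σ := ⟨LinearEquiv.ofLinearMap (linHom σ) (linHom σ⁻¹)
      (by rw [← Module.End.mul_eq_comp, ← map_mul, mul_inv_cancel, map_one]; rfl)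
      (by rw [← Module.End.mul_eq_comp, ← map_mul, inv_mul_cancel, map_one]; rfl),
    fun v => listMap_form σ.2 (mod_injective σ.2) a v⟩
  map_one' := Subtype.ext (LinearEquiv.toLinearMap_injective (map_one (linHom (F := F))))
  map_mul' σ τ := Subtype.ext (LinearEquiv.toLinearMap_injective (map_mul (linHom (F := F)) σ τ))

theorem monoHom_apply (a : F) (σ : monoGroup) (i : Fin 7) :
    (monoHom a σ).1 (ev i) = sgnVec ((toList σ.1).getD (i : ℕ) 0) :=
  listMap_ev _ i

theorem monoHom_injective (a : F) (h2 : (2 : F) ≠ 0) : Function.Injective (monoHom (F := F) a) := by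
  refine (injective_iff_map_eq_one _).2 fun σ hσ => Subtype.ext (toList_injective' ?_)
  have h : ∀ i < 7, (toList σ.1).getD i 0 = i := by
    intro i hi
    have h1 := monoHom_apply a σ ⟨i, hi⟩
    rw [hσ] at h1
    refine (sgnVec_injective h2 (σ.2.1 i hi).1 (show i < 14 by omega) (h1.symm.trans ?_))
    exact (sgnVec_lt (F := F) ⟨i, hi⟩).symm
  intro k hk
  rcases lt_or_ge k 7 with h7 | h7
  · exact h k h7
  rcases lt_or_ge k 14 with h14 | h14
  · have := (σ.2.1 (k - 7) (by omega)).2
    rw [h (k - 7) (by omega), show k - 7 + 7 = k by omega, Nat.mod_eq_of_lt h14] at this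
    exact this
  · exact σ.2.2 k hk h14
where
  toList_injective' {σ : Equiv.Perm GolayPt} (h : ∀ k < 24, (toList σ).getD k 0 = k) : σ = 1 := by
    refine Equiv.ext fun q => idx_injective ?_
    rw [← toList_getD_idx σ q, h _ (idx_lt q)]
    rfl

end CfsgLib.Quad.Seven
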