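import Cfsg.Agent.Quad.SevenPerm
import Cfsg.Agent.Fusion.SimpleCriterion

/-!
The 2-fusion system of the commutator subgroup of the isometry group of seven squares, when that
subgroup has 2-part 512.
-/

set_option autoImplicit false
set_option maxRecDepth 10000
set_option maxHeartbeats 1600000
set_option linter.style.haveILetI false

namespace CfsgLib.Quad.Seven

open QuadraticMap CfsgLib.Forms CfsgLib.Golay CfsgLib.Golay.SylowCert
open Cfsg (GolayPt groupFusionSystem)

variable {F : Type*} [Field F] {a : F}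

theorem refl_add_ev (ha : a ≠ 0) (h2 : (2 : F) ≠ 0) {i j : Fin 7} (hij : i ≠ j) (m : Fin 7) :
    (refl (form a) (ev i + ev j)).1 (ev m) =
      if m = i then -ev j else if m = j then -ev i else ev m := by
  have hq : form a (ev i + ev j) = 2 * a := by
    rw [quad_add, form_ev, form_ev, polar_ev, if_neg hij]; ring
  have hu : a⁻¹ * 2⁻¹ * (2 * a) = 1 := by field_simp
  rw [refl_apply, hq, polar_add_right, polar_ev, polar_ev]
  by_cases hmi : m = i
  · subst hmi
    simp [hij, hu]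
  by_cases hmj : m = j
  · subst hmj
    simp [hmi, hu]
  simp [hmi, hmj]

theorem form_smul_ev (c : F) (i : Fin 7) : form a (c • ev i) = c * c * a := by
  rw [quad_smul, form_ev]

/-- The signed permutation of a list as an element of the monomial group. -/
def mk (L : List ℕ) (h : Good L ∧ L.length = 24 ∧ Mono L) : monoGroup :=
  ⟨permL L, by rw [mem_monoGroup, toList_permL h.1 h.2.1]; exact h.2.2⟩

theorem monoHom_mk (L : List ℕ) (h : Good L ∧ L.length = 24 ∧ Mono L) (m : Fin 7) :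
    (monoHom a (mk L h)).1 (ev m) = sgnVec (F := F) (L.getD (m : ℕ) 0) := by
  rw [monoHom_apply]
  show sgnVec ((toList (permL L)).getD (m : ℕ) 0) = _
  rw [toList_permL h.1 h.2.1]

theorem basics_ok : ∀ b ∈ basics, Good b.1 ∧ b.1.length = 24 ∧ Mono b.1 := by decide +kernel

theorem pc_ok : ∀ g ∈ pc, Good g ∧ g.length = 24 ∧ Mono g := by decide +kernel

theorem basic_mem (ha : a ≠ 0) (h2 : (2 : F) ≠ 0) [Finite F] (b) (hb : b ∈ basics) :
    monoHom a (mk b.1 (basics_ok b hb)) ∈ commutator (oGroup (form a)) := by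
  obtain ⟨L, i, j, k, l⟩ := b
  have hspec : ∀ b ∈ basics, b.2.1 < 7 ∧ b.2.2.1 < 7 ∧ b.2.2.2.1 < 7 ∧ b.2.2.2.2 < 7 ∧
      b.2.1 ≠ b.2.2.1 ∧ b.2.2.2.1 ≠ b.2.2.2.2 ∧ ∀ m : Fin 7, b.1.getD (m : ℕ) 0 =
        (Equiv.swap b.2.1 b.2.2.1 (Equiv.swap b.2.2.2.1 b.2.2.2.2 (m : ℕ))) := by decide +kernel
  obtain ⟨hi, hj, hk, hl, hij, hkl, hL⟩ := hspec _ hb
  have hne1 : (⟨i, hi⟩ : Fin 7) ≠ ⟨j, hj⟩ := fun e => hij (congrArg Fin.val e)
  have hne2 : (⟨k, hk⟩ : Fin 7) ≠ ⟨l, hl⟩ := fun e => hkl (congrArg Fin.val e)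
  have hQ : (polarBilin (form a)).Nondegenerate := nondeg ha h2
  have hval : ∀ {u v : Fin 7}, u ≠ v → form a (ev u - ev v) = 2 * a := fun {u v} huv => by
    rw [sub_eq_add_neg, ← neg_one_smul F (ev v), quad_add, quad_smul, polar_smul_right, form_ev,
      form_ev, polar_ev, if_neg huv]
    ring
  rw [show monoHom a (mk L (basics_ok _ hb)) =
    refl (form a) (ev ⟨i, hi⟩ - ev ⟨j, hj⟩) * refl (form a) (ev ⟨k, hk⟩ - ev ⟨l, hl⟩) from
      oGroup_ext fun m => ?_]
  · exact refl_pair_mem_commutator hQ (by rw [hval hne1]; exact mul_ne_zero h2 ha)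
      (by rw [hval hne2]; exact mul_ne_zero h2 ha) ⟨2 * a, by rw [hval hne1, hval hne2]⟩
  · rw [monoHom_mk]
    change _ = (refl (form a) _).1 ((refl (form a) _).1 (ev m))
    rw [refl_sub_ev ha h2 hne2, refl_sub_ev ha h2 hne1, ← sgnVec_lt, hL m]
    congr 1
    simp only [Equiv.swap_apply_def, Fin.ext_iff, apply_ite Fin.val]
where
  nondeg {F : Type _} [Field F] {a : F} (ha : a ≠ 0) (h2 : (2 : F) ≠ 0) :
      (polarBilin (form a)).Nondegenerate := by
    have h : ∀ v : Fin 7 → F, (∀ w, polar (form a) v w = 0) → v = 0 := fun v hv => funext fun i => by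
      have := hv (ev i)
      rw [polar_form] at this
      simpa [ev, Pi.single_apply, mul_ne_zero h2 ha] using this
    exact ⟨fun v hv => h v hv, fun v hv => h v fun w => (polar_comm ..).trans (hv w)⟩

theorem sign_mem (ha : a ≠ 0) (h2 : (2 : F) ≠ 0) [Finite F] {g : List ℕ} (hg : g ∈ pc.take 6) :
    monoHom a (mk g (pc_ok g (List.mem_of_mem_take hg))) ∈ commutator (oGroup (form a)) := by
  have hspec : ∀ g ∈ pc.take 6, ∃ i : Fin 7, ∃ j : Fin 7, i ≠ j ∧ ∀ m : Fin 7,
      g.getD (m : ℕ) 0 = if m = i ∨ m = j then (m : ℕ) + 7 else (m : ℕ) := by decide +kernel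
  obtain ⟨i, j, hij, hL⟩ := hspec g hg
  rw [show monoHom a (mk g (pc_ok g (List.mem_of_mem_take hg))) =
      refl (form a) (ev i) * refl (form a) (ev j) from oGroup_ext fun m => ?_]
  · exact refl_pair_mem_commutator (basic_mem.nondeg ha h2) (by rw [form_ev]; exact ha)
      (by rw [form_ev]; exact ha) ⟨a, by rw [form_ev, form_ev]⟩
  · rw [monoHom_mk, hL m]
    change _ = (refl (form a) _).1 ((refl (form a) _).1 (ev m))
    rw [refl_ev ha j m]
    by_cases hmj : m = j
    · subst hmj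
      rw [if_pos rfl, if_pos (Or.inr rfl), map_neg, refl_ev ha, if_neg (Ne.symm hij), sgnVec_add]
    · rw [if_neg hmj, refl_ev ha]
      by_cases hmi : m = i
      · rw [if_pos hmi, if_pos (Or.inl hmi), sgnVec_add]
      · rw [if_neg hmi, if_neg (by simp [hmi, hmj]), sgnVec_lt]

theorem fused_ok : Good fusedPair ∧ fusedPair.length = 24 ∧ Mono fusedPair := by decide +kernel

theorem pair_ok : Good pairZero ∧ pairZero.length = 24 ∧ Mono pairZero := by decide +kernel

/-- The conjugation outside the monomial group. -/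
theorem exists_fusion (ha : a ≠ 0) (h2 : (2 : F) ≠ 0) [Finite F] :
    ∃ h ∈ commutator (oGroup (form a)),
      h * monoHom a (mk pairZero pair_ok) * h⁻¹ = monoHom a (mk fusedPair fused_ok) := by
  set v : Fin 7 → F := ev 0 + ev 1 + ev 2 + ev 3 with hv
  have hQv : form a v = 4 * a := by
    simp [hv, quad_add, polar_add_left, form_ev, polar_ev]; ring
  have h4 : (4 : F) ≠ 0 := by
    rw [show (4 : F) = 2 * 2 by norm_num]; exact mul_ne_zero h2 h2
  refine ⟨refl (form a) v * refl (form a) (ev 4), refl_pair_mem_commutator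
    (basic_mem.nondeg ha h2) (by rw [hQv]; exact mul_ne_zero h4 ha) (by rw [form_ev]; exact ha)
    ⟨2 * a, by rw [hQv, form_ev]; ring⟩, ?_⟩
  set h := refl (form a) v * refl (form a) (ev 4) with hh
  have hD : monoHom a (mk pairZero pair_ok) = refl (form a) (ev 0) * refl (form a) (ev 1) := by
    refine oGroup_ext fun m => ?_
    rw [monoHom_mk]
    change _ = (refl (form a) _).1 ((refl (form a) _).1 (ev m))
    fin_cases m <;> simp [pairZero, refl_ev ha] <;> funext j <;> fin_cases j <;>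
      simp [sgnVec, ev]
  set u : Fin 7 → F := ev 0 - ev 1 with hu
  set w : Fin 7 → F := ev 2 + ev 3 with hw
  have hQu : form a u = 2 * a := by
    rw [hu, sub_eq_add_neg, ← neg_one_smul F (ev (1 : Fin 7))]
    simp [quad_add, quad_smul, polar_smul_right, form_ev, polar_ev]; ring
  have hQw : form a w = 2 * a := by simp [hw, quad_add, form_ev, polar_ev]; ring
  have huw : polar (form a) u w = 0 := by
    simp [hu, hw, sub_eq_add_neg, polar_add_left, polar_add_right, polar_ev]
  have hX : monoHom a (mk fusedPair fused_ok) = refl (form a) u * refl (form a) w := by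
    refine oGroup_ext fun m => ?_
    rw [monoHom_mk]
    change _ = (refl (form a) _).1 ((refl (form a) _).1 (ev m))
    rw [hu, hw, refl_add_ev ha h2 (by decide)]
    fin_cases m <;>
      simp [fusedPair, refl_sub_ev ha h2 (show (0 : Fin 7) ≠ 1 by decide), map_neg,
        Equiv.swap_apply_def] <;>
      funext j <;> fin_cases j <;> simp [sgnVec, ev]
  have hh0 : h.1 (ev 0) = (2⁻¹ : F) • (u - w) := by
    change (refl (form a) v).1 ((refl (form a) (ev 4)).1 (ev 0)) = _
    rw [refl_ev ha, if_neg (by decide), refl_apply, hQv]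
    simp [hv, hu, hw, polar_add_right, polar_ev, form_ev]
    match_scalars <;> field_simp <;> ring
  have hh1 : h.1 (ev 1) = (-2⁻¹ : F) • (u + w) := by
    change (refl (form a) v).1 ((refl (form a) (ev 4)).1 (ev 1)) = _
    rw [refl_ev ha, if_neg (by decide), refl_apply, hQv]
    simp [hv, hu, hw, polar_add_right, polar_ev, form_ev]
    match_scalars <;> field_simp <;> ring
  rw [hD, hX, show h * (refl (form a) (ev 0) * refl (form a) (ev 1)) * h⁻¹ =
      (h * refl (form a) (ev 0) * h⁻¹) * (h * refl (form a) (ev 1) * h⁻¹) by group,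
    refl_conj, refl_conj, hh0, hh1, refl_smul (inv_ne_zero h2),
    refl_smul (neg_ne_zero.2 (inv_ne_zero h2))]
  have key := refl_add_sub (Q := form a) h2 (u := u) (w := -w)
    (by rw [QuadraticMap.map_neg, hQw, hQu]) (by rw [← neg_one_smul F w, polar_smul_right, huw]; simp)
    (by rw [hQu]; exact mul_ne_zero h2 ha)
  rw [← sub_eq_add_neg, sub_neg_eq_add] at key
  rw [key, ← neg_one_smul F w, refl_smul (neg_ne_zero.2 one_ne_zero)]

/-! ### The normalizer -/

theorem exists_sign {p : ℕ} (hp : p < 14) :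
    ∃ c : F, (c = 1 ∨ c = -1) ∧ sgnVec p = c • (ev ⟨p % 7, Nat.mod_lt _ (by norm_num)⟩ : Fin 7 → F) := by
  obtain ⟨i, rfl | rfl⟩ := exists_pos hp
  · refine ⟨1, Or.inl rfl, ?_⟩
    rw [sgnVec_lt, one_smul]
    congr 1
    exact Fin.ext (Nat.mod_eq_of_lt i.2).symm
  · refine ⟨-1, Or.inr rfl, ?_⟩
    rw [sgnVec_add, neg_one_smul]
    congr 2
    exact Fin.ext (show (i : ℕ) = ((i : ℕ) + 7) % 7 by omega)

theorem index_of_smul {c d : F} (hc : c ≠ 0) {i j : Fin 7} (h : c • (ev i : Fin 7 → F) = d • ev j) : i = j := by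
  by_contra hne
  have := congrFun h i
  simp [ev, hne] at this
  exact hc this

theorem mono_mem {σ : Equiv.Perm GolayPt} (hσ : σ ∈ sylGroup) : σ ∈ monoGroup := syl_le_mono hσ

/-- An element of odd prime-power order normalizing the image of the group is trivial. -/
theorem eq_one_of_normalizes [Finite F] (ha : a ≠ 0) (h2 : (2 : F) ≠ 0) (N : oGroup (form a))
    (hnorm : ∀ σ : monoGroup, σ.1 ∈ sylGroup →
      ∃ τ : monoGroup, τ.1 ∈ sylGroup ∧ monoHom a τ = N * monoHom a σ * N⁻¹)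
    {q k : ℕ} (hq : q.Prime) (hq2 : q ≠ 2) (hord : orderOf N = q ^ k) : N = 1 := by
  set φ := monoHom (F := F) a with hφ
  have hinj : Function.Injective φ := monoHom_injective a h2
  -- the diagonal part is normalized
  set DB := diagGroup.subgroupOf monoGroup with hDB
  set K := (DB.map φ).map (MulAut.conj N).toMonoidHom with hK
  set A := (K.comap φ).map monoGroup.subtype with hA
  have hKle : K ≤ φ.range := by
    rintro _ ⟨_, ⟨σ, hσ, rfl⟩, rfl⟩
    obtain ⟨τ, -, hτ⟩ := hnorm σ (diag_le_syl hσ)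
    exact ⟨τ, hτ⟩
  have hAeq : A = diagGroup := by
    refine eq_diag ?_ ?_ ?_
    · rintro _ ⟨σ, hσ, rfl⟩
      obtain ⟨_, ⟨ρ, hρ, rfl⟩, hρσ⟩ := hσ
      obtain ⟨τ, hτs, hτ⟩ := hnorm ρ (diag_le_syl hρ)
      rwa [hinj (hτ.trans hρσ)] at hτs
    · rintro _ ⟨σ, hσ, rfl⟩
      obtain ⟨_, ⟨ρ, hρ, rfl⟩, hρσ⟩ := hσ
      have hρ2 : ρ * ρ = 1 := by
        have hsq : ∀ L ∈ els pc 6, compL L L = List.range 24 := by decide +kernel
        refine Subtype.ext (toList_injective ?_)
        rw [Subgroup.coe_mul, toList_mul, OneMemClass.coe_one, toList_one]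
        exact hsq _ ((mem_diag _).1 hρ)
      refine congrArg Subtype.val (hinj (a₁ := σ * σ) (a₂ := 1) ?_)
      rw [map_mul, ← hρσ, map_one]
      simp only [MulEquiv.coe_toMonoidHom, ← map_mul, hρ2, map_one]
    · rw [hA, Subgroup.card_map_of_injective monoGroup.subtype_injective,
        ← Subgroup.card_map_of_injective hinj, Subgroup.map_comap_eq_self hKle, hK,
        Subgroup.card_map_of_injective (MulAut.conj N).injective,
        Subgroup.card_map_of_injective hinj, hDB,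
        Nat.card_congr (Subgroup.subgroupOfEquivOfLe (diag_le_syl.trans syl_le_mono)).toEquiv,
        card_diag]
  have hdiag : ∀ L ∈ els pc 6, ∃ ρ : monoGroup, toList ρ.1 = L ∧
      ∃ e : monoGroup, e.1 ∈ diagGroup ∧ φ ρ = N * φ e * N⁻¹ := by
    intro L hL
    obtain ⟨σ, hσ, rfl⟩ := exists_of_mem_els pcOK 6 (by decide) L hL
    replace hσ := hAeq.ge hσ
    obtain ⟨ρ, ⟨_, ⟨e, he, rfl⟩, heq⟩, rfl⟩ := hσ
    exact ⟨ρ, rfl, e, he, heq.symm⟩
  -- the frame lines are permuted
  have hline : ∀ i : Fin 7, ∃ p < 14, N.1 (ev i) = sgnVec p := by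
    intro i
    set v := N.1 (ev i) with hv
    have hsign : ∀ j l : Fin 7, j ≠ l → ∃ c : F, (c = 1 ∨ c = -1) ∧
        ∀ m, (if m = j ∨ m = l then -v m else v m) = c * v m := by
      intro j l hjl
      have hpair : ∀ j l : Fin 7, j ≠ l → ∃ L ∈ els pc 6, ∀ m : Fin 7,
          L.getD (m : ℕ) 0 = if m = j ∨ m = l then (m : ℕ) + 7 else (m : ℕ) := by decide +kernel
      obtain ⟨L, hL, hLm⟩ := hpair j l hjl
      obtain ⟨ρ, rfl, e, he, heq⟩ := hdiag L hL
      have hd : ∀ L ∈ els pc 6, ∀ m : Fin 7,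
          L.getD (m : ℕ) 0 = (m : ℕ) ∨ L.getD (m : ℕ) 0 = (m : ℕ) + 7 := by decide +kernel
      obtain ⟨c, hc, he'⟩ : ∃ c : F, (c = 1 ∨ c = -1) ∧ (φ e).1 (ev i) = c • ev i := by
        rcases hd _ ((mem_diag _).1 he) i with h | h
        · exact ⟨1, Or.inl rfl, by rw [monoHom_apply, h, sgnVec_lt, one_smul]⟩
        · exact ⟨-1, Or.inr rfl, by rw [monoHom_apply, h, sgnVec_add, neg_one_smul]⟩
      refine ⟨c, hc, fun m => ?_⟩
      have h1 : (φ ρ).1 v = c • v := by
        rw [heq, hv]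
        show N.1 ((φ e).1 ((N⁻¹).1 (N.1 (ev i)))) = _
        rw [show (N⁻¹).1 (N.1 (ev i)) = ev i from N.1.symm_apply_apply _, he', map_smul]
      have h3 : (φ ρ).1 v = fun m => if m = j ∨ m = l then -v m else v m := by
        conv_lhs => rw [← sum_ev v, map_sum]
        funext x
        rw [Finset.sum_apply, Finset.sum_eq_single x]
        · rw [map_smul, monoHom_apply, hLm x]
          split_ifs
          · simp [sgnVec_add, ev]
          · simp [sgnVec_lt, ev]
        · intro y _ hy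
          rw [map_smul, monoHom_apply, hLm y]
          split_ifs
          · simp [sgnVec_add, ev, hy.symm]
          · simp [sgnVec_lt, ev, hy.symm]
        · simp
      have := congrFun (h3.symm.trans h1) m
      simpa using this
    obtain ⟨j, hj⟩ : ∃ j, v j ≠ 0 := Function.ne_iff.1 fun h0 => by
      have := congrFun (N.1.injective (h0.trans (map_zero N.1).symm)) i
      simp [ev] at this
    have hother : ∀ m, m ≠ j → v m = 0 := by
      intro m hm
      by_contra hvm
      obtain ⟨l, hlj, hlm⟩ : ∃ l : Fin 7, l ≠ j ∧ l ≠ m := by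
        have : ∀ j m : Fin 7, ∃ l : Fin 7, l ≠ j ∧ l ≠ m := by decide
        exact this j m
      obtain ⟨c, -, hc⟩ := hsign j l (Ne.symm hlj)
      have h1 := hc j
      have h3 := hc m
      rw [if_pos (Or.inl rfl)] at h1
      rw [if_neg (by simp [hm, Ne.symm hlm])] at h3
      have hc1 : c = 1 := by
        have := mul_right_cancel₀ hvm (h3.symm.trans (one_mul (v m)).symm)
        exact this
      rw [hc1, one_mul] at h1
      exact hj ((mul_eq_zero.1 (show (2 : F) * v j = 0 by linear_combination -h1)).resolve_left h2)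
    have hveq : v = v j • ev j := by
      funext m
      by_cases hm : m = j
      · subst hm; simp [ev]
      · simp [ev, hm, hother m hm]
    have hval : v j * v j * a = a := by
      rw [← form_smul_ev (a := a) (v j) j, ← hveq, hv, N.2, form_ev]
    have hsq : v j * v j = 1 := mul_right_cancel₀ ha (by rw [hval, one_mul])
    rcases mul_self_eq_one_iff.1 hsq with h | h
    · exact ⟨(j : ℕ), by omega, by rw [hveq, h, one_smul, sgnVec_lt]⟩
    · exact ⟨(j : ℕ) + 7, by omega, by rw [hveq, h, neg_one_smul, sgnVec_add]⟩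
  choose f hf hNf using hline
  set g : ℕ → ℕ := fun i => if h : i < 7 then f ⟨i, h⟩ % 7 else 0 with hg
  have hg7 : ∀ i < 7, g i < 7 := fun i hi => by
    simp only [hg, dif_pos hi]
    exact Nat.mod_lt _ (by norm_num)
  have hgv : ∀ i : Fin 7, ∃ c : F, (c = 1 ∨ c = -1) ∧
      N.1 (ev i) = c • ev ⟨g i, hg7 i i.2⟩ := fun i => by
    obtain ⟨c, hc, he⟩ := exists_sign (F := F) (hf i)
    refine ⟨c, hc, ?_⟩
    rw [hNf, he]
    congr 2
    exact Fin.ext (by simp [hg])
  have hpm : ∀ c : F, (c = 1 ∨ c = -1) → c ≠ 0 := fun c hc => by rcases hc with rfl | rfl <;> simp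
  have hginj : ∀ i < 7, ∀ j < 7, g i = g j → i = j := by
    intro i hi j hj hij
    obtain ⟨c, hc, h1⟩ := hgv ⟨i, hi⟩
    obtain ⟨d, hd, h3⟩ := hgv ⟨j, hj⟩
    have hee : (⟨g i, hg7 i hi⟩ : Fin 7) = ⟨g j, hg7 j hj⟩ := Fin.ext hij
    refine congrArg Fin.val (index_of_smul (hpm d hd) (d := c) (N.1.injective ?_) :
      (⟨i, hi⟩ : Fin 7) = ⟨j, hj⟩)
    rw [map_smul, map_smul, h1, h3, smul_smul, smul_smul, hee, mul_comm]
  set s : List ℕ := (List.range 7).map g with hs
  have hsget : ∀ i < 7, s.getD i 0 = g i := fun i hi => by simp [hs, hi]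
  have hcond : ∀ x ∈ pc.drop 6, ∃ p ∈ projs, ∀ i < 7,
      s.getD (x.getD i 0 % 7) 0 = p.getD (s.getD i 0) 0 := by
    intro x hx
    have hxpc := List.mem_of_mem_drop hx
    have hxs : (mk x (pc_ok x hxpc)).1 ∈ sylGroup := pcGroup_permL_mem pcOK hxpc
    obtain ⟨τ, hτs, hτ⟩ := hnorm _ hxs
    refine ⟨_, proj_mem _ ((mem_syl _).1 hτs), fun i hi => ?_⟩
    have hx7 : x.getD i 0 % 7 < 7 := Nat.mod_lt _ (by norm_num)
    rw [hsget i hi, hsget _ hx7]
    simp only [List.getD_eq_getElem?_getD, List.getElem?_map, List.getElem?_range (hg7 i hi),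
      Option.map_some, Option.getD_some]
    rw [← List.getD_eq_getElem?_getD, ← List.getD_eq_getElem?_getD]
    obtain ⟨c, hc, h1⟩ := exists_sign (F := F) ((pc_ok x hxpc).2.2.1 i hi).1
    obtain ⟨d, hd, h3⟩ := hgv ⟨x.getD i 0 % 7, hx7⟩
    obtain ⟨c', hc', h4⟩ := hgv ⟨i, hi⟩
    obtain ⟨d', hd', h5⟩ := exists_sign (F := F) (τ.2.1 (g i) (hg7 i hi)).1
    have key : (c * d) • ev (F := F) (⟨g (x.getD i 0 % 7), hg7 _ hx7⟩ : Fin 7) = (c' * d') •
        ev (F := F) (⟨(toList τ.1).getD (g i) 0 % 7, Nat.mod_lt _ (by norm_num)⟩ : Fin 7) := by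
      calc (c * d) • ev (F := F) (⟨g (x.getD i 0 % 7), hg7 _ hx7⟩ : Fin 7)
          = N.1 ((φ (mk x (pc_ok x hxpc))).1 (ev ⟨i, hi⟩)) := by
            rw [monoHom_mk, h1, map_smul, h3, smul_smul]
        _ = (φ τ).1 (N.1 (ev ⟨i, hi⟩)) := by
            rw [hτ]
            show _ = N.1 ((φ _).1 ((N⁻¹).1 (N.1 _)))
            rw [show (N⁻¹).1 (N.1 (ev ⟨i, hi⟩)) = ev ⟨i, hi⟩ from N.1.symm_apply_apply _]
        _ = _ := by rw [h4, map_smul, monoHom_apply, h5, smul_smul]
    exact congrArg Fin.val (index_of_smul (mul_ne_zero (hpm c hc) (hpm d hd)) key)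
  have h8 := self_normalizing s (by
    have := mem_injLists hg7 hginj 7 le_rfl
    rwa [hs]) hcond
  have hiter : ∀ (j : ℕ) (i : Fin 7), ∃ c : F, ∃ hlt : (fun x => s.getD x 0)^[j] i < 7,
      (c = 1 ∨ c = -1) ∧ (N ^ j).1 (ev i) = c • ev ⟨_, hlt⟩ := by
    intro j
    induction j with
    | zero =>
      intro i
      refine ⟨1, i.2, Or.inl rfl, ?_⟩
      rw [one_smul]
      rfl
    | succ j ih =>
      intro i
      obtain ⟨c, hlt, hc, he⟩ := ih i
      obtain ⟨d, hd, hde⟩ := hgv ⟨_, hlt⟩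
      have heq : (fun x => s.getD x 0)^[j + 1] i = g ((fun x => s.getD x 0)^[j] i) := by
        rw [Function.iterate_succ_apply', hsget _ hlt]
      refine ⟨c * d, heq ▸ hg7 _ hlt, ?_, ?_⟩
      · rcases hc with rfl | rfl <;> rcases hd with rfl | rfl <;> simp
      · rw [pow_succ']
        show N.1 ((N ^ j).1 (ev i)) = _
        rw [he, map_smul, hde, smul_smul]
        congr 2
        exact Fin.ext heq.symm
  have h16 : N ^ (2 ^ 4) = 1 := oGroup_ext fun i => by
    obtain ⟨c, hlt, hc, he⟩ := hiter 8 i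
    have hi : (⟨_, hlt⟩ : Fin 7) = i := Fin.ext (h8 i i.2)
    rw [hi] at he
    rw [show (2 : ℕ) ^ 4 = 8 + 8 by norm_num, pow_add]
    show (N ^ 8).1 ((N ^ 8).1 (ev i)) = ev i
    rw [he, map_smul, he, smul_smul]
    rcases hc with rfl | rfl <;> simp
  refine orderOf_eq_one_iff.1 (hord.trans (Nat.eq_one_of_dvd_coprimes
    (Nat.Coprime.pow k 4 ((Nat.coprime_primes hq Nat.prime_two).2 hq2)) dvd_rfl ?_))
  rw [← hord]
  exact orderOf_dvd_of_pow_eq_one h16

/-! ### The fusion system -/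

theorem central_spec : ∀ x ∈ els pc 9, (∀ y ∈ pc, compL x y = compL y x) →
    x = List.range 24 ∨ ∃ i < 3, x = centrals.getD i [] := by decide +kernel

theorem central_steps : ∀ i < 3,
    pairZero ∈ derived [centrals.getD i []] (centralSteps.getD i []) ∧
    (∀ L ∈ derived [centrals.getD i []] (centralSteps.getD i []), L ∈ els pc 9) ∧
    ∀ s ∈ centralSteps.getD i [], s.1 = true → s.2.1 ∈ basics.map Prod.fst := by decide +kernel

theorem main_steps :
    (∀ g ∈ pc, g ∈ derived [pairZero, fusedPair] mainSteps) ∧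
    (∀ L ∈ derived [pairZero, fusedPair] mainSteps, L ∈ els pc 9) ∧
    ∀ s ∈ mainSteps, s.1 = true → s.2.1 ∈ basics.map Prod.fst := by decide +kernel

theorem pc_split : ∀ g ∈ pc, g ∈ pc.take 6 ∨ g ∈ basics.map Prod.fst := by decide +kernel

theorem pairs_mem : pairZero ∈ els pc 9 ∧ fusedPair ∈ els pc 9 := by decide +kernel

theorem core [Finite F] (ha : a ≠ 0) (h2 : (2 : F) ≠ 0) {G : Type*} [Group G] [Finite G]
    (e : G ≃* commutator (oGroup (form a))) (hcard : (Nat.card G).factorization 2 = 9)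
    (S : Sylow 2 G) :
    (groupFusionSystem (S : Subgroup G)).autGroup (S : Subgroup G) =
        Cfsg.Inn ↥(S : Subgroup G) ∧
    (∀ T : Subgroup G, (groupFusionSystem (S : Subgroup G)).StronglyClosed T →
      T = ⊥ ∨ T = (S : Subgroup G)) ∧
    (groupFusionSystem (S : Subgroup G)).IsSimple 2 := by
  haveI : Fact (Nat.Prime 2) := ⟨Nat.prime_two⟩
  set φ := monoHom (F := F) a with hφ
  set C := commutator (oGroup (form a)) with hC
  have hinj : Function.Injective φ := monoHom_injective a h2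
  let j : G →* oGroup (form a) := C.subtype.comp e.toMonoidHom
  have hj : Function.Injective j := C.subtype_injective.comp e.injective
  have hrange : ∀ x ∈ C, ∃ r : G, j r = x := fun x hx =>
    ⟨e.symm ⟨x, hx⟩, congrArg Subtype.val (e.apply_symm_apply _)⟩
  set H := (C.comap φ).map monoGroup.subtype with hH
  have hbasic : ∀ L ∈ basics.map Prod.fst, permL L ∈ H := fun L hL => by
    obtain ⟨b, hb, rfl⟩ := List.mem_map.1 hL
    exact ⟨_, basic_mem ha h2 b hb, rfl⟩
  have hsyl : sylGroup ≤ H := by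
    refine pcGroup_le pcOK fun g hg => ?_
    rcases pc_split g hg with h | h
    · exact ⟨_, sign_mem ha h2 h, rfl⟩
    · exact hbasic g h
  set P0 := ((sylGroup.subgroupOf monoGroup).map φ).comap j with hP0
  have himg : (sylGroup.subgroupOf monoGroup).map φ ≤ j.range := by
    rintro _ ⟨σ, hσ, rfl⟩
    obtain ⟨σ', hσ', he⟩ := hsyl hσ
    obtain rfl : σ' = σ := monoGroup.subtype_injective he
    exact hrange _ hσ'
  have hc : Nat.card P0 = 2 ^ (Nat.card G).factorization 2 := by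
    rw [← Subgroup.card_map_of_injective hj, hP0, Subgroup.map_comap_eq_self himg,
      Subgroup.card_map_of_injective hinj,
      Nat.card_congr (Subgroup.subgroupOfEquivOfLe syl_le_mono).toEquiv, card_syl, hcard]
    norm_num
  let P : Sylow 2 G := Sylow.ofCard P0 hc
  have hP : (P : Subgroup G) = P0 := Sylow.coe_ofCard ..
  have hmemP : ∀ g, g ∈ (P : Subgroup G) ↔
      ∃ σ : monoGroup, σ.1 ∈ sylGroup ∧ φ σ = j g := fun g => by
    rw [hP]; exact Iff.rfl
  have hgen : ∀ x ∈ (P : Subgroup G), (∀ y ∈ (P : Subgroup G), x * y = y * x) → x ≠ 1 →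
      ∀ T : Subgroup G, x ∈ T →
        (∀ t ∈ T, ∀ g : G, g * t * g⁻¹ ∈ (P : Subgroup G) → g * t * g⁻¹ ∈ T) →
        (P : Subgroup G) ≤ T := by
    intro x hx hcomm hx1 T hxT hcl
    obtain ⟨σ, hσ, hσx⟩ := (hmemP x).1 hx
    have hcen : ∀ y ∈ pc, compL (toList σ.1) y = compL y (toList σ.1) := fun y hy => by
      obtain ⟨g1, g2⟩ := pcOK.1 y hy
      have hys : permL y ∈ sylGroup := pcGroup_permL_mem pcOK hy
      obtain ⟨r, hr⟩ := himg ⟨⟨permL y, syl_le_mono hys⟩, hys, rfl⟩
      have h1 := congrArg j (hcomm r ((hmemP r).2 ⟨_, hys, hr.symm⟩))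
      rw [map_mul, map_mul, ← hσx, hr, ← map_mul, ← map_mul] at h1
      have h3 := congrArg (fun u : monoGroup => toList u.1) (hinj h1)
      simpa [toList_mul, toList_permL g1 g2] using h3
    obtain ⟨i, hi, hxi⟩ := (central_spec _ ((mem_syl _).1 hσ) hcen).resolve_left fun h0 => hx1
      (hj (by rw [← hσx, show σ = 1 from Subtype.ext (toList_injective (h0.trans toList_one.symm)),
        map_one, map_one]))
    set T' := ((T.map j).comap φ).map monoGroup.subtype with hT'
    have hclose : ∀ y ∈ T', y ∈ sylGroup → ∀ g ∈ H, g * y * g⁻¹ ∈ sylGroup →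
        g * y * g⁻¹ ∈ T' := by
      rintro _ ⟨u, ⟨t, ht, htu⟩, rfl⟩ - _ ⟨v, hv, rfl⟩ hmem
      obtain ⟨r, hr⟩ := hrange _ hv
      have he : j (r * t * r⁻¹) = φ (v * u * v⁻¹) := by
        rw [map_mul, map_mul, map_inv, hr, htu, map_mul, map_mul, map_inv]
      exact ⟨v * u * v⁻¹, ⟨_, hcl t ht r ((hmemP _).2 ⟨v * u * v⁻¹, hmem, he.symm⟩), he⟩, rfl⟩
    have hwit : ∀ steps : List (Bool × List ℕ × ℕ × ℕ),
        (∀ s ∈ steps, s.1 = true → s.2.1 ∈ basics.map Prod.fst) →
        ∀ s ∈ steps, s.1 = true → Good s.2.1 ∧ s.2.1.length = 24 ∧ permL s.2.1 ∈ H := by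
      intro steps hst s hs h1
      obtain ⟨b, hb, hbe⟩ := List.mem_map.1 (hst s hs h1)
      exact ⟨hbe ▸ (basics_ok b hb).1, hbe ▸ (basics_ok b hb).2.1, hbasic _ (hst s hs h1)⟩
    obtain ⟨hstep, hder, hw⟩ := central_steps i hi
    obtain ⟨d, hdT, hds, hdl⟩ := derived_mem (T := T') hsyl hclose _ _
      (fun L hL => ⟨σ.1, ⟨σ, ⟨x, hxT, hσx.symm⟩, rfl⟩, hσ,
        hxi.trans (List.mem_singleton.1 hL).symm⟩)
      (hwit _ hw) (fun L hL y hy => (mem_syl y).2 (hy ▸ hder L hL)) _ hstep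
    obtain ⟨u, ⟨t, ht, htu⟩, rfl⟩ := hdT
    have hu : u = mk pairZero pair_ok := Subtype.ext (toList_injective
      (hdl.trans (toList_permL pair_ok.1 pair_ok.2.1).symm))
    subst hu
    obtain ⟨h, hh, hfus⟩ := exists_fusion (a := a) ha h2
    obtain ⟨r, hr⟩ := hrange h hh
    have hfs : (mk fusedPair fused_ok).1 ∈ sylGroup := (mem_syl _).2 (by
      show toList (permL fusedPair) ∈ _
      rw [toList_permL fused_ok.1 fused_ok.2.1]
      exact pairs_mem.2)
    have he : j (r * t * r⁻¹) = φ (mk fusedPair fused_ok) := by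
      rw [map_mul, map_mul, map_inv, hr, htu, hfus]
    have hfT : (mk fusedPair fused_ok).1 ∈ T' :=
      ⟨_, ⟨_, hcl t ht r ((hmemP _).2 ⟨_, hfs, he.symm⟩), he⟩, rfl⟩
    obtain ⟨hgenPc, hder', hw'⟩ := main_steps
    have hle : sylGroup ≤ T' := pcGroup_le pcOK fun g hg => by
      obtain ⟨y, hy, -, hyl⟩ := derived_mem (T := T') hsyl hclose mainSteps _
        (fun L hL => by
          rcases List.mem_pair.1 hL with rfl | rfl
          · exact ⟨_, ⟨_, ⟨t, ht, htu⟩, rfl⟩, hds, toList_permL pair_ok.1 pair_ok.2.1⟩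
          · exact ⟨_, hfT, hfs, toList_permL fused_ok.1 fused_ok.2.1⟩)
        (hwit _ hw') (fun L hL y hy => (mem_syl y).2 (hy ▸ hder' L hL)) g (hgenPc g hg)
      rwa [(eq_iff_toList (pcOK.1 g hg).1 (pcOK.1 g hg).2).1 hyl] at hy
    intro p hp
    obtain ⟨π, hπ, hπp⟩ := (hmemP p).1 hp
    obtain ⟨π', ⟨t', ht', htp⟩, hee⟩ := hle hπ
    obtain rfl : π' = π := monoGroup.subtype_injective hee
    rwa [← hj (htp.trans hπp)]
  have hAut : (groupFusionSystem (S : Subgroup G)).autGroup (S : Subgroup G) =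
      Cfsg.Inn ↥(S : Subgroup G) := by
    refine Fusion.autGroup_eq_inn_of_prime_powers P (fun n hn q k hq hq2 hord y _ => ?_) S
    have hn1 : n = 1 := hj (by
      rw [map_one]
      refine eq_one_of_normalizes ha h2 (j n) (fun σ hσ => ?_) hq hq2
        ((orderOf_injective j hj n).trans hord)
      obtain ⟨r, hr⟩ := himg ⟨σ, hσ, rfl⟩
      have h1 := (Subgroup.mem_normalizer_iff.1 hn r).1 ((hmemP r).2 ⟨σ, hσ, hr.symm⟩)
      obtain ⟨τ, hτ, hτe⟩ := (hmemP _).1 h1
      exact ⟨τ, hτ, by rw [hτe, map_mul, map_mul, map_inv, hr]⟩)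
    simp [hn1]
  refine ⟨hAut, fun T hT => Fusion.stronglyClosed_trivial_of_central_gen P hgen S hT,
    Fusion.isSimple_groupFusion_of_central_gen P (fun h => ?_) hgen S hAut⟩
  rw [hP] at h
  rw [h, Subgroup.card_bot, hcard] at hc
  norm_num at hc

end CfsgLib.Quad.Seven
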