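/-!
Certificate data for a Sylow 2-subgroup of a group of signed permutations of seven letters, the
signed letters being the positions 0..13 of 24.
-/

set_option autoImplicit false

namespace CfsgLib.Quad.Seven

def pc : List (List Nat) :=
  [[7, 8, 2, 3, 4, 5, 6, 0, 1, 9, 10, 11, 12, 13, 14, 15, 16, 17, 18, 19, 20, 21, 22, 23],
   [0, 8, 9, 3, 4, 5, 6, 7, 1, 2, 10, 11, 12, 13, 14, 15, 16, 17, 18, 19, 20, 21, 22, 23],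
   [0, 1, 9, 10, 4, 5, 6, 7, 8, 2, 3, 11, 12, 13, 14, 15, 16, 17, 18, 19, 20, 21, 22, 23],
   [0, 1, 2, 10, 11, 5, 6, 7, 8, 9, 3, 4, 12, 13, 14, 15, 16, 17, 18, 19, 20, 21, 22, 23],
   [0, 1, 2, 3, 11, 12, 6, 7, 8, 9, 10, 4, 5, 13, 14, 15, 16, 17, 18, 19, 20, 21, 22, 23],
   [0, 1, 2, 3, 4, 12, 13, 7, 8, 9, 10, 11, 5, 6, 14, 15, 16, 17, 18, 19, 20, 21, 22, 23],
   [1, 0, 3, 2, 4, 5, 6, 8, 7, 10, 9, 11, 12, 13, 14, 15, 16, 17, 18, 19, 20, 21, 22, 23],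
   [2, 3, 0, 1, 4, 5, 6, 9, 10, 7, 8, 11, 12, 13, 14, 15, 16, 17, 18, 19, 20, 21, 22, 23],
   [1, 0, 2, 3, 5, 4, 6, 8, 7, 9, 10, 12, 11, 13, 14, 15, 16, 17, 18, 19, 20, 21, 22, 23]]

def centrals : List (List Nat) :=
  [[7, 8, 9, 10, 4, 5, 6, 0, 1, 2, 3, 11, 12, 13, 14, 15, 16, 17, 18, 19, 20, 21, 22, 23],
   [0, 1, 2, 3, 11, 12, 6, 7, 8, 9, 10, 4, 5, 13, 14, 15, 16, 17, 18, 19, 20, 21, 22, 23],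
   [7, 8, 9, 10, 11, 12, 6, 0, 1, 2, 3, 4, 5, 13, 14, 15, 16, 17, 18, 19, 20, 21, 22, 23]]

def pairZero : List Nat :=
  [7, 8, 2, 3, 4, 5, 6, 0, 1, 9, 10, 11, 12, 13, 14, 15, 16, 17, 18, 19, 20, 21, 22, 23]

def fusedPair : List Nat :=
  [1, 0, 10, 9, 4, 5, 6, 8, 7, 3, 2, 11, 12, 13, 14, 15, 16, 17, 18, 19, 20, 21, 22, 23]

def centralSteps : List (List (Bool × List Nat × Nat × Nat)) :=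
  [[(true, [2, 4, 0, 3, 1, 5, 6, 9, 11, 7, 10, 8, 12, 13, 14, 15, 16, 17, 18, 19, 20, 21, 22, 23], 0, 0),
   (true, [4, 2, 1, 3, 0, 5, 6, 11, 9, 8, 10, 7, 12, 13, 14, 15, 16, 17, 18, 19, 20, 21, 22, 23], 0, 0),
   (false, [], 1, 2)],
   [(true, [4, 5, 2, 3, 0, 1, 6, 11, 12, 9, 10, 7, 8, 13, 14, 15, 16, 17, 18, 19, 20, 21, 22, 23], 0, 0)],
   [(true, [2, 6, 0, 3, 4, 5, 1, 9, 13, 7, 10, 11, 12, 8, 14, 15, 16, 17, 18, 19, 20, 21, 22, 23], 0, 0),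
   (true, [6, 2, 1, 3, 4, 5, 0, 13, 9, 8, 10, 11, 12, 7, 14, 15, 16, 17, 18, 19, 20, 21, 22, 23], 0, 0),
   (false, [], 1, 2)]]

def mainSteps : List (Bool × List Nat × Nat × Nat) :=
  [(true, [2, 3, 0, 1, 4, 5, 6, 9, 10, 7, 8, 11, 12, 13, 14, 15, 16, 17, 18, 19, 20, 21, 22, 23], 0, 0),
   (true, [3, 4, 2, 0, 1, 5, 6, 10, 11, 9, 7, 8, 12, 13, 14, 15, 16, 17, 18, 19, 20, 21, 22, 23], 0, 0),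
   (true, [4, 5, 2, 3, 0, 1, 6, 11, 12, 9, 10, 7, 8, 13, 14, 15, 16, 17, 18, 19, 20, 21, 22, 23], 0, 0),
   (true, [5, 6, 2, 3, 4, 0, 1, 12, 13, 9, 10, 11, 7, 8, 14, 15, 16, 17, 18, 19, 20, 21, 22, 23], 0, 0),
   (true, [2, 1, 0, 4, 3, 5, 6, 9, 8, 7, 11, 10, 12, 13, 14, 15, 16, 17, 18, 19, 20, 21, 22, 23], 0, 0),
   (true, [3, 1, 4, 0, 2, 5, 6, 10, 8, 11, 7, 9, 12, 13, 14, 15, 16, 17, 18, 19, 20, 21, 22, 23], 0, 0),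
   (true, [2, 3, 0, 1, 4, 5, 6, 9, 10, 7, 8, 11, 12, 13, 14, 15, 16, 17, 18, 19, 20, 21, 22, 23], 1, 0),
   (true, [0, 2, 1, 3, 5, 4, 6, 7, 9, 8, 10, 12, 11, 13, 14, 15, 16, 17, 18, 19, 20, 21, 22, 23], 1, 0),
   (true, [0, 1, 4, 5, 2, 3, 6, 7, 8, 11, 12, 9, 10, 13, 14, 15, 16, 17, 18, 19, 20, 21, 22, 23], 8, 0),
   (false, [], 0, 8),
   (false, [], 0, 10),
   (false, [], 7, 9)]

def basics : List (List Nat × Nat × Nat × Nat × Nat) :=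
  [([2, 4, 0, 3, 1, 5, 6, 9, 11, 7, 10, 8, 12, 13, 14, 15, 16, 17, 18, 19, 20, 21, 22, 23], 0, 2, 1, 4),
   ([4, 2, 1, 3, 0, 5, 6, 11, 9, 8, 10, 7, 12, 13, 14, 15, 16, 17, 18, 19, 20, 21, 22, 23], 0, 4, 1, 2),
   ([4, 5, 2, 3, 0, 1, 6, 11, 12, 9, 10, 7, 8, 13, 14, 15, 16, 17, 18, 19, 20, 21, 22, 23], 0, 4, 1, 5),
   ([2, 6, 0, 3, 4, 5, 1, 9, 13, 7, 10, 11, 12, 8, 14, 15, 16, 17, 18, 19, 20, 21, 22, 23], 0, 2, 1, 6),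
   ([6, 2, 1, 3, 4, 5, 0, 13, 9, 8, 10, 11, 12, 7, 14, 15, 16, 17, 18, 19, 20, 21, 22, 23], 0, 6, 1, 2),
   ([2, 3, 0, 1, 4, 5, 6, 9, 10, 7, 8, 11, 12, 13, 14, 15, 16, 17, 18, 19, 20, 21, 22, 23], 0, 2, 1, 3),
   ([3, 4, 2, 0, 1, 5, 6, 10, 11, 9, 7, 8, 12, 13, 14, 15, 16, 17, 18, 19, 20, 21, 22, 23], 0, 3, 1, 4),
   ([5, 6, 2, 3, 4, 0, 1, 12, 13, 9, 10, 11, 7, 8, 14, 15, 16, 17, 18, 19, 20, 21, 22, 23], 0, 5, 1, 6),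
   ([2, 1, 0, 4, 3, 5, 6, 9, 8, 7, 11, 10, 12, 13, 14, 15, 16, 17, 18, 19, 20, 21, 22, 23], 0, 2, 3, 4),
   ([3, 1, 4, 0, 2, 5, 6, 10, 8, 11, 7, 9, 12, 13, 14, 15, 16, 17, 18, 19, 20, 21, 22, 23], 0, 3, 2, 4),
   ([0, 2, 1, 3, 5, 4, 6, 7, 9, 8, 10, 12, 11, 13, 14, 15, 16, 17, 18, 19, 20, 21, 22, 23], 1, 2, 4, 5),
   ([0, 1, 4, 5, 2, 3, 6, 7, 8, 11, 12, 9, 10, 13, 14, 15, 16, 17, 18, 19, 20, 21, 22, 23], 2, 4, 3, 5),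
   ([1, 0, 3, 2, 4, 5, 6, 8, 7, 10, 9, 11, 12, 13, 14, 15, 16, 17, 18, 19, 20, 21, 22, 23], 0, 1, 2, 3),
   ([2, 3, 0, 1, 4, 5, 6, 9, 10, 7, 8, 11, 12, 13, 14, 15, 16, 17, 18, 19, 20, 21, 22, 23], 0, 2, 1, 3),
   ([1, 0, 2, 3, 5, 4, 6, 8, 7, 9, 10, 12, 11, 13, 14, 15, 16, 17, 18, 19, 20, 21, 22, 23], 0, 1, 4, 5)]

end CfsgLib.Quad.Seven
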