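import Cfsg.Agent.Quad.SevenFrame
import Cfsg.Agent.Quad.SevenSylowData

/-!
Facts about the Sylow group of signed permutations checked on position lists: the diagonal part is
the unique elementary abelian subgroup of its order, and the permutation part is self-normalizing
up to elements of 2-power order.
-/

set_option autoImplicit false
set_option maxRecDepth 10000

namespace CfsgLib.Quad.Seven

open CfsgLib.Golay CfsgLib.Golay.SylowCert
open Cfsg (GolayPt)

theorem pcOK : PcOK pc := by decide +kernel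

theorem pc_mono : ∀ L ∈ pc, Mono L := by decide +kernel

theorem els_eq : els pc pc.length = els pc 9 := rfl

/-- The whole group. -/
abbrev sylGroup : Subgroup (Equiv.Perm GolayPt) := pcGroup pc 9

/-- The diagonal part. -/
abbrev diagGroup : Subgroup (Equiv.Perm GolayPt) := pcGroup pc 6

theorem mem_syl (σ : Equiv.Perm GolayPt) : σ ∈ sylGroup ↔ toList σ ∈ els pc 9 :=
  mem_pcGroup pcOK 9 (by decide) σ

theorem mem_diag (σ : Equiv.Perm GolayPt) : σ ∈ diagGroup ↔ toList σ ∈ els pc 6 :=
  mem_pcGroup pcOK 6 (by decide) σ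

theorem card_syl : Nat.card sylGroup = 512 := card_pcGroup pcOK 9 (by decide)

theorem card_diag : Nat.card diagGroup = 64 := card_pcGroup pcOK 6 (by decide)

theorem diag_le_syl : diagGroup ≤ sylGroup :=
  Subgroup.closure_mono fun s ⟨j, hj, hs⟩ => ⟨j, by omega, hs⟩

theorem syl_le_mono : sylGroup ≤ monoGroup := by
  refine (pcGroup_le pcOK (T := monoGroup) fun g hg => ?_)
  obtain ⟨h1, h2⟩ := pcOK.1 g hg
  rw [mem_monoGroup, toList_permL h1 h2]
  exact pc_mono g hg

theorem diag_normal : ∀ σ ∈ sylGroup, σ ∈ Subgroup.normalizer (diagGroup : Set _) := by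
  have hstep : ∀ g ∈ pc, ∀ e ∈ pc.take 6,
      compL (compL g e) (invL g) ∈ els pc 6 := by decide +kernel
  have hle : sylGroup ≤ Subgroup.normalizer (diagGroup : Set _) := by
    refine pcGroup_le pcOK (T := Subgroup.normalizer (diagGroup : Set _)) fun g hg => ?_
    obtain ⟨g1, g2⟩ := pcOK.1 g hg
    have hsub : diagGroup.map (MulAut.conj (permL g)).toMonoidHom ≤ diagGroup := by
      show (pcGroup pc 6).map _ ≤ _
      rw [pcGroup, MonoidHom.map_closure, Subgroup.closure_le]
      rintro _ ⟨_, ⟨j, hj, rfl⟩, rfl⟩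
      refine (mem_diag _).2 ?_
      obtain ⟨h1, h2⟩ := good_getD pcOK (show j < pc.length from (by
        have : pc.length = 9 := rfl
        omega))
      show toList (permL g * permL (pc.getD j []) * (permL g)⁻¹) ∈ _
      rw [toList_mul, toList_mul, toList_inv, toList_permL g1 g2, toList_permL h1 h2]
      refine hstep g hg _ ?_
      rw [List.getD_eq_getElem _ _ (by have : pc.length = 9 := rfl; omega),
        List.mem_take_iff_getElem]
      exact ⟨j, by have : pc.length = 9 := rfl; omega, rfl⟩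
    have heq : diagGroup.map (MulAut.conj (permL g)).toMonoidHom = diagGroup :=
      Subgroup.eq_of_le_of_card_ge hsub
        (le_of_eq (Subgroup.card_map_of_injective (MulAut.conj (permL g)).injective).symm)
    rw [Subgroup.mem_normalizer_iff]
    intro x
    conv_rhs => rw [← heq]
    exact ⟨fun h => ⟨x, h, rfl⟩, fun ⟨y, hy, e⟩ => (MulAut.conj (permL g)).injective e ▸ hy⟩
  exact fun σ hσ => hle hσ

/-- The representative of a coset of the diagonal part. -/
def rep (k : ℕ) : List ℕ := (els pc 9).getD (64 * k) (List.range 24)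

/-- The cosets `S` allowed to an elementary abelian subgroup. -/
def allowed (S : Finset ℕ) : Prop :=
  (∀ k ∈ S, compL (rep k) (rep k) ∈ els pc 6) ∧ ∀ k ∈ S, ∀ l ∈ S,
    compL (compL (rep k) (rep l)) (invL (compL (rep l) (rep k))) ∈ els pc 6

instance (S : Finset ℕ) : Decidable (allowed S) := by unfold allowed; infer_instance

theorem allowed_small : ∀ S ∈ (Finset.range 8).powerset, allowed S → S ⊆ {0} ∨
    S.card * ((els pc 6).filter fun e => decide (∀ k ∈ S, compL e (rep k) = compL (rep k) e)).length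
      < 64 := by decide +kernel

theorem cover : ∀ L ∈ els pc 9, ∃ k < 8, compL (invL (rep k)) L ∈ els pc 6 := by decide +kernel

theorem rep_mem : ∀ k < 8, rep k ∈ els pc 9 := by decide +kernel

theorem diag_comm (x y : Equiv.Perm GolayPt) (hx : x ∈ diagGroup) (hy : y ∈ diagGroup) :
    x * y = y * x := by
  have h : ∀ a ∈ pc.take 6, ∀ b ∈ pc.take 6, compL a b = compL b a := by decide +kernel
  have hc : IsMulCommutative diagGroup := by
    refine Subgroup.isMulCommutative_closure ?_
    rintro _ ⟨i, hi, rfl⟩ _ ⟨j, hj, rfl⟩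
    obtain ⟨a1, a2⟩ := good_getD pcOK (show i < pc.length from (by
      have : pc.length = 9 := rfl
      omega))
    obtain ⟨b1, b2⟩ := good_getD pcOK (show j < pc.length from (by
      have : pc.length = 9 := rfl
      omega))
    refine toList_injective ?_
    rw [toList_mul, toList_mul, toList_permL a1 a2, toList_permL b1 b2]
    have hm : ∀ k < 6, pc.getD k [] ∈ pc.take 6 := by decide +kernel
    exact h _ (hm i hi) _ (hm j hj)
  exact congrArg Subtype.val (hc.is_comm.comm ⟨x, hx⟩ ⟨y, hy⟩)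

theorem eq_diag {A : Subgroup (Equiv.Perm GolayPt)} (hA : A ≤ sylGroup)
    (hsq : ∀ a ∈ A, a * a = 1) (hcard : Nat.card A = 64) : A = diagGroup := by
  classical
  have hcomm : ∀ a ∈ A, ∀ b ∈ A, a * b = b * a := fun a ha b hb => by
    have h1 := hsq _ (mul_mem ha hb)
    calc a * b = a * (a * b * (a * b)) * b := by rw [h1, mul_one]
      _ = (a * a) * (b * a) * (b * b) := by group
      _ = b * a := by rw [hsq a ha, hsq b hb, one_mul, mul_one]
  choose σr hσr hσl using fun (k : ℕ) (hk : k < 8) =>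
    exists_of_mem_els pcOK 9 (by decide) (rep k) (rep_mem k hk)
  set S : Finset ℕ := (Finset.range 8).filter fun k =>
    ∃ (hk : k < 8), ∃ a ∈ A, (σr k hk)⁻¹ * a ∈ diagGroup with hS
  have hSmem : ∀ k, k ∈ S ↔ ∃ (hk : k < 8), ∃ a ∈ A, (σr k hk)⁻¹ * a ∈ diagGroup := fun k => by
    rw [hS, Finset.mem_filter, Finset.mem_range]
    exact ⟨fun h => h.2, fun h => ⟨h.1, h⟩⟩
  have hkey : ∀ a ∈ A, ∃ k ∈ S, ∃ hk : k < 8, (σr k hk)⁻¹ * a ∈ diagGroup := fun a ha => by
    obtain ⟨k, hk, hmem⟩ := cover _ ((mem_syl a).1 (hA ha))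
    have : (σr k hk)⁻¹ * a ∈ diagGroup :=
      (mem_diag _).2 (by rwa [toList_mul, toList_inv, hσl k hk])
    exact ⟨k, (hSmem k).2 ⟨hk, a, ha, this⟩, hk, this⟩
  -- quotient by the diagonal part
  set D' := diagGroup.subgroupOf sylGroup with hD'
  haveI : D'.Normal := ⟨fun x hx g => by
    rw [hD', Subgroup.mem_subgroupOf] at hx ⊢
    exact (Subgroup.mem_normalizer_iff.1 (diag_normal g g.2) x).1 hx⟩
  have hq : ∀ k (hk : k < 8) (a : Equiv.Perm GolayPt) (ha : a ∈ A),
      (σr k hk)⁻¹ * a ∈ diagGroup →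
      (QuotientGroup.mk' D') ⟨σr k hk, hσr k hk⟩ = (QuotientGroup.mk' D') ⟨a, hA ha⟩ :=
    fun k hk a ha h => QuotientGroup.eq.2 (Subgroup.mem_subgroupOf.2 h)
  have hallowed : allowed S := by
    refine ⟨fun k hk => ?_, fun k hk l hl => ?_⟩
    · obtain ⟨hk, a, ha, h⟩ := (hSmem k).1 hk
      rw [← hσl k hk, ← toList_mul]
      refine (mem_diag _).1 ?_
      have h1 : (QuotientGroup.mk' D') (⟨σr k hk, hσr k hk⟩ * ⟨σr k hk, hσr k hk⟩) = 1 := by
        rw [map_mul, hq k hk a ha h, ← map_mul]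
        exact (congrArg _ (Subtype.ext (hsq a ha))).trans (map_one _)
      exact Subgroup.mem_subgroupOf.1 ((QuotientGroup.eq_one_iff (N := D') _).1 h1)
    · obtain ⟨hk, a, ha, h⟩ := (hSmem k).1 hk
      obtain ⟨hl, b, hb, h'⟩ := (hSmem l).1 hl
      rw [← hσl k hk, ← hσl l hl, ← toList_mul, ← toList_mul, ← toList_inv, ← toList_mul]
      refine (mem_diag _).1 ?_
      have h1 : (QuotientGroup.mk' D') (⟨σr k hk, hσr k hk⟩ * ⟨σr l hl, hσr l hl⟩ *
          (⟨σr l hl, hσr l hl⟩ * ⟨σr k hk, hσr k hk⟩)⁻¹) = 1 := by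
        rw [map_mul, map_inv, map_mul, map_mul, hq k hk a ha h, hq l hl b hb h', ← map_mul,
          ← map_mul, ← map_inv, ← map_mul]
        exact (congrArg _ (Subtype.ext (by
          show a * b * (b * a)⁻¹ = 1
          rw [hcomm a ha b hb, mul_inv_cancel]))).trans (map_one _)
      exact Subgroup.mem_subgroupOf.1 ((QuotientGroup.eq_one_iff (N := D') _).1 h1)
  rcases allowed_small S (Finset.mem_powerset.2 (Finset.filter_subset ..)) hallowed with h0 | hlt
  · refine Subgroup.eq_of_le_of_card_ge (fun a ha => ?_) (by rw [card_diag, hcard])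
    obtain ⟨k, hkS, hk, h⟩ := hkey a ha
    obtain rfl : k = 0 := Finset.mem_singleton.1 (h0 hkS)
    have h00 : σr 0 hk = 1 := toList_injective (by rw [hσl 0 hk, toList_one]; decide +kernel)
    simpa [h00] using h
  exfalso
  have hpick : ∀ k : S, ∃ a ∈ A, ∃ hk : (k : ℕ) < 8, (σr k hk)⁻¹ * a ∈ diagGroup := fun k => by
    obtain ⟨hk, a, ha, h⟩ := (hSmem k).1 k.2
    exact ⟨a, ha, hk, h⟩
  choose ak hakA hakk hakD using hpick
  set C := ((els pc 6).filter fun e =>
    decide (∀ k ∈ S, compL e (rep k) = compL (rep k) e)).toFinset with hC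
  choose kk hkkS hkk8 hkkD using hkey
  let d : ∀ a : A, Equiv.Perm GolayPt := fun a => (ak ⟨kk a a.2, hkkS a a.2⟩)⁻¹ * a
  have hd : ∀ a : A, d a ∈ diagGroup ∧ d a ∈ A := fun a => by
    refine ⟨?_, mul_mem (Subgroup.inv_mem _ (hakA _)) a.2⟩
    have h1 := mul_mem (Subgroup.inv_mem _ (hakD ⟨kk a a.2, hkkS a a.2⟩)) (hkkD a a.2)
    simpa [d, mul_assoc] using h1
  have hdC : ∀ a : A, toList (d a) ∈ C := fun a => by
    rw [hC, List.mem_toFinset, List.mem_filter, decide_eq_true_eq]
    refine ⟨(mem_diag _).1 (hd a).1, fun k hk => ?_⟩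
    obtain ⟨hk8, b, hb, hbD⟩ := (hSmem k).1 hk
    rw [← hσl k hk8, ← toList_mul, ← toList_mul]
    refine congrArg toList ?_
    have h1 : σr k hk8 = b * ((σr k hk8)⁻¹ * b)⁻¹ := by group
    have hcb : d a * b = b * d a := hcomm _ (hd a).2 b hb
    have hcd : d a * ((σr k hk8)⁻¹ * b)⁻¹ = ((σr k hk8)⁻¹ * b)⁻¹ * d a :=
      diag_comm _ _ (hd a).1 (Subgroup.inv_mem _ hbD)
    rw [h1]
    calc d a * (b * ((σr k hk8)⁻¹ * b)⁻¹) = d a * b * ((σr k hk8)⁻¹ * b)⁻¹ := (mul_assoc ..).symm
      _ = b * (d a * ((σr k hk8)⁻¹ * b)⁻¹) := by rw [hcb, mul_assoc]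
      _ = b * (((σr k hk8)⁻¹ * b)⁻¹ * d a) := by rw [hcd]
      _ = b * ((σr k hk8)⁻¹ * b)⁻¹ * d a := (mul_assoc ..).symm
  have hle : Nat.card A ≤ S.card * C.card := by
    refine (Nat.card_le_card_of_injective (fun a : A =>
      ((⟨kk a a.2, hkkS a a.2⟩ : S), (⟨toList (d a), hdC a⟩ : C))) ?_).trans ?_
    · intro a b h
      simp only [Prod.mk.injEq, Subtype.mk.injEq] at h
      have h2 := toList_injective h.2
      have h1 : (⟨kk a a.2, hkkS a a.2⟩ : S) = ⟨kk b b.2, hkkS b b.2⟩ := Subtype.ext h.1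
      simp only [d, h1] at h2
      exact Subtype.ext (mul_left_cancel h2)
    · simp [Nat.card_eq_fintype_card, Fintype.card_coe]
  have hCle : C.card ≤ ((els pc 6).filter fun e =>
      decide (∀ k ∈ S, compL e (rep k) = compL (rep k) e)).length := List.toFinset_card_le _
  have := hle.trans (Nat.mul_le_mul_left _ hCle)
  omega

/-- Lists of distinct numbers below seven. -/
def injLists : ℕ → List (List ℕ)
  | 0 => [[]]
  | n + 1 => (injLists n).flatMap fun l =>
      ((List.range 7).filter fun x => !l.contains x).map fun x => l ++ [x]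

theorem mem_injLists {f : ℕ → ℕ} (h7 : ∀ i < 7, f i < 7)
    (hf : ∀ i < 7, ∀ j < 7, f i = f j → i = j) :
    ∀ n ≤ 7, (List.range n).map f ∈ injLists n := by
  intro n
  induction n with
  | zero => intro _; simp [injLists]
  | succ n ih =>
    intro hn
    rw [injLists, List.mem_flatMap]
    refine ⟨_, ih (by omega), List.mem_map.2 ⟨f n, ?_, ?_⟩⟩
    · rw [List.mem_filter]
      refine ⟨List.mem_range.2 (h7 n (by omega)), ?_⟩
      simp only [Bool.not_eq_true', List.contains_eq_mem, decide_eq_false_iff_not, List.mem_map,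
        List.mem_range, not_exists, not_and]
      intro i hi e
      have := hf i (by omega) n (by omega) e
      omega
    · rw [List.range_succ, List.map_append, List.map_singleton]

/-- The permutation parts of the representatives. -/
def projs : List (List ℕ) :=
  (List.range 8).map fun k => (List.range 7).map fun i => (rep k).getD i 0 % 7

theorem self_normalizing : ∀ s ∈ injLists 7,
    (∀ g ∈ pc.drop 6, ∃ p ∈ projs, ∀ i < 7, s.getD (g.getD i 0 % 7) 0 = p.getD (s.getD i 0) 0) →
    ∀ i < 7, (fun x => s.getD x 0)^[8] i = i := by decide +kernel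

theorem proj_mem : ∀ L ∈ els pc 9, (List.range 7).map (fun i => L.getD i 0 % 7) ∈ projs := by
  decide +kernel

end CfsgLib.Quad.Seven
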