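import Cfsg.Agent.Quad.SevenMain
import Cfsg.Agent.Quad.TwoRankLower
import Cfsg.Agent.Quad.Orders

/-!
Transport of the seven-square computation to the split seven-dimensional form.
-/

set_option autoImplicit false
set_option linter.style.haveILetI false

namespace CfsgLib.Quad.Seven

open QuadraticMap CfsgLib.Forms
open Cfsg (groupFusionSystem)

universe u

/-- An isomorphism induces one of commutator subgroups. -/
noncomputable def commutatorCongr {A B : Type*} [Group A] [Group B] (e : A ≃* B) :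
    commutator A ≃* commutator B :=
  (e.subgroupMap _).trans (MulEquiv.subgroupCongr (by
    rw [commutator_def, Subgroup.map_commutator, ← MonoidHom.range_eq_map,
      MonoidHom.range_eq_top.2 e.surjective, ← commutator_def]))

variable {F : Type u} [Field F]

theorem exists_frame [Finite F] (h2 : (2 : F) ≠ 0) :
    ∃ a : F, a ≠ 0 ∧ ∃ L : (Fin 7 → F) ≃ₗ[F] (Unit ⊕ (Fin 3 ⊕ Fin 3) → F),
      ∀ x, oddQ (F := F) 3 (L x) = form a x := by
  set Q := oddQ (F := F) 3 with hQdef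
  obtain ⟨f, hf0, horth, hsq⟩ := exists_same_class_family (oddQ_nondeg h2 3) h2 3
    (V := Unit ⊕ (Fin 3 ⊕ Fin 3) → F) (Q := Q)
    (by rw [Module.finrank_fintype_fun_eq_card]; simp [Fintype.card_sum])
  let ε : Fin 7 ≃ (Fin 3 × Fin 2) ⊕ Fin 1 := Fintype.equivOfCardEq (by simp)
  set a := Q (f (ε 0)) with ha
  have ha0 : a ≠ 0 := hf0 _
  have hscale : ∀ i, ∃ t : F, t * t * Q (f (ε i)) = a := fun i => by
    obtain ⟨c, hc⟩ := hsq (ε i) (ε 0)
    have hc0 : c ≠ 0 := fun h => mul_ne_zero (hf0 (ε i)) ha0 (by rw [hc, h, mul_zero])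
    refine ⟨a / c, ?_⟩
    field_simp
    linear_combination hc
  choose t ht using hscale
  set w : Fin 7 → (Unit ⊕ (Fin 3 ⊕ Fin 3) → F) := fun i => t i • f (ε i) with hw
  have hwp : ∀ i j, polar Q (w i) (w j) = polar (form a) (ev i) (ev j) := by
    intro i j
    rw [polar_ev, hw, polar_smul_left, polar_smul_right]
    simp only [smul_eq_mul]
    by_cases h : i = j
    · subst h
      rw [if_pos rfl, polar_self, nsmul_eq_mul, Nat.cast_ofNat]
      linear_combination (2 : F) * ht i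
    · rw [if_neg h, horth _ _ (ε.injective.ne h), mul_zero, mul_zero]
  set L0 : (Fin 7 → F) →ₗ[F] (Unit ⊕ (Fin 3 ⊕ Fin 3) → F) :=
    ((LinearMap.lsum F (fun _ : Fin 7 => F) F) fun i => LinearMap.toSpanSingleton F _ (w i))
    with hL0
  have hL0ev : ∀ i, L0 (ev i) = w i := fun i => by
    simp [hL0, ev, Pi.single_apply]
  have hbil : (polarBilin Q).compl₁₂ L0 L0 = polarBilin (form a) := by
    refine LinearMap.ext fun x => LinearMap.ext fun y => ?_
    rw [← sum_ev x, ← sum_ev y]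
    simp only [map_sum, map_smul, LinearMap.sum_apply, LinearMap.smul_apply,
      LinearMap.compl₁₂_apply, hL0ev, polarBilin_apply_apply, hwp]
  have hQL : ∀ x, Q (L0 x) = form a x := fun x => by
    have h := LinearMap.congr_fun (LinearMap.congr_fun hbil x) x
    rw [LinearMap.compl₁₂_apply, polarBilin_apply_apply, polarBilin_apply_apply, polar_self,
      polar_self, nsmul_eq_mul, nsmul_eq_mul, Nat.cast_ofNat] at h
    exact mul_left_cancel₀ h2 h
  have hinj : Function.Injective L0 := (injective_iff_map_eq_zero L0).2 fun x hx => funext fun i => by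
    have h := LinearMap.congr_fun (LinearMap.congr_fun hbil x) (ev i)
    rw [LinearMap.compl₁₂_apply, hx, map_zero, LinearMap.zero_apply, polarBilin_apply_apply,
      polar_form] at h
    simpa [ev, Pi.single_apply, mul_ne_zero h2 ha0] using h.symm
  refine ⟨a, ha0, LinearMap.linearEquivOfInjective L0 hinj (by simp [Fintype.card_sum]),
    fun x => ?_⟩
  rw [LinearMap.linearEquivOfInjective_apply]
  exact hQL x

theorem two_ne_zero_of_odd [Fintype F] {q : ℕ} (hF : Fintype.card F = q)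
    (hq : q % 8 = 3 ∨ q % 8 = 5) : (2 : F) ≠ 0 := by
  intro h
  haveI : CharP F 2 := CharTwo.of_one_ne_zero_of_two_eq_zero one_ne_zero h
  obtain ⟨n, -, hn⟩ := FiniteField.card F 2
  have : 2 ∣ q := hF ▸ hn ▸ dvd_pow_self 2 n.ne_zero
  omega

theorem factorization_card_omega [Fintype F] (q : ℕ) (hF : Fintype.card F = q)
    (hq : q % 8 = 3 ∨ q % 8 = 5) :
    (Nat.card (commutator (oGroup (oddQ (F := F) 3)))).factorization 2 = 9 := by
  have h2 : (2 : F) ≠ 0 := two_ne_zero_of_odd hF hq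
  haveI : Finite (Unit ⊕ (Fin 3 ⊕ Fin 3) → F) := inferInstance
  have hidx := index_commutator_odd (oddQ_nondeg (F := F) h2 3) h2
    (by rw [Module.finrank_fintype_fun_eq_card]; simp [Fintype.card_sum])
  have hmul := Subgroup.card_mul_index (commutator (oGroup (oddQ (F := F) 3)))
  rw [hidx] at hmul
  have hO := card_oGroup_odd (F := F) (q := q) (by rw [Nat.card_eq_fintype_card, hF]) h2 3
  rw [← hmul] at hO
  obtain ⟨k, hk⟩ : ∃ k, q = 8 * k + 3 ∨ q = 8 * k + 5 := ⟨q / 8, by omega⟩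
  obtain ⟨m, hmo, hm⟩ : ∃ m : ℕ, Odd m ∧ (q : ℤ) ^ 2 - 1 = 8 * (m : ℤ) := by
    rcases hk with rfl | rfl
    · exact ⟨8 * k ^ 2 + 6 * k + 1, ⟨4 * k ^ 2 + 3 * k, by ring⟩, by push_cast; ring⟩
    · exact ⟨8 * k ^ 2 + 10 * k + 3, ⟨4 * k ^ 2 + 5 * k + 1, by ring⟩, by push_cast; ring⟩
  set c := Nat.card (commutator (oGroup (oddQ (F := F) 3))) with hc
  set M := q ^ 9 * m ^ 3 * (4 * m + 1) * (64 * m ^ 2 + 24 * m + 3) with hM
  have hval : c = 2 ^ 9 * M := by
    have h4 : ((c * 4 : ℕ) : ℤ) = ((4 * (2 ^ 9 * M) : ℕ) : ℤ) := by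
      rw [hO, Finset.prod_range_succ, Finset.prod_range_succ, Finset.prod_range_succ,
        Finset.prod_range_zero, hM]
      push_cast
      have hq2 : (q : ℤ) ^ 2 = 8 * m + 1 := by linarith
      rw [show (q : ℤ) ^ (2 * (1 + 1)) = ((q : ℤ) ^ 2) ^ 2 by ring,
        show (q : ℤ) ^ (2 * (2 + 1)) = ((q : ℤ) ^ 2) ^ 3 by ring,
        show (q : ℤ) ^ (2 * (0 + 1)) = (q : ℤ) ^ 2 by ring, hq2]
      ring
    have : c * 4 = 4 * (2 ^ 9 * M) := by exact_mod_cast h4
    omega
  have hqo : Odd q := Nat.odd_iff.2 (by omega)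
  have hMo : Odd M := by
    rw [hM]
    exact (((hqo.pow).mul (hmo.pow)).mul ⟨2 * m, by ring⟩).mul ⟨32 * m ^ 2 + 12 * m + 1, by ring⟩
  rw [hval, Nat.factorization_mul (by norm_num) hMo.pos.ne' , Finsupp.add_apply,
    Nat.Prime.factorization_pow Nat.prime_two, Finsupp.single_eq_same,
    Nat.factorization_eq_zero_of_not_dvd
      (fun h => (Nat.not_even_iff_odd.2 hMo) (even_iff_two_dvd.2 h)), add_zero]

/-- **The fusion system of `Ω₇(q)`, `q ≡ ±3 (mod 8)`.** -/
theorem omega_seven_fusion [Fintype F] (q : ℕ) (hF : Fintype.card F = q)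
    (hq : q % 8 = 3 ∨ q % 8 = 5)
    (S : Sylow 2 ↥(Cfsg.Omega F (Cfsg.quadFormOdd 3 F))) :
    (groupFusionSystem (S : Subgroup ↥(Cfsg.Omega F (Cfsg.quadFormOdd 3 F)))).autGroup
        (S : Subgroup ↥(Cfsg.Omega F (Cfsg.quadFormOdd 3 F))) =
      Cfsg.Inn ↥(S : Subgroup ↥(Cfsg.Omega F (Cfsg.quadFormOdd 3 F))) ∧
    (∀ T : Subgroup ↥(Cfsg.Omega F (Cfsg.quadFormOdd 3 F)),
      (groupFusionSystem (S : Subgroup ↥(Cfsg.Omega F (Cfsg.quadFormOdd 3 F)))).StronglyClosed T →
      T = ⊥ ∨ T = (S : Subgroup ↥(Cfsg.Omega F (Cfsg.quadFormOdd 3 F)))) ∧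
    (groupFusionSystem (S : Subgroup ↥(Cfsg.Omega F (Cfsg.quadFormOdd 3 F)))).IsSimple 2 := by
  have h2 : (2 : F) ≠ 0 := two_ne_zero_of_odd hF hq
  obtain ⟨a, ha, L, hL⟩ := exists_frame (F := F) h2
  have heq : ⇑(oddQ (F := F) 3) = Cfsg.quadFormOdd 3 F := oddQ_coe 3
  let e0 : Cfsg.isometryGroup F (Cfsg.quadFormOdd 3 F) ≃* oGroup (form a) :=
    (MulEquiv.subgroupCongr (by rw [heq])).trans
      ((isoGroupEquiv (oddQ (F := F) 3)).trans (oGroupCongr L hL).symm)
  have hcard : (Nat.card ↥(Cfsg.Omega F (Cfsg.quadFormOdd 3 F))).factorization 2 = 9 := by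
    rw [Nat.card_congr ((commutatorCongr e0).trans
      (commutatorCongr (oGroupCongr L hL))).toEquiv]
    exact factorization_card_omega q hF hq
  exact core ha h2 (commutatorCongr e0) hcard S

end CfsgLib.Quad.Seven
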