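import Cfsg.Agent.Quad.Siegel
import Cfsg.Agent.Quad.Matrices

/-!
Siegel matrices and Siegel transformations.
-/

set_option autoImplicit false
set_option linter.style.haveILetI false

namespace CfsgLib.Quad

open QuadraticMap CfsgLib.Forms Matrix

variable {F : Type*} [Field F] {ι : Type} [Fintype ι] [DecidableEq ι]

theorem isoGroupEquiv_eq_siegel_iff (Q : QuadraticForm F (ι → F)) (g : Cfsg.isometryGroup F ⇑Q)
    {u v : ι → F} (hu : Q u = 0) (hv : Q v = 0) (huv : polar Q u v = 0) (c : F) :
    isoGroupEquiv Q g = siegel Q u (c • v) ↔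
      (g.1 : Matrix ι ι F) = Cfsg.siegelMatrix ⇑Q u v c := by
  have key : ∀ x, (siegel Q u (c • v)).1 x = Cfsg.siegelMatrix ⇑Q u v c *ᵥ x := fun x => by
    rw [siegelMatrix_mulVec, siegel_apply hu (by rw [polar_smul_right, huv, smul_zero]), quad_smul,
      hv, polar_smul_right, smul_eq_mul]
    module
  rw [isoGroupEquiv_eq_iff]
  constructor
  · intro h
    refine Matrix.ext_iff_smul.mpr fun x => ?_
    rw [Matrix.smul_eq_mulVec, Matrix.smul_eq_mulVec, h, key]
  · intro h x
    rw [h, key]

/-- A Siegel transformation with singular orthogonal vectors is a commutator. -/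
theorem siegel_mem_commutatorSet {V : Type*} [AddCommGroup V] [Module F V] [FiniteDimensional F V]
    {Q : QuadraticForm F V} (hQ : (polarBilin Q).Nondegenerate) (h2 : (2 : F) ≠ 0) {u v : V}
    (hu : Q u = 0) (hv : Q v = 0) (huv : polar Q u v = 0) (c : F) :
    siegel Q u (c • v) ∈ commutatorSet (oGroup Q) := by
  by_cases hli : LinearIndependent F ![u, v]
  swap
  · have : siegel Q u (c • v) = 1 := by
      rw [LinearIndependent.pair_iff] at hli
      push Not at hli
      obtain ⟨s, t, hst, hne⟩ := hli
      refine Subtype.ext (LinearEquiv.ext fun x => ?_)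
      rw [siegel_apply hu (by rw [polar_smul_right, huv, smul_zero]), quad_smul, hv, polar_smul_right]
      change _ = x
      by_cases ht : t = 0
      · have hu0 : u = 0 := by
          rw [ht, zero_smul, add_zero] at hst
          exact (smul_eq_zero.mp hst).resolve_left fun hs => hne hs ht
        simp [hu0]
      · have hv' : v = -(t⁻¹ * s) • u := by
          have h := congrArg (t⁻¹ • ·) hst
          simp only [smul_add, smul_smul, inv_mul_cancel₀ ht, one_smul, smul_zero] at h
          rw [neg_smul]; exact eq_neg_of_add_eq_zero_right h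
        rw [hv', polar_smul_right, smul_eq_mul, smul_eq_mul]
        module
    rw [this]; exact ⟨1, 1, by simp⟩
  obtain ⟨g, hg, hgw⟩ := quad_exists_map_family hQ ![u, v] ![-u, v] hli
    (by
      rw [LinearIndependent.pair_iff] at hli ⊢
      intro s t h
      obtain ⟨a, b⟩ := hli (-s) t (by rw [← h]; module)
      exact ⟨neg_eq_zero.mp a, b⟩)
    (fun i => by fin_cases i <;> simp)
    (fun i j => by
      fin_cases i <;> fin_cases j <;> simp [polar_neg_left, polar_neg_right, huv,
        polar_comm (⇑Q) v u])
  set c' := -c / 2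
  have hea : polar Q u (c' • v) = 0 := by rw [polar_smul_right, huv, smul_zero]
  refine ⟨⟨g, hg⟩, siegel Q u (c' • v), ?_⟩
  rw [commutatorElement_def, siegel_conj _ hu hea, siegel_inv hu hea]
  have h0 : g u = -u := hgw 0
  have h1 : g v = v := hgw 1
  have hm : polar Q u ((-1 : F) • (c' • v)) = 0 := by rw [polar_smul_right, hea, smul_zero]
  change siegel Q (g u) (g (c' • v)) * _ = _
  rw [h0, map_smul, h1, ← neg_one_smul F u, siegel_smul hu hea,
    siegel_mul hu hm (by rw [polar_neg_right, hea, neg_zero])]
  congr 1
  simp only [c']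
  match_scalars
  field_simp
  ring

end CfsgLib.Quad
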